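import Mathlib
import Cfsg.Agent.CO2T.KE

/-! Facts on `Sp₆(2)` acting on its spin module. -/

set_option autoImplicit false
set_option maxRecDepth 100000
set_option Elab.async false

namespace Cfsg.Agent.CO2T

open Subgroup Cfsg.Agent.TT Cfsg.Agent.Comp.BN Cfsg.Agent.XSC

theorem K_qb {k : LB 8} (hk : k ∈ KV) {b : ℕ} (hb : b < 256) : qb (k.1 b) = qb b := by
  obtain ⟨W, rfl⟩ := (mem_gen_iff (I := fun k => k) yV_sq k).1 hk
  clear hk
  induction W with
  | nil => rfl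
  | cons a W ih =>
    rw [ev_cons, LB.mul_apply, ← ih]
    have l := LB.lt (ev yV W) hb
    by_cases h : a < 25
    · have := (allN_eq _ _).1 ((allN_eq _ _).1 (by decide +kernel : allN (fun a => allN (fun b =>
        bif' (qb (ptV [a] b)) (qb b) (bif' (qb b) false true)) 256) 25 = true) a h) _ l
      rw [ptV_eq _ l, ev_cons, ev_nil, mul_one] at this
      revert this
      cases qb ((yV a).1 _) <;> cases qb ((ev yV W).1 b) <;> simp [bif'_eq]
    · rw [yV, cut_le _ (not_lt.1 h)]; rfl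

namespace KG

theorem word (W : List ℕ) : ev yV W ∈ KV := ev_mem_gen _ W

theorem rv (W : List ℕ) : ev yV (rev W) = (ev yV W)⁻¹ := ev_rev yV_sq W

theorem low {k : LB 8} (hk : k ∈ KV) {i : ℕ} (hi : i < 4) (hf : k.1 (2 ^ i) = 2 ^ i) {b : ℕ}
    (hb : b < 256) : (k.1 b ^^^ b).testBit (7 - i) = false := by
  have h0 : ∀ i < 4, ∀ v < 256, bb v (2 ^ i) = v.testBit (7 - i) := by decide +kernel
  have h1 : 2 ^ i < 256 := (Nat.pow_lt_pow_right (by decide) hi).trans (by decide)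
  have h2 : bb (k.1 b) (k.1 (2 ^ i)) = bb b (2 ^ i) := by
    rw [bb, bb, show Nat.xor (k.1 b) (k.1 (2 ^ i)) = _ from (LB.add k hb h1).symm, K_qb hk hb,
      K_qb hk h1, K_qb hk (Nat.xor_lt_two_pow (n := 8) hb h1)]
    rfl
  rw [hf, h0 i hi _ (LB.lt k hb), h0 i hi b hb] at h2
  rw [Nat.testBit_xor, h2, Bool.xor_self]

theorem sq (k : LB 8) {b : ℕ} (hb : b < 256) :
    k.1 (k.1 b) = (k.1 (k.1 b ^^^ b) ^^^ (k.1 b ^^^ b)) ^^^ b := by
  rw [LB.add k (LB.lt k hb) hb, Nat.xor_assoc, Nat.xor_assoc, Nat.xor_xor_cancel_right,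
    Nat.xor_self, Nat.xor_zero]

/-- generators of a Sylow `2`-subgroup -/
def gS : List (List ℕ) := [[17], [18], [19], [20], [21], [3], [1], [16], [0, 1, 16, 0]]

/-- normal forms -/
noncomputable def nf (j : ℕ) : List ℕ := subst gS (bw [0, 1, 2, 3, 4, 5, 6, 7, 8] j)

/-- the Sylow `2`-subgroup -/
noncomputable def SS : Subgroup (LB 8) := genW yV gS

theorem nf_mem (j : ℕ) : ev yV (nf j) ∈ SS := ev_subst_mem _ _ _

noncomputable def tT : ℕ := nat_lit 0x7fbf9eef677bb9cee67ebf1eaf476bb1cae47dbe9e6f275ba9c6e27cbe1e2f074ba1c2e06fb79aed667b398ec66eb71aad466b318ac46db69a6d265b2986c26cb61a2d064b2182c03f9f8ee76379b8ce663e9f0ea74369b0ca643d9e8e672359a8c6623c9e0e270349a0c2602f978ae56279388e462e970aa54269308a442d968a6522592886422c960a2502492082405faf96eb657ab94ea65eaf16ab456ab14aa45dae966b255aa946a25cae162b054aa142a04fa792e9647a390e864ea712a9446a310a844da69269245a2906824ca61229044a2102801f8f86e36178b84e261e8f06a34168b04a241d8e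86632158a846221c8e06230148a042200f8782e16078380e060e8702a14068300a040d86826120582806020c8602210048200200ffffbeff6f7fbbcfe6feff3ebf4f6fb3cbe4fdfebe7f2f5fabc7e2fcfe3e3f0f4fa3c3e0eff7bafd6e7f3b8fc6eef73abd4e6f338bc4edf6ba7d2e5f2b87c2ecf63a3d0e4f2383c0bfdfaef76b7dbacf66bedf2eb74b6db2cb64bddeae772b5daac762bcde2e370b4da2c360afd7aaf56a7d3a8f46aed72ab54a6d328b44add6aa752a5d2a8742acd62a350a4d228340dfefb6fb6d7ebb4fa6deef36bb4d6eb34ba4ddeeb67b2d5eab47a2dcee363b0d4ea343a0cfe7b2f96c7e3b0f86cee732b94c6e330b84cde6b2792c5e2b0782cce632390c4e2303809fcfa6f3697cba4f269ecf26b3496cb24b249dcea673295caa47229cce2633094ca243208fc7a2f1687c3a0f068ec722b1486c320b048dc6a271285c2a07028cc62231084c220300bfdfafb7cbddeaf378b7dbadb6cb5daad368bbddaeb74b9dcae370b3d9acb64b1d8ac360afd7abb5cadd6ab358a7d3a9b4ca5d2a9348abd5aab54a9d4aa350a3d1a8b44a1d0a83409fcfa7b3c9dcea733897cba5b2c95caa53289bcda6b3499cca633093c9a4b2491c8a43208fc7a3b1c8dc6a331887c3a1b0c85c2a130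88bc5a2b1489c4a231083c1a0b0481c0a0300ffffbfbfcfdfebf3f8f7fbbdbecf5fabd3e8fbfdbebf4f9fcbe3f0f3f9bcbe4f1f8bc3e0eff7bbbdcedf6bb3d8e7f3b9bcce5f2b93c8ebf5babd4e9f4ba3d0e3f1b8bc4e1f0b83c0dfefb7bbcddeeb73b8d7ebb5bacd5eab53a8dbedb6bb4d9ecb63b0d3e9b4ba4d1e8b43a0cfe7b3b9ccde6b3398c7e3b1b8cc5e2b1388cbe5b2b94c9e4b2390c3e1b0b84c1e0b03803f9f8fa7c3d9e8f278379b8da6c359a8d2683b9d8ea74399c8e27033998ca6431988c2602f978ba5c2d968b258279389a4c2592892482b958aa5429948a250239188a442190882401f8f87a3c1d8e87238178b85a2c158a852281b8d86a34198c86230138984a241188842200f8783a1c0d8683218078381a0c0582812080b8582a14098482210038180a040180802007fbf9fafc7dbe9f2f877bb9daec75ba9d2e87bbd9eaf479bc9e2f073b99cae471b89c2e06fb79badc6db69b2d867b399acc65b2992c86bb59aad469b49a2d063b198ac461b0982c05faf97abc5dae972b857ab95aac55aa952a85bad96ab459ac962b053a994aa451a8942a04fa793a9c4da69329847a391a8c45a2912884ba592a9449a49229043a190a8441a090280dfefb77badeef373b8dbedb67b2dae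d363b0d7ebb57aad6eb353a8d3e9b47a2d2e9343a0cfe7b379acee733398cbe5b2792cae532390c7e3b178ac6e331388c3e1b0782c2e130380ffffbf7fafeff3f3f8fbfdbe7f2fafd3e3f0f7fbbd7eaf6fb3d3e8f3f9bc7e2f2f93c3e0eff7bb7daeef73b3d8ebf5ba7d2eaf53a3d0e7f3b97cae6f3393c8e3f1b87c2e2f1383c09fcfa773a9ecf273389bcda67329acd2633097cba572a96cb2532893c9a472292c9243208fc7a371a8ec7233188bc5a27128ac52231087c3a170a86c32130883c1a070282c120300bfdfaf77abedf2f378bbddae772badd2e370b7dbad76ab6db2d368b3d9ac762b2d92c360afd7ab75aaed72b358abd5aa752aad52a350a7d3a974aa6d329348a3d1a8742a2d1283405faf976ba5eaf172b85bad966b25aad162b057ab956aa56ab152a853a9946a252a9142a04fa79369a4ea7132984ba5926924aa51229047a39168a46a31128843a19068242a1102807fbf9f6fa7ebf1f2f87bbd9e6f27abd1e2f077bb9d6ea76bb1d2e873b99c6e272b91c2e06fb79b6da6eb71b2d86bb59a6d26ab51a2d067b3996ca66b3192c863b1986c262b1182c01f8f8763a1e8f072381b8d866321a8d06230178b8562a168b052281389846221289042200f878361a0e87032180b85826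120a850221007838160a0683012080381806020281002003f9f8f67a3e9f0f2783b9d8e6723a9d0e270379b8d66a369b0d26833998c66232990c2602f978b65a2e970b2582b958a6522a950a25027938964a269309248239188642229108240eff7bb9dded76fb3d8eb75fabd4e9f4ba1d1e773f9bcce5f2b91c9e3f1b89c5e170f83c0ffffbf9fdfd7eff3f8fb7dfebf4f9fcbe1f1f77bfdbecf5fabd1e9f3f9bc9e5f178fc3e0cfe7b399dcd66f3398cb65f2b94c9e4b2191c763f1b8cc5e2b1189c3e1b0985c160f0380dfefb79bddd6ef73b8db6df6bb4d9ecb61b1d76bf5bacd5eab51a9d3e9b49a5d168f43a0afd7ab95dad56eb358ab55eab54a9d4aa151a753e9b4ca5d2a9149a3d1a8945a150e8340bfdfaf97dbd5eef378bb5deeb74b9dcae171b75bedb6cb5daad169b3d9ac965b158ec3608fc7a391d8d46e33188b45e2b1489c4a21118743e1b0c85c2a110983c1a09058140e03009fcfa793d9d4ee73389b4de6b3499cca6131974be5b2c95caa512993c9a49259148e43206fb79b8dd6d36db2d86b35daad469b49a0d16733d9acc65b2990c963b1988c56130d82c07fbf9f8fd7d3edf2f87b3ddeaf479bc9e0f1773bddaec75ba9d0e973b99c8e57138dc2e04fa79389d4d26d32984b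25d2a9449a4920914723d1a8c45a29108943a1908854120d02805faf978bd5d2ed72b85b2dd6ab459ac960b1572bd5aac55aa950a953a9948a55128d42a02f978b85d2d16cb2582b15caa5429948a0512713c9a4c2592890492391888452110c82403f9f8f87d3d1ecf2783b1dcea74399c8e071371bcda6c359a8d06933998c8653118cc2600f878381d0d06c32180b05c2a140984820110703c1a0c0582810090381808050100c02001f8f8783d1d0ec72381b0dc6a34198c86031170bc5a2c158a850291389848251108c4220f7fbbdbecf5fabd3e8f3f9bcbe4f1f8bc3e0ffffbfbfcfdfebf3f8fbfdbebf4f9fcbe3f0e7f3b9bcce5f2b93c8e3f1b8bc4e1f0b83c0eff7bbbdcedf6bb3d8ebf5babd4e9f4ba3d0d7ebb5bacd5eab53a8d3e9b4ba4d1e8b43a0dfefb7bbcddeeb73b8dbedb6bb4d9ecb63b0c7e3b1b8cc5e2b1388c3e1b0b84c1e0b0380cfe7b3b9ccde6b3398cbe5b2b94c9e4b2390b7dbadb6cb5daad368b3d9acb64b1d8ac360bfdfafb7cbddeaf378bbddaeb74b9dcae370a7d3a9b4ca5d2a9348a3d1a8b44a1d0a8340afd7abb5cadd6ab358abd5aab54a9d4aa35097cba5b2c95caa532893c9a4b2491c8a43209fcfa7b3c9dcea73389bcda6b3499cca633087c3a1b0c85c2a1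30883c1a0b0481c0a03008fc7a3b1c8dc6a33188bc5a2b1489c4a231077bb9daec75ba9d2e873b99cae471b89c2e07fbf9fafc7dbe9f2f87bbd9eaf479bc9e2f067b399acc65b2992c863b198ac461b0982c06fb79badc6db69b2d86bb59aad469b49a2d057ab95aac55aa952a853a994aa451a8942a05faf97abc5dae972b85bad96ab459ac962b047a391a8c45a29128843a190a8441a0902804fa793a9c4da6932984ba592a9449a492290379b8da6c359a8d26833998ca6431988c2603f9f8fa7c3d9e8f2783b9d8ea74399c8e270279389a4c259289248239188a442190882402f978ba5c2d968b2582b958aa5429948a250178b85a2c158a85228138984a241188842201f8f87a3c1d8e872381b8d86a34198c86230078381a0c058281208038180a040180802000f8783a1c0d86832180b8582a14098482210fbfdbebf4f9fcbe3f0ffffbfbfcfdfebf3f8f3f9bcbe4f1f8bc3e0f7fbbdbecf5fabd3e8ebf5babd4e9f4ba3d0eff7bbbdcedf6bb3d8e3f1b8bc4e1f0b83c0e7f3b9bcce5f2b93c8dbedb6bb4d9ecb63b0dfefb7bbcddeeb73b8d3e9b4ba4d1e8b43a0d7ebb5bacd5eab53a8cbe5b2b94c9e4b2390cfe7b3b9ccde6b3398c3e1b0b84c1e0b0380c7e3b1b8cc5e2b1388bbddaeb74b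9dcae370bfdfafb7cbddeaf378b3d9acb64b1d8ac360b7dbadb6cb5daad368abd5aab54a9d4aa350afd7abb5cadd6ab358a3d1a8b44a1d0a8340a7d3a9b4ca5d2a93489bcda6b3499cca63309fcfa7b3c9dcea733893c9a4b2491c8a432097cba5b2c95caa53288bc5a2b1489c4a23108fc7a3b1c8dc6a331883c1a0b0481c0a030087c3a1b0c85c2a13087bbd9eaf479bc9e2f07fbf9fafc7dbe9f2f873b99cae471b89c2e077bb9daec75ba9d2e86bb59aad469b49a2d06fb79badc6db69b2d863b198ac461b0982c067b399acc65b2992c85bad96ab459ac962b05faf97abc5dae972b853a994aa451a8942a057ab95aac55aa952a84ba592a9449a4922904fa793a9c4da69329843a190a8441a09028047a391a8c45a2912883b9d8ea74399c8e2703f9f8fa7c3d9e8f27833998ca6431988c260379b8da6c359a8d2682b958aa5429948a2502f978ba5c2d968b258239188a44219088240279389a4c2592892481b8d86a34198c862301f8f87a3c1d8e87238138984a24118884220178b85a2c158a852280b8582a140984822100f8783a1c0d8683218038180a04018080200078381a0c058281208fdfebf3f8ffffbfbfcf9fcbe3f0fbfdbebf4f5fabd3e8f7fbbdbecf1f8bc3e0f3f9bcbe4edf6b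b3d8eff7bbbdce9f4ba3d0ebf5babd4e5f2b93c8e7f3b9bcce1f0b83c0e3f1b8bc4ddeeb73b8dfefb7bbcd9ecb63b0dbedb6bb4d5eab53a8d7ebb5bacd1e8b43a0d3e9b4ba4cde6b3398cfe7b3b9cc9e4b2390cbe5b2b94c5e2b1388c7e3b1b8cc1e0b0380c3e1b0b84bddeaf378bfdfafb7cb9dcae370bbddaeb74b5daad368b7dbadb6cb1d8ac360b3d9acb64add6ab358afd7abb5ca9d4aa350abd5aab54a5d2a9348a7d3a9b4ca1d0a8340a3d1a8b449dcea73389fcfa7b3c99cca63309bcda6b3495caa532897cba5b2c91c8a432093c9a4b248dc6a33188fc7a3b1c89c4a23108bc5a2b1485c2a130887c3a1b0c81c0a030083c1a0b047dbe9f2f87fbf9fafc79bc9e2f07bbd9eaf475ba9d2e877bb9daec71b89c2e073b99cae46db69b2d86fb79badc69b49a2d06bb59aad465b2992c867b399acc61b0982c063b198ac45dae972b85faf97abc59ac962b05bad96ab455aa952a857ab95aac51a8942a053a994aa44da6932984fa793a9c49a4922904ba592a9445a29128847a391a8c41a09028043a190a843d9e8f2783f9f8fa7c399c8e2703b9d8ea74359a8d268379b8da6c31988c26033998ca642d968b2582f978ba5c29948a2502b958aa54259289248279389a4c219088240239188a44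1d8e872381f8f87a3c198c862301b8d86a34158a85228178b85a2c118884220138984a240d86832180f8783a1c0984822100b8582a14058281208078381a0c018080200038180a04feff3fffefcfe3f7fafafd3eff6f8fc3e7f2f6fb3dfeef4fa3d7eaf2f93cfe6f0f83c7e2eef73bfdeecf63b7daeaf53afd6e8f43a7d2e6f339fcee4f2397cae2f138fc6e0f0387c2deef37fbedcee377badaed36fb6d8ec367b2d6eb35faed4ea357aad2e934fa6d0e8347a2cee733f9ecce63379acae532f96c8e432792c6e331f8ec4e23178ac2e130f86c0e030782bedf2ff7ebcde2f77abadd2ef76b8dc2e772b6db2df6eb4da2d76ab2d92cf66b0d82c762aed72bf5eacd62b75aaad52af56a8d42a752a6d329f4ea4d22974aa2d128f46a0d0287429ecf27f3e9cce2773a9acd26f3698cc2673296cb25f2e94ca2572a92c924f2690c8247228ec723f1e8cc62371a8ac522f1688c42271286c321f0e84c22170a82c120f0680c0207027ebf1fefe7cbe1f6fa7abd1eef678bc1e6f276bb1deee74ba1d6ea72b91cee670b81c6e26eb71bede6cb61b6da6ab51aed668b41a6d266b319ece64b2196ca62b118ec660b0186c25eaf17ebe5cae176ba5aad16eb658ac166b256ab15eae54aa156aa52a914ea650a8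146a24ea713e9e4ca61369a4aa512e9648a41269246a311e8e44a21168a42a110e8640a0106823e9f0fe7e3c9e0f67a3a9d0ee76389c0e672369b0de6e349a0d66a32990ce6630980c6622e970be5e2c960b65a2a950ae5628940a652269309e4e24920964a229108e462090086421e8f07e3e1c8e0763a1a8d06e36188c06632168b05e2e148a0562a128904e261088046220e8703e1e0c860361a0a8502e16088402612068301e0e04820160a028100e06008000602ff7fff9fdfd7eff1f9fb7dfe9f5f97cfe1f1f77bfd9edf57afd1e9f379fc9e5f178fc1e1ef77fb9dded76fb1d9eb75fa9d5e974fa1d1e773f99cde572f91c9e371f89c5e170f81c1df6ff79bddd6ef71b9db6df69b5d96cf61b1d76bf59add56af51a9d369f49a5d168f41a1cf67f399dcd66f3199cb65f2995c964f2191c763f198dc562f1189c361f0985c160f0181bf5fef97dbd5eef179bb5dee975b95cee171b75bed96db55aed169b359ec965b158ec161af57eb95dad56eb159ab55ea955a954ea151a753e994da552e9149a351e8945a150e81419f4fe793d9d4ee71399b4de6935994ce6131974be592d954ae51299349e49259148e41218f47e391d8d46e31198b45e29158944e21118743e190d8542e11098341e090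58140e01017f3fdf8fd7d3edf0f97b3dde8f5793cde0f1773bdd8ed753add0e97339dc8e57138dc0e16f37db8dd6d36db0d96b35da8d56934da0d16733d98cd6532d90c96331d88c56130d80c15f2fd78bd5d2ed70b95b2dd68b5592cd60b1572bd58ad552ad50a95329d48a55128d40a14f27d389d4d26d30994b25d28954924d20914723d188d4522d10894321d08854120d00813f1fcf87d3d1ecf0793b1dce875391cce071371bcd86d351acd0693319cc8653118cc0612f17cb85d2d16cb0592b15ca8552914ca0512713c984d2512c90492311c88452110c80411f0fc783d1d0ec70391b0dc6835190cc6031170bc582d150ac50291309c48251108c40210f07c381d0d06c30190b05c28150904c20110703c180d0502c10090301c08050100c0001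

theorem hcl : allN (fun g => band (eqC valV (appendL (nth [] gS g) (nth [] gS g)) [])
    (allN (fun j => eqC valV (appendL (nth [] gS g) (nf j))
      (Comp.force (dg 9 tT (Nat.add (Nat.mul g 512) j)) nf)) 512)) 9 = true := by
  decide +kernel

theorem mem_S {k : LB 8} (hk : k ∈ SS) : ∃ j < 512, k = ev yV (nf j) := by
  have h := (allN_eq _ _).1 hcl
  simp only [band_eq, allN_eq, orcV.eq_iff, appendL_eq, ev_append, Comp.force_eq, ev_nil] at h
  have h1 : ∀ g, subT yV gS g * subT yV gS g = 1 := fun g => by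
    by_cases c : g < 9
    · exact (h g c).1
    · rw [subT, nth_of_le _ _ _ (not_lt.1 c)]; exact one_mul 1
  rw [SS, genW_eq] at hk
  obtain ⟨W, rfl⟩ := (mem_gen_iff (I := fun k => k) h1 k).1 hk
  clear hk
  induction W with
  | nil => exact ⟨0, by decide, rfl⟩
  | cons a W ih =>
    obtain ⟨j, l, e⟩ := ih
    rw [ev_cons, e]
    by_cases c : a < 9
    · exact ⟨_, dg_lt 9 _ _, (h a c).2 j l⟩
    · exact ⟨j, l, by rw [subT, nth_of_le _ _ _ (not_lt.1 c)]; exact one_mul _⟩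

noncomputable def ord : List (List ℕ) := [[0], [28], [19], [15], [481], [494], [498], [509], [30], [2], [13], [17], [511], [496], [492], [483], [7], [27], [20], [8], [486], [489], [501], [506], [25], [5], [10], [22], [504], [503], [491], [484],
  [31], [3], [12], [16], [510], [497], [493], [482], [1], [29], [18], [14], [480], [495], [499], [508], [24], [4], [11], [23], [505], [502], [490], [485], [6], [26], [21], [9], [487], [488], [500], [507],
  [225], [250], [236], [247], [256], [278], [269], [283], [255], [228], [242], [233], [286], [264], [275], [261], [230], [253], [235], [240], [263], [273], [266], [284], [248], [227], [245], [238], [281], [271], [276], [258],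
  [254], [229], [243], [232], [287], [265], [274], [260], [224], [251], [237], [246], [257], [279], [268], [282], [249], [226], [244], [239], [280], [270], [277], [259], [231], [252], [234], [241], [262], [272], [267], [285],
  [33], [60], [50], [47], [448], [462], [467], [477], [63], [34], [44], [49], [478], [464], [461], [451], [38], [59], [53], [40], [455], [457], [468], [474], [56], [37], [43], [54], [473], [471], [458], [452],
  [32], [61], [51], [46], [449], [463], [466], [476], [62], [35], [45], [48], [479], [465], [460], [450], [39], [58], [52], [41], [454], [456], [469], [475], [57], [36], [42], [55], [472], [470], [459], [453],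
  [192], [218], [205], [215], [289], [310], [300], [315], [222], [196], [211], [201], [319], [296], [306], [293], [199], [221], [202], [208], [294], [305], [299], [316], [217], [195], [212], [206], [312], [303], [309], [290],
  [193], [219], [204], [214], [288], [311], [301], [314], [223], [197], [210], [200], [318], [297], [307], [292], [198], [220], [203], [209], [295], [304], [298], [317], [216], [194], [213], [207], [313], [302], [308], [291],
  [128], [156], [139], [151], [353], [374], [362], [381], [158], [130], [149], [137], [383], [360], [372], [355], [135], [155], [140], [144], [358], [369], [365], [378], [153], [133], [146], [142], [376], [367], [371], [356],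
  [152], [132], [147], [143], [377], [366], [370], [357], [134], [154], [141], [145], [359], [368], [364], [379], [159], [131], [148], [136], [382], [361], [373], [354], [129], [157], [138], [150], [352], [375], [363], [380],
  [97], [122], [116], [111], [384], [398], [405], [411], [127], [100], [106], [113], [414], [400], [395], [389], [102], [125], [115], [104], [391], [393], [402], [412], [120], [99], [109], [118], [409], [407], [396], [386],
  [121], [98], [108], [119], [408], [406], [397], [387], [103], [124], [114], [105], [390], [392], [403], [413], [126], [101], [107], [112], [415], [401], [394], [388], [96], [123], [117], [110], [385], [399], [404], [410],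
  [64], [90], [85], [79], [417], [430], [436], [443], [94], [68], [75], [81], [447], [432], [426], [421], [71], [93], [82], [72], [422], [425], [435], [444], [89], [67], [76], [86], [440], [439], [429], [418],
  [70], [92], [83], [73], [423], [424], [434], [445], [88], [66], [77], [87], [441], [438], [428], [419], [65], [91], [84], [78], [416], [431], [437], [442], [95], [69], [74], [80], [446], [433], [427], [420],
  [161], [188], [170], [183], [320], [342], [331], [349], [191], [162], [180], [169], [350], [328], [341], [323], [166], [187], [173], [176], [327], [337], [332], [346], [184], [165], [179], [174], [345], [335], [338], [324],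
  [167], [186], [172], [177], [326], [336], [333], [347], [185], [164], [178], [175], [344], [334], [339], [325], [160], [189], [171], [182], [321], [343], [330], [348], [190], [163], [181], [168], [351], [329], [340], [322]]

theorem hord : incC (fun W => valV (nf (nth 0 W 0))) ord 0 = true := by decide +kernel

theorem card_S : Nat.card SS = 512 := by
  classical
  refine le_antisymm ?_ ?_
  · refine (Nat.card_le_card_of_surjective (fun j : Fin 512 => (⟨_, nf_mem j⟩ : SS)) ?_).trans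
      (by simp)
    rintro ⟨k, hk⟩
    obtain ⟨j, l, rfl⟩ := mem_S hk
    exact ⟨⟨j, l⟩, rfl⟩
  · have h1 : (ord.map fun W => (⟨_, nf_mem (nth 0 W 0)⟩ : SS)).Nodup :=
      List.pairwise_map.2 ((List.pairwise_map.1 (incC_spec hord).2).imp fun h e =>
        h ((orcV _ _).2 (congrArg Subtype.val e)))
    have := Fintype.ofFinite SS
    have h2 := h1.length_le_card
    rwa [List.length_map, ← Nat.card_eq_fintype_card, show ord.length = 512 by decide +kernel] at h2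

theorem S_le : SS ≤ KV := genW_le fun W _ => word W

theorem le_S (hK : Nat.card KV = 1451520) {A : Subgroup (LB 8)} (hA : A ≤ KV) (h2 : IsPGroup 2 A)
    (hn : ∀ W ∈ gS, ∀ a ∈ A, ev yV W * a * (ev yV W)⁻¹ ∈ A) : A ≤ SS := by
  have hS : IsPGroup 2 SS := IsPGroup.of_card (n := 9) card_S
  obtain ⟨n, e⟩ := IsPGroup.iff_card.1 (h2.to_sup_of_normal_left' hS
    (genW_le fun W m => mem_normalizer_fintype (hn W m)))
  have d := card_dvd_of_le (sup_le hA S_le)
  rw [e, hK] at d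
  have l : n ≤ 9 := by
    by_contra c
    exact absurd ((pow_dvd_pow 2 (show 10 ≤ n by omega)).trans d) (by decide)
  rw [eq_of_le_of_card_ge (le_sup_right : SS ≤ A ⊔ SS) (by
    rw [e, card_S]; exact Nat.pow_le_pow_right (by decide) l)]
  exact le_sup_left

theorem conj_S (hK : Nat.card KV = 1451520) {H : Subgroup (LB 8)} (hS : SS ≤ H) (hH : H ≤ KV)
    {k : LB 8} (hk : k ∈ H) (e : k ^ 4 = 1) : ∃ g ∈ H, g * k * g⁻¹ ∈ SS := by
  have e' : (⟨k, hk⟩ : H) ^ 4 = 1 := Subtype.ext e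
  have hP : IsPGroup 2 (zpowers (⟨k, hk⟩ : H)) := fun ⟨_, n, rfl⟩ => ⟨2, Subtype.ext (by
    change ((⟨k, hk⟩ : H) ^ n) ^ 4 = 1
    rw [← zpow_natCast, ← zpow_mul, mul_comm, zpow_mul, zpow_natCast, e', one_zpow])⟩
  obtain ⟨a, ha⟩ := hP.nonempty_fixed_point_of_prime_not_dvd_card (H ⧸ SS.subgroupOf H) fun d => by
    have d1 := card_dvd_of_le hH
    rw [hK, ← (SS.subgroupOf H).card_mul_index, Nat.card_congr (subgroupOfEquivOfLe hS).toEquiv,
      card_S] at d1
    exact absurd ((Nat.mul_dvd_mul_left 512 d).trans d1) (by decide)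
  obtain ⟨g, rfl⟩ := QuotientGroup.mk_surjective a
  have := QuotientGroup.eq.1 (ha ⟨_, mem_zpowers _⟩).symm
  exact ⟨(g⁻¹ : H), (g⁻¹).2, by simpa [mul_assoc, mem_subgroupOf] using this⟩

noncomputable def c1 : List (List ℕ) := [[], [], [2], [3, 2], [1, 2], [3, 1, 2], [4, 24, 4], [4, 21, 19, 24, 0, 1, 2], [0, 1, 2], [3, 0, 1, 2], [4, 0, 24, 4], [16, 4, 1, 0, 24, 4], [4, 1, 0, 24, 4], [16, 4, 0, 24, 4], [16, 3, 0, 1, 2], [16, 0, 1, 2],
  [16, 0, 1, 2], [16, 3, 0, 1, 2], [16, 4, 0, 24, 4], [4, 1, 0, 24, 4], [16, 4, 1, 0, 24, 4], [4, 0, 24, 4], [3, 0, 1, 2], [0, 1, 2], [0, 16, 4, 1, 0, 24, 4], [4, 24, 4], [3, 1, 2], [1, 2], [3, 2], [2], [], [],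
  [4, 5, 3, 4], [18, 4, 5, 3, 4], [], [], [], [], [24, 18], [4, 24, 4], [], [], [0, 24, 18], [4, 0, 24, 4], [1, 0, 24, 18], [4, 1, 0, 24, 4], [], [],
  [], [], [24, 21, 4, 18], [16, 4, 0, 24, 4], [24, 21, 3, 4, 18], [16, 4, 1, 0, 24, 4], [], [], [0, 24, 21, 3, 4, 18], [0, 16, 4, 1, 0, 24, 4], [], [], [], [], [4, 5, 3, 4], [18, 4, 5, 3, 4],
  [24, 18, 4, 5, 3, 4], [], [], [], [], [], [4, 24, 5, 3, 4], [18], [0, 1, 2, 1, 0], [4, 20, 4, 24, 0], [], [], [], [], [18, 0, 1, 2, 1, 0], [4, 0, 24, 4, 2, 0],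
  [24, 21, 18, 4, 18], [4, 21, 4, 21, 4], [], [], [], [], [18, 24, 21, 18, 4, 18], [24, 21, 4, 19, 4, 2], [4, 24, 0, 16, 1, 0, 24, 4], [18, 4, 24, 5, 3, 4], [], [], [], [], [0, 24, 21, 18, 4, 17, 5, 4, 2], [4, 24, 5, 3, 4],
  [24], [20, 24], [], [], [], [], [20, 18, 24], [18, 24], [], [], [], [], [], [], [], [],
  [], [], [], [], [], [], [], [], [20, 18, 4, 5, 3, 4], [18, 4, 5, 3, 4], [], [], [], [], [4, 5, 3, 4], [20, 4, 5, 3, 4],
  [20, 24], [0, 16, 1, 0], [0, 16, 2, 1, 0], [0, 16, 3, 2, 1, 0], [1, 0, 16, 2, 1, 0], [1, 0, 16, 3, 2, 1, 0], [4, 24, 0, 16, 4, 1, 0], [4, 21, 19, 24, 0, 1, 2], [], [], [], [], [], [], [], [],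
  [], [], [], [], [], [], [], [], [24], [20, 0, 16, 1, 0], [20, 0, 16, 2, 1, 0], [20, 0, 16, 3, 2, 1, 0], [20, 1, 0, 16, 2, 1, 0], [20, 1, 0, 16, 3, 2, 1, 0], [24, 20, 18, 4, 5, 3, 4], [20, 4, 21, 19, 24, 0, 1, 2],
  [0, 24, 21, 3, 4], [18, 0, 24, 21, 3, 4], [], [], [], [], [4, 5, 3, 4, 18], [18, 4, 5, 3, 4, 18], [], [], [], [], [], [], [], [],
  [], [], [], [], [], [], [], [], [24, 18, 4, 5, 3, 4], [4, 21, 20, 3, 4], [], [], [], [], [20, 18, 4, 5, 3, 4, 18], [20, 4, 5, 3, 4, 18],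
  [20, 24, 4, 5, 3, 4], [18, 24, 4, 5, 3, 4, 18], [], [], [], [], [20, 18, 24, 4, 5, 3, 4], [24, 4, 5, 3, 4, 18], [], [], [], [], [], [], [], [],
  [], [], [], [], [], [], [], [], [24, 4, 5, 3, 4], [20, 18, 24, 4, 5, 3, 4, 18], [], [], [], [], [18, 24, 4, 5, 3, 4], [20, 24, 4, 5, 3, 4, 18],
  [24, 0, 16, 1, 0], [20, 24], [], [], [], [], [20, 18, 24], [18, 24, 0, 16, 1, 0], [], [], [], [], [], [], [], [],
  [], [], [], [], [], [], [], [], [24], [4, 21, 24, 1, 0], [], [], [], [], [18, 4, 21, 24, 1, 0], [18, 24],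
  [19, 0, 24, 4, 5, 3, 4], [18, 0, 24, 4, 5, 3, 4, 18], [], [], [], [], [], [], [], [], [4, 24, 21, 17, 4, 20, 4], [0, 24, 4, 5, 3, 4, 18], [], [], [], [],
  [], [], [], [], [0, 24, 4, 5, 3, 4], [4, 24, 17, 5, 4, 20, 4, 18], [], [], [], [], [], [], [], [], [4, 20, 4, 17, 5, 4, 2], [19, 0, 24, 4, 5, 3, 4, 18],
  [0, 24, 0, 16, 1, 0], [19, 0, 24], [], [], [], [], [], [], [], [], [24, 21, 3, 4], [18, 0, 24, 0, 16, 1, 0], [], [], [], [],
  [], [], [], [], [0, 24], [4, 21, 0, 24, 1, 0], [], [], [], [], [], [], [], [], [18, 4, 21, 0, 24, 1, 0], [18, 0, 24],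
  [], [], [], [], [], [], [], [], [], [], [], [], [], [], [], [],
  [], [], [], [], [], [], [], [], [], [], [], [], [], [], [], [],
  [], [], [], [], [], [], [], [], [], [], [], [], [], [], [], [],
  [], [], [], [], [], [], [], [], [], [], [], [], [], [], [], [],
  [], [], [], [], [], [], [], [], [], [], [], [], [], [], [], [],
  [], [], [], [], [], [], [], [], [], [], [], [], [], [], [], [],
  [], [], [], [], [], [], [], [], [], [], [], [], [], [], [], [],
  [], [], [], [], [], [], [], [], [], [], [], [], [], [], [], [],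
  [18, 1, 0, 24, 4, 5, 3, 4], [19, 1, 0, 24, 4, 5, 3, 4, 18], [], [], [], [], [], [], [], [], [], [], [16, 0, 24, 4, 5, 3, 4], [1, 0, 24, 4, 5, 3, 4, 18], [], [],
  [], [], [1, 0, 24, 4, 5, 3, 4], [16, 0, 24, 4, 5, 3, 4, 18], [], [], [], [], [], [], [], [], [], [], [4, 21, 4, 17, 5, 4, 2], [4, 18, 5, 4, 21, 4, 2, 1, 0],
  [1, 0, 24, 0, 16, 1, 0], [19, 24, 21, 4], [], [], [], [], [], [], [], [], [], [], [24, 21, 4], [4, 19, 24, 21, 4, 1, 0], [], [],
  [], [], [1, 0, 24], [4, 21, 18, 3, 4, 1, 0], [], [], [], [], [], [], [], [], [], [], [19, 4, 21, 18, 3, 4, 1, 0], [18, 24, 21, 4]]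

theorem h1 : allN (fun j => bor (neC valV (appendL (nf j) (nf j)) []) (bor (Nat.beq j 0)
    (anyL (fun U => eqC valV (appendL (nf j) (nth [] c1 j)) (appendL (nth [] c1 j) U))
      [[5], [17], alw, [1, 17]]))) 512 = true := by
  decide +kernel

noncomputable def c2 : List (List ℕ) := [[], [], [1, 0], [0], [1, 2], [2], [4, 24, 4, 0], [24, 18, 24, 0], [3, 2, 1, 0], [1, 2, 0], [2, 1, 0], [0, 1, 2, 0], [3, 2, 0], [1, 2, 1, 0], [3, 1, 2, 1, 0], [2, 0],
  [3, 4], [4], [19, 24, 0], [18, 24, 0], [19, 4], [18, 4], [21, 4], [24, 0], [], [], [], [], [], [], [], [],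
  [3, 4, 1, 0], [19, 18, 4, 1, 0], [4, 1, 0], [4, 18, 24, 0], [], [], [], [], [21, 4, 1, 0], [19, 4, 1, 0], [18, 4, 1, 0], [20, 4, 1, 0], [], [], [], [],
  [3, 4, 0], [19, 18, 4, 0], [21, 18, 4, 0], [4, 0], [], [], [], [], [], [], [], [], [20, 4, 0], [19, 4, 0], [21, 4, 0], [18, 4, 0],
  [5, 4, 1, 2], [3, 4, 2], [], [], [4, 1, 2], [4, 18, 4], [], [], [21, 4, 1, 2], [24, 1, 2, 0], [], [], [24, 3, 2, 0], [21, 3, 4, 2], [], [],
  [5, 4, 2], [17, 4, 2], [], [], [19, 4, 2], [4, 2], [], [], [], [], [19, 24, 2, 0], [24, 2, 0], [], [], [21, 4, 2], [17, 24, 2, 0],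
  [5, 24, 4, 0], [17, 24, 4, 0], [], [], [], [], [24, 4, 0], [4, 24, 0], [19, 4, 24, 0], [19, 24, 4, 0], [], [], [], [], [18, 4, 24, 0], [18, 24, 4, 0],
  [3, 4, 24, 0], [24, 3, 4, 0], [], [], [], [], [4, 21, 4], [24, 4, 1, 0], [], [], [18, 24, 4, 1, 0], [18, 4, 21, 4], [19, 4, 21, 4], [19, 24, 4, 1, 0], [], [],
  [5, 4, 3, 2, 1, 0], [], [3, 4, 2, 1, 0], [], [19, 4, 3, 2, 1, 0], [], [20, 3, 4, 2, 1, 0], [], [4, 3, 2, 1, 0], [], [4, 18, 4, 1, 0], [], [4, 24, 3, 2, 0], [], [24, 4, 21, 4, 0], [],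
  [5, 4, 1, 2, 0], [], [17, 4, 1, 2, 0], [], [21, 4, 20, 4, 1, 0], [], [21, 4, 1, 2, 0], [], [], [4, 1, 2, 0], [], [4, 20, 4, 1, 0], [], [4, 21, 3, 4, 2], [], [18, 4, 1, 2, 0],
  [5, 4, 2, 1, 0], [], [17, 4, 2, 1, 0], [], [], [19, 17, 4, 2, 1, 0], [], [20, 4, 2, 1, 0], [21, 4, 2, 1, 0], [], [4, 2, 1, 0], [], [], [19, 4, 2, 1, 0], [], [4, 17, 24, 2, 0],
  [2, 3, 4, 24, 0], [], [3, 4, 1, 2, 0], [], [], [24, 5, 4, 2, 0], [], [17, 4, 21, 4, 2], [], [4, 19, 4, 1, 0], [], [24, 4, 2, 1, 0], [19, 4, 21, 4, 2], [], [4, 21, 4, 2], [],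
  [5, 4, 3, 2, 0], [], [], [3, 4, 2, 0], [19, 4, 3, 2, 0], [], [], [21, 3, 4, 2, 0], [21, 4, 3, 2, 0], [], [], [0, 24, 1, 2, 0], [4, 3, 2, 0], [], [], [4, 18, 4, 0],
  [3, 4, 19, 4, 0], [], [], [24, 3, 4, 2, 0], [20, 4, 21, 4, 0], [], [], [3, 4, 24, 2, 0], [], [4, 24, 1, 2, 0], [18, 4, 1, 2, 1, 0], [], [], [4, 1, 2, 1, 0], [4, 21, 4, 0], [],
  [5, 24, 4, 2, 0], [], [], [17, 24, 4, 2, 0], [], [18, 24, 4, 2, 0], [17, 4, 24, 2, 0], [], [19, 4, 24, 2, 0], [], [], [4, 24, 2, 0], [], [4, 19, 4, 0], [24, 4, 2, 0], [],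
  [5, 4, 2, 0], [], [], [17, 4, 2, 0], [], [19, 17, 4, 2, 0], [21, 4, 2, 0], [], [], [19, 4, 2, 0], [21, 17, 4, 2, 0], [], [20, 4, 2, 0], [], [], [4, 2, 0]]

theorem h2 : allN (fun b => bor (Nat.beq b 0) (bor (qb b) (Nat.beq (ptV (nth [] c2 b) 1) b))) 256 =
    true := by
  decide +kernel

noncomputable def inU (x : ℕ) : Bool := anyL (Nat.beq x) [0, 1, 2, 3, 4, 5, 6, 7, 16, 17, 18, 19, 20, 21, 22, 23]

noncomputable def cD : List (List (List ℕ)) := [[], [], [[], [0, 1, 16, 0, 24, 18, 24], [20, 24]], [[1], [0, 1, 16, 0, 24, 19, 24], [21, 24]], [[24, 18, 24, 0, 1, 16, 0], [], [20, 18, 24, 0, 1, 16, 0]], [[24, 19, 24, 0, 1, 16, 0], [1], [21, 18, 24, 0, 1, 16, 0]], [[24, 18, 24], [0, 1, 16, 0], [20, 18, 24]], [[24, 19, 24], [0, 1, 16, 0, 3], [21, 18, 24]], [[24, 1]], [[24, 1]], [[24, 1]], [[24, 1]], [[24, 1]], [[24, 1]], [[24, 1]], [[24, 1]],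
  [[24, 20], [0, 1, 16, 0, 24, 20, 18], []], [[24, 21], [0, 1, 16, 0, 24, 21, 18], [3]], [[24, 18], [0, 1, 16, 0, 24], [20, 18]], [[24, 19], [0, 1, 16, 0, 24, 1], [21, 18]], [[24, 20, 18], [0, 1, 16, 0, 24, 20], [18]], [[24, 21, 18], [0, 1, 16, 0, 24, 21], [19]], [[24], [0, 1, 16, 0, 24, 18], [20]], [[24, 5], [0, 1, 16, 0, 24, 19], [21]], [], [], [], [], [], [], [], [],
  [[18, 1]], [[18, 1]], [[18, 1]], [[18, 1]], [], [], [], [], [[18, 1]], [[18, 1]], [[18, 1]], [[18, 1]], [], [], [], [],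
  [[18, 1]], [[18, 1]], [[18, 1]], [[18, 1]], [], [], [], [], [], [], [], [], [[18, 1]], [[18, 1]], [[18, 1]], [[18, 1]],
  [[20, 1]], [[20, 1]], [], [], [[20, 1]], [[20, 1]], [], [], [[20, 1]], [[20, 1]], [], [], [[20, 1]], [[20, 1]], [], [],
  [[20, 1]], [[20, 1]], [], [], [[20, 1]], [[20, 1]], [], [], [], [], [[20, 1]], [[20, 1]], [], [], [[20, 1]], [[20, 1]],
  [[18, 3]], [[18, 3]], [], [], [], [], [[18, 3]], [[18, 3]], [[18, 3]], [[18, 3]], [], [], [], [], [[18, 3]], [[18, 3]],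
  [[18, 3]], [[18, 3]], [], [], [], [], [[18, 3]], [[18, 3]], [], [], [[18, 3]], [[18, 3]], [[18, 3]], [[18, 3]], [], [],
  [], [], [], [], [], [], [], [], [], [], [], [], [], [], [], [],
  [], [], [], [], [], [], [], [], [], [], [], [], [], [], [], [],
  [], [], [], [], [], [], [], [], [], [], [], [], [], [], [], [],
  [], [], [], [], [], [], [], [], [], [], [], [], [], [], [], [],
  [], [], [], [], [], [], [], [], [], [], [], [], [], [], [], [],
  [], [], [], [], [], [], [], [], [], [], [], [], [], [], [], [],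
  [], [], [], [], [], [], [], [], [], [], [], [], [], [], [], [],
  [], [], [], [], [], [], [], [], [], [], [], [], [], [], [], []]

theorem hD : allN (fun d => band (allL (fun W => Nat.beq (ptV W 1) 1) (nth [] cD d))
    (bor (bor (qb d) (qb (Nat.xor d 1))) (bif' (inU d) (bor (Nat.blt d 2)
      (allL (fun t => anyL (fun W => Nat.beq (ptV W d) t) (nth [] cD d)) [2, 4, 16]))
      (qb (xs ptV d (nth [] cD d)))))) 256 = true := by
  decide +kernel

theorem h8 : allN (fun j => bor (anyL (Nat.beq j) [0, 7, 25, 30, 225, 230, 248, 255])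
    (anyL (fun b => Nat.ble 2 (Nat.xor (ptV (nf j) b) b)) [2, 4, 8, 16, 32, 64])) 512 = true := by
  decide +kernel

/-- a product of conjugates -/
noncomputable def prW (x : List ℕ) (ws : List (List ℕ)) : List ℕ :=
  List.rec (motive := fun _ => List ℕ) []
    (fun W _ ih => appendL W (appendL x (appendL (rev W) ih))) ws

theorem prW_mem {A : Subgroup (LB 8)} {x : List ℕ} {ws : List (List ℕ)}
    (h : ∀ W ∈ ws, ev yV W * ev yV x * (ev yV W)⁻¹ ∈ A) : ev yV (prW x ws) ∈ A := by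
  induction ws with
  | nil => exact one_mem _
  | cons W ws ih =>
    change ev yV (appendL W (appendL x (appendL (rev W) (prW x ws)))) ∈ A
    simp only [appendL_eq, ev_append, rv, ← mul_assoc]
    exact mul_mem (h W List.mem_cons_self) (ih fun V m => h V (List.mem_cons_of_mem _ m))

noncomputable def cA : List (List (List ℕ)) := [[], [[], [24, 18, 24]], [], [], [], [], [[], [24, 18, 24]], [[]], [], [], [], [], [], [], [], [], [], [], [], [], [], [], [], [], [[], [0, 1, 16, 0]], [[]], [], [], [], [], [[]], [[], [24], [20, 24]],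
  [[], [18], [24, 0, 1, 16, 0, 18, 24, 18]], [[], [18], [24, 0, 1, 16, 0, 18, 24]], [], [], [], [], [[], [0, 1, 16, 0]], [[], [0, 1, 16, 0]], [], [], [], [], [], [], [], [], [], [], [], [], [], [], [], [], [[], [18, 24, 18]], [[], [24]], [], [], [], [], [[], [24]], [[], [18, 24, 18]],
  [[], [18], [24, 0, 1, 16, 0, 18]], [[], [18, 24, 0, 1, 16, 0, 24, 18]], [], [], [], [], [[], [18], [24, 0, 1, 16, 0]], [[], [24, 0, 1, 16, 0, 24]], [], [], [], [], [], [], [], [], [], [], [], [], [], [], [], [], [[], [24]], [[], [18, 24, 18]], [], [], [], [], [[], [18, 24, 18]], [[], [24]],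
  [[], [18]], [[], [18]], [], [], [], [], [[], [18]], [[], [18]], [], [], [], [], [], [], [], [], [], [], [], [], [], [], [], [], [[], [18]], [[], [18]], [], [], [], [], [[], [18]], [[], [18]],
  [[], [20], [24, 20]], [[], [20, 24, 20]], [], [], [], [], [[], [20, 24, 20]], [[], [20, 24, 0, 1, 16, 0, 24, 20]], [], [], [], [], [], [], [], [], [], [], [], [], [], [], [], [], [[], [20], [24]], [[], [24]], [], [], [], [], [[], [24]], [[], [24, 0, 1, 16, 0, 24]],
  [[], [20]], [[], [20]], [], [], [], [], [[], [20]], [[], [20]], [], [], [], [], [], [], [], [], [], [], [], [], [], [], [], [], [[], [20]], [[], [20]], [], [], [], [], [[], [20]], [[], [20]],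
  [[], [20, 18]], [[], [20, 18]], [], [], [], [], [[], [20, 18]], [[], [20, 18]], [], [], [], [], [], [], [], [], [], [], [], [], [], [], [], [], [[], [24]], [[], [20, 18]], [], [], [], [], [[], [20, 18]], [[], [24]],
  [[], [18]], [[]], [], [], [], [], [[]], [[], [18]], [], [], [], [], [], [], [], [], [], [], [], [], [], [], [], [], [[]], [[], [18]], [], [], [], [], [[], [18]], [[]],
  [], [], [], [], [], [], [], [], [], [], [], [], [], [], [], [], [], [], [], [], [], [], [], [], [], [], [], [], [], [], [], [],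
  [], [], [], [], [], [], [], [], [], [], [], [], [], [], [], [], [], [], [], [], [], [], [], [], [], [], [], [], [], [], [], [],
  [], [], [], [], [], [], [], [], [], [], [], [], [], [], [], [], [], [], [], [], [], [], [], [], [], [], [], [], [], [], [], [],
  [], [], [], [], [], [], [], [], [], [], [], [], [], [], [], [], [], [], [], [], [], [], [], [], [], [], [], [], [], [], [], [],
  [], [], [], [], [], [], [], [], [], [], [], [], [], [], [], [], [], [], [], [], [], [], [], [], [], [], [], [], [], [], [], [],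
  [], [], [], [], [], [], [], [], [], [], [], [], [], [], [], [], [], [], [], [], [], [], [], [], [], [], [], [], [], [], [], [],
  [], [], [], [], [], [], [], [], [], [], [], [], [], [], [], [], [], [], [], [], [], [], [], [], [], [], [], [], [], [], [], [],
  [], [], [], [], [], [], [], [], [], [], [], [], [], [], [], [], [], [], [], [], [], [], [], [], [], [], [], [], [], [], [], []]

theorem hA : allN (fun j => bor (Nat.beq j 0) (bor
    (anyL (fun b => bif' (inU (Nat.xor (ptV (nf j) b) b)) false true) [2, 4, 8, 16, 32, 64]) (bor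
    (anyL (fun d => band (nq (ptV (nf j) d) d) (nq (ptV (nf j) d) (Nat.xor d 1))) [2, 4, 16])
    (band (allL (fun W => Nat.beq (ptV W 1) 1) (nth [] cA j))
      (band (neC valV (prW (nf j) (nth [] cA j)) [])
        (allN (fun u => bif' (inU u) (Nat.beq (ptV (prW (nf j) (nth [] cA j)) u) u) true) 256))))))
    512 = true := by
  decide +kernel

theorem h5 : allN (fun j => bor (anyN (fun i => nq (ptV (nf j) (Nat.shiftLeft 1 i))
    (Nat.shiftLeft 1 i)) 4) (band (Nat.blt j 32) (eqC valV (nf j) (bw Jl j)))) 512 = true := by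
  decide +kernel

/-- the conditions on the elements of `O₂(C(α))` -/
def Rm (x : LB 8) : Prop := x ∈ KV ∧ (∀ c < 4, x.1 c = c) ∧ ∀ b < 64, x.1 b ^^^ b < 4

theorem Rm.mul {x y : LB 8} (h : Rm x) (h' : Rm y) : Rm (x * y) := by
  refine ⟨mul_mem h.1 h'.1, fun c l => by rw [LB.mul_apply, h'.2.1 c l, h.2.1 c l], fun b l => ?_⟩
  have a := h'.2.2 b l
  have l' : b < 2 ^ 8 := by omega
  rw [LB.mul_apply, ← Nat.xor_xor_cancel_right (y.1 b) b, LB.add x (by omega) l', h.2.1 _ a,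
    Nat.xor_assoc]
  exact Nat.xor_lt_two_pow (n := 2) a (h.2.2 b l)

theorem Rm.pow {x : LB 8} (h : Rm x) : x ^ 4 = 1 := by
  refine LB.ext_lt fun b l => ?_
  have a := h.2.2 _ ((by decide +kernel : ∀ v < 256, v.testBit 7 = false → v.testBit 6 = false →
    v < 64) _ (Nat.xor_lt_two_pow (LB.lt x l) l) (low h.1 (i := 0) (by decide) (h.2.1 1 (by decide)) l)
    (low h.1 (i := 1) (by decide) (h.2.1 2 (by decide)) l))
  have e := sq x l
  generalize x.1 (x.1 b ^^^ b) ^^^ (x.1 b ^^^ b) = c at a e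
  have l' : c < 2 ^ 8 := by omega
  change x.1 (x.1 (x.1 (x.1 b))) = b
  rw [e, LB.add x l' l, LB.add x (LB.lt x l') (LB.lt x l), e, h.2.1 c a, h.2.1 c a,
    Nat.xor_xor_cancel_left]

/-- the group `O₂(C(α))` -/
def RR : Subgroup (LB 8) where
  carrier := {x | Rm x}
  one_mem' := ⟨one_mem _, fun _ _ => rfl, fun b _ => by
    change b ^^^ b < 4
    rw [Nat.xor_self]; decide⟩
  mul_mem' := Rm.mul
  inv_mem' {x} h := by
    rw [show x⁻¹ = x * x * x from inv_eq_of_mul_eq_one_left (by rw [← Rm.pow h]; simp [pow_succ])]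
    exact (Rm.mul h h).mul h

end KG

open KG

/-- the four classes of involutions -/
theorem K1 (hK : Nat.card KV = 1451520) {k : LB 8} (hk : k ∈ KV) (h2 : k * k = 1) (h1 : k ≠ 1) :
    ∃ g ∈ KV, ∃ U ∈ [[5], [17], alw, [1, 17]], k = g * ev yV U * g⁻¹ := by
  obtain ⟨g, hg, h⟩ := conj_S hK S_le le_rfl hk (by
    rw [show k ^ 4 = k * k * (k * k) by simp [pow_succ, mul_assoc], h2, one_mul])
  obtain ⟨j, l, e⟩ := mem_S h
  have c := (allN_eq _ _).1 KG.h1 j l
  simp only [bor_eq, anyL_eq, orcV.eq_iff, appendL_eq, ev_append, Nat.beq_eq, ← e] at c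
  rcases c with c | rfl | ⟨U, a, b⟩
  · refine absurd ?_ (orcV.ne c)
    rw [ev_append, ← e, conj_mul, h2]; simp
  · exact absurd (conj_eq_one_iff.1 e) h1
  · refine ⟨g⁻¹ * ev yV (nth [] c1 j), mul_mem (inv_mem hg) (word _), U, a, ?_⟩
    rw [mul_assoc g⁻¹, ← b]; group

/-- transitivity on singular vectors -/
theorem K2 {b : ℕ} (hb : b < 256) (h0 : b ≠ 0) (hq : qb b = false) : ∃ g ∈ KV, g.1 1 = b := by
  have c := (allN_eq _ _).1 h2 b hb
  simp only [bor_eq, Nat.beq_eq, hq, h0, false_or, Bool.false_eq_true] at c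
  exact ⟨_, word _, (ptV_eq _ (by decide)).symm.trans c⟩

/-- subgroups and singular subspaces invariant under the stabiliser of a singular vector -/
theorem K3 (hK : Nat.card KV = 1451520) {A : Subgroup (LB 8)} (hA : A ≤ KV) (h2 : IsPGroup 2 A)
    {D : ℕ → Prop}
    (hn : ∀ g ∈ KV, g.1 1 = 1 → (∀ a ∈ A, g * a * g⁻¹ ∈ A) ∧ ∀ d, D d → D (g.1 d))
    (lt : ∀ d, D d → d < 256) (add : ∀ d e, D d → D e → D (d ^^^ e))
    (sing : ∀ d, D d → qb d = false) (one : D 1)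
    (c1 : ∀ a ∈ A, ∀ b < 256, bb b 1 = false → D (a.1 b ^^^ b))
    (c2 : ∀ a ∈ A, ∀ d, D d → a.1 d = d ∨ a.1 d = d ^^^ 1) :
    ((∀ d, D d → d = 0 ∨ d = 1) ∧ Nat.card A ≤ 8) ∨
      ((D 2 ∧ D 4 ∧ D 16) ∧ (A = ⊥ ∨ ∃ a ∈ A, a ≠ 1 ∧ ∀ d, D d → a.1 d = d)) := by
  have hw : ∀ W, ptV W 1 = 1 → (∀ a ∈ A, ev yV W * a * (ev yV W)⁻¹ ∈ A) ∧
      ∀ d, D d → D (ptV W d) := fun W h => by
    have := hn _ (word W) (by rw [← ptV_eq _ (by decide), h])
    exact ⟨this.1, fun d m => by rw [ptV_eq _ (lt d m)]; exact this.2 d m⟩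
  have hS : A ≤ SS := le_S hK hA h2 fun W m => (hw W (Nat.beq_eq ▸ (allL_eq _ _).1
    (by decide +kernel : allL (fun W => Nat.beq (ptV W 1) 1) gS = true) W m)).1
  have c1' : ∀ j, ev yV (nf j) ∈ A → ∀ b ∈ [2, 4, 8, 16, 32, 64], D (ptV (nf j) b ^^^ b) :=
    fun j m b h => by
      have := (by decide +kernel : ∀ b ∈ [2, 4, 8, 16, 32, 64], b < 256 ∧ bb b 1 = false) b h
      rw [ptV_eq _ this.1]; exact c1 _ m b this.1 this.2
  have k : ∀ d, D d → inU d = true ∧ (d < 2 ∨ ∀ t ∈ [2, 4, 16], D t) := fun d m => by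
    have c := (allN_eq _ _).1 hD d (lt d m)
    rw [sing d m, show qb (Nat.xor d 1) = false from sing _ (add _ _ m one)] at c
    simp only [band_eq, bor_eq, allL_eq, Nat.beq_eq, Bool.false_eq_true, false_or, bif'_eq] at c
    obtain ⟨a, c⟩ := c
    split_ifs at c with h
    · simp only [bor_eq, allL_eq, anyL_eq, Nat.beq_eq, Nat.blt_eq] at c
      refine ⟨h, c.imp_right fun c t n => ?_⟩
      obtain ⟨W, n1, rfl⟩ := c t n
      exact (hw W (a W n1)).2 d m
    · rw [sing _ (xs_mem add m fun W n => (hw W (a W n)).2 d m)] at c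
      exact absurd c (by decide)
  by_cases h : ∀ d, D d → d < 2
  · refine Or.inl ⟨fun d m => by have := h d m; omega, ?_⟩
    classical
    refine (Set.ncard_le_ncard (t := ↑([0, 7, 25, 30, 225, 230, 248, 255].map fun j => ev yV (nf j)).toFinset)
      fun a m => ?_).trans (by rw [Set.ncard_coe_finset]; exact List.toFinset_card_le _)
    obtain ⟨j, l, rfl⟩ := mem_S (hS m)
    have c := (allN_eq _ _).1 h8 j l
    simp only [bor_eq, anyL_eq, Nat.beq_eq, Nat.ble_eq] at c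
    rcases c with ⟨_, n, rfl⟩ | ⟨b, n, c⟩
    · exact List.mem_toFinset.2 (List.mem_map_of_mem n)
    · exact absurd (h _ (c1' j m b n)) (not_lt.2 c)
  · push Not at h
    obtain ⟨d, m, h⟩ := h
    have k1 := (k d m).2.resolve_left (not_lt.2 h)
    refine Or.inr ⟨⟨k1 _ (by simp), k1 _ (by simp), k1 _ (by simp)⟩, ?_⟩
    refine (A.bot_or_exists_ne_one).imp_right fun ⟨a, m, n⟩ => ?_
    obtain ⟨j, l, rfl⟩ := mem_S (hS m)
    have c := (allN_eq _ _).1 KG.hA j l
    simp only [bor_eq, band_eq, anyL_eq, allL_eq, allN_eq, Nat.beq_eq, nq_eq] at c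
    rcases c with rfl | ⟨b, p, c⟩ | ⟨b, p, c⟩ | ⟨a, b, c⟩
    · exact absurd rfl n
    · rw [show inU (Nat.xor _ b) = true from (k _ (c1' j m b p)).1] at c
      exact absurd c (by decide)
    · rw [ptV_eq _ (lt _ (k1 b p))] at c
      exact ((c2 _ m b (k1 b p)).elim c.1 c.2).elim
    · refine ⟨_, prW_mem fun W p => (hw W (a W p)).1 _ m, orcV.ne b, fun d p => ?_⟩
      have := c d (lt d p)
      rw [(k d p).1, ptV_eq _ (lt d p)] at this
      exact Nat.beq_eq ▸ this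

def L48 : List (List ℕ) := [[16, 1, 20, 18], [16, 1, 20, 19], [16, 1, 21, 18], [16, 1, 21, 19], [16, 1, 3, 20, 18], [16, 1, 3, 20, 19], [16, 1, 3, 21, 18], [16, 1, 3, 21, 19], [16, 1, 20, 3, 18], [16, 1, 20, 3, 19], [16, 1, 20, 18, 17], [16, 1, 20, 19, 17], [16, 1, 21, 3, 18], [16, 1, 21, 3, 19], [16, 1, 21, 18, 17], [16, 1, 21, 19, 17], [0, 1, 16, 0, 19, 18], [0, 1, 16, 0, 20, 19], [0, 1, 16, 0, 21, 18], [0, 1, 16, 0, 21, 20], [0, 1, 16, 0, 3, 19, 18], [0, 1, 16, 0, 3, 20, 19], [0, 1, 16, 0, 3, 21, 18], [0, 1, 16, 0, 3, 21, 20], [0, 1, 16, 0, 19, 3, 18], [0, 1, 16, 0, 19, 18, 17], [0, 1, 16, 0, 20, 3, 19], [0, 1, 16, 0, 20, 19, 17], [0, 1, 16, 0, 21, 3, 18], [0, 1, 16, 0, 21, 3, 20], [0, 1, 16, 0, 21, 18, 17], [0, 1, 16, 0, 21, 20, 17], [0, 1, 16, 0, 16, 1, 19, 18], [0, 1, 16, 0, 16, 1, 20, 18], [0, 1, 16, 0, 16, 1, 21, 19], [0, 1, 16, 0, 16, 1, 21, 20], [0, 1, 16, 0, 16, 1, 3, 19, 18], [0, 1, 16, 0, 16, 1, 3, 20, 18],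 [0, 1, 16, 0, 16, 1, 3, 21, 19], [0, 1, 16, 0, 16, 1, 3, 21, 20], [0, 1, 16, 0, 16, 1, 19, 3, 18], [0, 1, 16, 0, 16, 1, 19, 18, 17], [0, 1, 16, 0, 16, 1, 20, 3, 18], [0, 1, 16, 0, 16, 1, 20, 18, 17], [0, 1, 16, 0, 16, 1, 21, 3, 19], [0, 1, 16, 0, 16, 1, 21, 3, 20], [0, 1, 16, 0, 16, 1, 21, 19, 17], [0, 1, 16, 0, 16, 1, 21, 20, 17]]

theorem KG.h4 : allN (fun j => bor (anyL (fun b => Nat.ble 4 (Nat.xor (ptV (nf j) b) b))
    [1, 2, 4, 8, 16, 32]) (band (allN (fun c => Nat.beq (ptV (nf j) c) c) 4)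
      (bor (neC valV (appendL (nf j) (nf j)) alw) (anyL (eqC valV (nf j)) L48)))) 512 = true := by
  decide +kernel

/-- square roots of `α` in `O₂(C(α))` -/
theorem K4 (hK : Nat.card KV = 1451520) {k : LB 8} (hk : k ∈ KV) (h2 : k * k = ev yV alw)
    (hc : ∀ b < 64, k.1 b ^^^ b < 4) : ∃ W ∈ L48, k = ev yV W := by
  have a1 := (allN_eq _ _).1 (by decide +kernel : allN (fun b =>
    band (Nat.blt (Nat.xor (ptV alw b) b) 4) (bif' (Nat.blt b 64) (Nat.beq (ptV alw b) b)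
      (nq (ptV alw b) b))) 256 = true)
  have a2 := (allN_eq _ _).1 (by decide +kernel : allN (fun c => band (Nat.blt (nth 0 [0, 64, 128, 192] c) 256)
    (Nat.beq (Nat.xor (ptV alw (nth 0 [0, 64, 128, 192] c)) (nth 0 [0, 64, 128, 192] c)) c)) 4 = true)
  have a3 := (allL_eq _ _).1 (by decide +kernel :
    allL (fun W => eqC valV (appendL W alw) (appendL alw W)) gS = true)
  simp only [band_eq, Nat.blt_eq, Nat.beq_eq, orcV.eq_iff, appendL_eq, ev_append] at a1 a2 a3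
  set α := ev yV alw with hα
  let H := KV ⊓ centralizer {α}
  have hH : ∀ g ∈ H, ∀ b, g.1 (α.1 b) = α.1 (g.1 b) := fun g m b => by
    rw [← LB.mul_apply, mem_centralizer_singleton_iff.1 m.2]; rfl
  have p64 : ∀ g ∈ H, ∀ b < 64, g.1 b < 64 := fun g m b l => by
    have l' : b < 2 ^ 8 := by omega
    have e := (a1 b l').2
    rw [bif'_eq, if_pos (by rwa [Nat.blt_eq]), Nat.beq_eq, ptV_eq _ l'] at e
    by_contra n
    have e' := (a1 _ (LB.lt g l')).2
    rw [bif'_eq, if_neg (by rwa [Nat.blt_eq]), nq_eq, ptV_eq _ (LB.lt g l'), ← hα, ← hH g m, e] at e'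
    exact e' rfl
  have p4 : ∀ g ∈ H, ∀ c < 4, g.1 c < 4 := fun g m c l => by
    obtain ⟨l', e⟩ := a2 c l
    have e' := (a1 _ (LB.lt g l')).1
    rw [ptV_eq _ l'] at e
    rw [ptV_eq _ (LB.lt g l'), ← hα, ← hH g m] at e'
    rw [← e]
    exact (LB.add g (LB.lt α l') l').trans_lt e'
  have cj : ∀ g ∈ H, ∀ x : LB 8, (∀ b < 64, x.1 b ^^^ b < 4) →
      ∀ b < 64, (g * x * g⁻¹).1 b ^^^ b < 4 := fun g m x h b l => by
    have l1 := p64 _ (inv_mem m) b l
    have l2 : g⁻¹.1 b < 2 ^ 8 := by omega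
    have := p4 g m _ (h _ l1)
    rwa [LB.add g (LB.lt x l2) l2, show g.1 (g⁻¹.1 b) = b by simp] at this
  have cr : ∀ g ∈ H, ∀ x ∈ RR, g * x * g⁻¹ ∈ RR := fun g m x h =>
    ⟨mul_mem (mul_mem m.1 h.1) (inv_mem m.1), fun c l => by
      rw [LB.mul_apply, LB.mul_apply, h.2.1 _ (p4 _ (inv_mem m) c l)]; simp, cj g m x h.2.2⟩
  have hS : SS ≤ H := genW_le fun W m => ⟨word W, mem_centralizer_singleton_iff.2 (a3 W m)⟩
  have key : ∀ x ∈ SS, (∀ b < 64, x.1 b ^^^ b < 4) →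
      (∀ c < 4, x.1 c = c) ∧ (x * x = α → ∃ W ∈ L48, x = ev yV W) := fun x m h => by
    obtain ⟨j, l, rfl⟩ := mem_S m
    have c := (allN_eq _ _).1 h4 j l
    simp only [bor_eq, band_eq, anyL_eq, allN_eq, Nat.beq_eq, Nat.ble_eq, orcV.eq_iff] at c
    rcases c with ⟨b, p, c⟩ | ⟨c, d⟩
    · have l := (by decide : ∀ b ∈ [1, 2, 4, 8, 16, 32], b < 64) b p
      rw [ptV_eq _ (by omega)] at c
      exact absurd (h b l) (not_lt.2 c)
    · refine ⟨fun b l => by rw [← ptV_eq _ (by omega), c b l], fun e => d.resolve_left fun n => ?_⟩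
      exact orcV.ne n (by rw [appendL_eq, ev_append, e])
  obtain ⟨g, hg, h⟩ := conj_S hK hS inf_le_left (k := k)
    ⟨hk, mem_centralizer_singleton_iff.2 (by rw [← h2, mul_assoc])⟩ (by
      rw [show k ^ 4 = k * k * (k * k) by simp [pow_succ, mul_assoc], h2, hα, ← ev_append]
      exact orcV.eq (V := []) (by decide +kernel))
  have r := cr _ (inv_mem hg) _ ⟨S_le h, (key _ h (cj g hg k hc)).1, cj g hg k hc⟩
  rw [show g⁻¹ * (g * k * g⁻¹) * g⁻¹⁻¹ = k by group] at r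
  exact (key k (le_S hK (A := RR) (fun _ h => h.1) (fun x => ⟨2, Subtype.ext (Rm.pow x.2)⟩)
    (fun W m => cr _ (hS (mem_genW m))) r) hc).2 h2

/-- the pointwise stabiliser of `⟨v₀, v₁, v₂, v₃⟩` -/
theorem K5 (hK : Nat.card KV = 1451520) {k : LB 8} (hk : k ∈ KV)
    (hc : ∀ i < 4, k.1 (2 ^ i) = 2 ^ i) : ∃ j < 32, k = ev yV (bw Jl j) := by
  let R : Subgroup (LB 8) :=
    { carrier := {x | x ∈ KV ∧ ∀ c < 16, x.1 c = c}
      one_mem' := ⟨one_mem _, fun _ _ => rfl⟩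
      mul_mem' := fun h h' => ⟨mul_mem h.1 h'.1, fun c l => by rw [LB.mul_apply, h'.2 c l, h.2 c l]⟩
      inv_mem' := fun {x} h => ⟨inv_mem h.1, fun c l => by
        conv_lhs => rw [← h.2 c l]
        simp⟩ }
  have a := (allL_eq _ _).1 (by decide +kernel :
    allL (fun W => allN (fun b => Nat.blt (ptV (rev W) b) 16) 16) gS = true)
  simp only [allN_eq, Nat.blt_eq] at a
  obtain ⟨j, l, rfl⟩ := mem_S (le_S hK (A := R) (fun _ h => h.1)
    (fun ⟨x, h⟩ => ⟨1, Subtype.ext (LB.ext_lt fun b l => by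
      change x.1 (x.1 b) = b
      rw [sq x l, h.2 _ ((by decide +kernel : ∀ v < 256, (∀ i < 4, v.testBit (7 - i) = false) →
        v < 16) _ (Nat.xor_lt_two_pow (LB.lt x l) l) fun i n => low h.1 n
          (h.2 _ (Nat.pow_lt_pow_right (by decide) n)) l), Nat.xor_self, Nat.zero_xor])⟩)
    (fun W m x h => ⟨mul_mem (mul_mem (word W) h.1) (inv_mem (word W)), fun c l => by
      have := a W m c l
      rw [ptV_eq _ (by omega), rv] at this
      rw [LB.mul_apply, LB.mul_apply, h.2 _ this]; simp⟩)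
    ⟨hk, LB.eq_below (τ := 1) (k := 4) (by decide) hc⟩)
  have c := (allN_eq _ _).1 h5 j l
  simp only [bor_eq, band_eq, anyN_eq, nq_eq, Nat.blt_eq, orcV.eq_iff, Nat.shiftLeft_eq',
    Nat.one_shiftLeft] at c
  rcases c with ⟨i, n, c⟩ | c
  · rw [ptV_eq _ ((Nat.pow_lt_pow_right (by decide) n).trans (by decide))] at c
    exact absurd (hc i n) c
  · exact ⟨j, c⟩

theorem K6 (hK : Nat.card KV = 1451520) {k : LB 8} (hk : k ∈ KV) (h2 : k * k = 1) :
    ∃ b < 256, ∃ c < 256, b ≠ 0 ∧ c ≠ 0 ∧ b ≠ c ∧ k.1 b = b ∧ k.1 c = c := by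
  by_cases h1 : k = 1
  · exact ⟨1, by decide, 2, by decide, by decide, by decide, by decide, h1 ▸ rfl, h1 ▸ rfl⟩
  obtain ⟨g, -, U, m, rfl⟩ := K1 hK hk h2 h1
  have a := (allL_eq _ _).1 (by decide +kernel : allL (fun U => band (Nat.beq (ptV U 1) 1)
    (anyL (fun c => Nat.beq (ptV U c) c) [2, 6])) [[5], [17], alw, [1, 17]] = true) U m
  simp only [band_eq, anyL_eq, Nat.beq_eq] at a
  obtain ⟨a1, c, n, a2⟩ := a
  obtain ⟨l, n0, n1⟩ := (by decide : ∀ c ∈ [2, 6], c < 256 ∧ c ≠ 0 ∧ 1 ≠ c) c n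
  rw [ptV_eq _ (by decide)] at a1
  rw [ptV_eq _ l] at a2
  have z : ∀ {b}, b ≠ 0 → g.1 b ≠ 0 := fun h e => h (g.1.injective (e.trans (LB.zero g).symm))
  refine ⟨_, LB.lt g (a := 1) (by decide), _, LB.lt g l, z (by decide), z n0,
    fun e => n1 (g.1.injective e), ?_, ?_⟩ <;> simp [LB.mul_apply, a1, a2]

end Cfsg.Agent.CO2T
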