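import Mathlib
import Cfsg.Agent.CO2T.KE

/-! Facts on the action of `2⁴ : S₆ ≤ M₂₂ : 2` on `E = 2¹⁰`. -/

set_option autoImplicit false
set_option maxRecDepth 100000
set_option Elab.async false

namespace Cfsg.Agent.CO2T

open Subgroup Cfsg.Agent.TT Cfsg.Agent.Comp.BN Cfsg.Agent.XSC

namespace EG

/-- the number of the orbit of `y` under the letters `NC` -/
noncomputable def lab (y : ℕ) : ℕ := dg 4 (nat_lit 0x988989898899999989989898998888887777777777775556777777777777666557777577775777766777767777677775777577757775777677767776777677757767776777757776775777577776777576776777775777767577577777677775777777776677775677777777557777653443434344443344433434343333443377756777677777767776577757777775577777677677777667777757757777757667777777775776755777777777677544444343443343343333343433443443777775757777757677777676777776753443333344333434433444443344434334334443343333344344333443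4444433343434443333334443434333444444376777775767777767577777675777775776775776777777677577677577777757777676777777576777757577777767534434444443334344334333333444343577577777777577667767777777767753333434344334334444434343344344344434333433333343334344434444443344433433433333443334434434444437777777777557756777777777766776534434343333333444334343444444433334333434443333444344434333444433433433344343334434434443343444334444344443433344333343333434443444344434443333433343334333444433443434344334444433434343344333311111111111111121111111111111110) y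

/-- representatives of the orbits -/
noncomputable def rp (i : ℕ) : ℕ := nth 0 [0, 1, 16, 32, 36, 224, 225, 226, 992, 998] i

noncomputable def plT : ℕ := nat_lit 0x585cc735c16b58c6b44d100608096e1fc4d0317f108421344210842108421084e108421304e108420842108421084210b42108c6e084210842e0842108421084210842108421005c1084216b421084210018018c03000007000003000001800006000180000000080e000000000000000000000000e00180000000000e7000000000001c103001039ce000001000e000000018060000000006380000000000008421080c6364210841d01c2106421083210642108421008a0e84210842108420e842108421064210841d08420e842108061073a0e832107420184210642100c2108404e0c181804308399084210842106420c8421084210742108421084210840008401064210839c28421083a028420e842108420c832108420e83a0c8420e63a0c8420e80e1084203842107321083210841d08420c842108420e841d08421060c631ac6c10c6d68c6c18d6370dc31ac6362c43108200302b6884d735cc12da0108425b44162d825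8c2b6b421005cd0ad6b0b58e085a160561084010842d0842b08421584210b5a10882e0858173021139cd601800384d5816b135a3589631b44300000009c21304d1084e02d8212d82139a0139a0009c200c6018dc16006e00c601b9a36006058dc31b9a30000072c0d0302e0380000840701806ac00001a01382c62c2b7384e6358c1316370823738410ffff1084b13841609a2631a27384b7384d63042709621858318c6d18dab1b9ab70c231858d73863738636b02e0b5ce085610b82b685c1605c11042d0842100dc36b1ce18d6318c6b1b5c01adce1b46d10c63009a012c4c139ab039ab12d82689ab7384213842039600b9ae631ad6b9ad1b82072dd06b43f0317f58c2b02c2b00d8c6b5df12d635896363041007ff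

/-- a word that moves the representative to `y` -/
noncomputable def tw (y : ℕ) : List ℕ :=
  Nat.rec (motive := fun _ => ℕ → List ℕ) (fun _ => []) (fun _ ih y =>
    Comp.force (dg 5 plT y) fun k => bif' (Nat.beq k 31) []
      (k :: Comp.force (ptE [k] y) ih)) 11 y

theorem hT : allN (fun y => band (band (Nat.blt (lab y) 10) (Nat.blt (rp (lab y)) 1024))
    (band (band (onC NC (tw y)) (Nat.beq (ptE (tw y) (rp (lab y))) y))
      (bor (nq (lab y) 2) (Nat.beq y 16)))) 1024 = true := by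
  decide +kernel

noncomputable def f (m x : ℕ) : ℕ :=
  sumN (fun y => bif' (tb m (lab y)) (bif' (tb m (lab (Nat.xor x y))) 1 0) 0) 1024

noncomputable def g (m x : ℕ) : ℕ :=
  sumN (fun y => bif' (tb m (lab y)) (Comp.force (rp (lab (Nat.xor x y))) (f m)) 0) 1024

theorem hM : allN (fun m => bor (bor (tb m 0) (tb m 1)) (bif' (tb m 2) (bor (Nat.beq m 4)
    (bor (Nat.beq m 324) (bor (anyN (fun i => band (tb m i) (nq (f m (rp i)) (f m 16))) 10)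
      (anyN (fun i => band (tb m i) (nq (g m (rp i)) (g m 16))) 10)))) true)) 1024 = true := by
  decide +kernel

/-- the invariant function -/
noncomputable def φ (x : ℕ) : ℕ := dg 8 (nat_lit 0x20002000e020e000e4d) (lab x)

theorem hF : allN (fun i => Nat.beq (f 324 (rp i)) (dg 8 (nat_lit 0x20002000e020e000e4d) i)) 10 = true := by
  decide +kernel

theorem hD : allN (fun y => band (Nat.beq (φ (ptE [22] y)) (φ y))
    (bif' (tb 324 (lab y)) (bor (nq (φ (Nat.xor 16 y)) 2) (band (Nat.beq (lab y) 8)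
      (Nat.beq (ptE (tw y) 16) 16))) true)) 1024 = true := by
  decide +kernel

/-- the candidates for the image of the next basis vector form one orbit -/
noncomputable def chainC (st : List (ℕ × List (ℕ × List ℕ))) : List ℕ → Bool :=
  List.rec (motive := fun _ => List ℕ → Bool)
    (fun zs => allN (fun i => anyL (Nat.beq (Nat.shiftLeft 1 i)) zs) 10)
    (fun s _ ih zs => band (Nat.blt s.1 1024) (band
      (allL (fun p => band (onC NC p.2) (allL (fun z => Nat.beq (ptE p.2 z) z) zs)) s.2) (band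
      (allN (fun y => bor (anyL (fun z => nq (φ (Nat.xor y z)) (φ (Nat.xor s.1 z))) zs)
        (anyL (fun p => band (Nat.beq p.1 y) (Nat.beq (ptE p.2 y) s.1)) s.2)) 1024)
      (ih (appendL zs (mapL (Nat.xor s.1) zs)))))) st

theorem hC : chainC [(36, [(36, []), (37, [1]), (40, [0, 16]), (42, [0, 16, 3]), (44, [0]), (47, [1, 0]), (54, [0, 16, 1, 0]), (55, [0, 16, 3, 1, 0]), (57, [0, 1, 0]), (59, [0, 1]), (61, [0, 16, 3, 1]), (62, [0, 16, 1]), (65, [1, 2]), (66, [0, 16, 3, 2]), (67, [1, 2, 0]), (68, [2]), (72, [0, 16, 2]), (76, [2, 0]), (86, [0, 16, 1, 2]), (87, [0, 1, 2]), (89, [0, 16, 3, 1, 2]), (91, [0, 16, 3, 1, 2, 0]), (93, [0, 1, 2, 0]), (94, [0, 16, 1, 2, 0]), (97, [2, 3, 2]), (98, [0, 16, 2, 3, 2]), (99, [2, 3, 2, 0]), (101, [2, 3]), (106, [0, 16, 2, 3]), (111, [2, 3, 0]), (118, [0, 1, 2, 3]), (119, [0, 16, 1, 2, 3]), (121, [0, 16, 1, 2, 3, 2, 0]), (123, [0, 16, 1, 2,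 3, 2]), (125, [0, 16, 1, 2, 3, 0]), (126, [0, 1, 2, 3, 0]), (129, [1, 2, 1]), (130, [1, 2, 0, 1]), (131, [0, 16, 3, 2, 1]), (133, [2, 1]), (136, [0, 16, 1, 2, 0, 1]), (138, [0, 1, 2, 0, 1]), (140, [0, 16, 3, 1, 2, 0, 1]), (143, [0, 16, 3, 1, 2, 1]), (150, [0, 16, 1, 2, 1]), (151, [0, 1, 2, 1]), (155, [2, 0, 1]), (158, [0, 16, 2, 1]), (161, [2, 3, 2, 1]), (162, [2, 3, 2, 0, 1]), (163, [0, 16, 2, 3, 2, 1]), (164, [2, 3, 1]), (168, [0, 1, 2, 3, 0, 1]), (170, [0, 16, 1, 2, 3, 0, 1]), (172, [0, 16, 1, 2, 3, 2, 1]), (175, [0, 16, 1, 2, 3, 2, 0, 1]), (182, [0, 1, 2, 3, 1]), (183, [0, 16, 1, 2, 3, 1]), (185, [2, 3, 0, 1]), (189, [0, 16, 2, 3, 1]), (194, [0, 16, 1, 2, 3, 0, 1, 2]), (195, [0, 16, 1, 2, 3, 0, 1, 2, 1]), (196, [2, 3, 1, 2]), (197, [2, 3, 1, 2, 1]), (200, [0, 1, 2, 3, 1, 2, 1]), (202, [2, 3, 0, 1, 2, 1]), (204, [0, 16, 1, 2, 3, 1, 2, 1]), (207, [0, 16, 2, 3, 1, 2, 1]), (217,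 [0, 16, 2, 3, 1, 2]), (219, [0, 16, 1, 2, 3, 1, 2]), (221, [2, 3, 0, 1, 2]), (222, [0, 1, 2, 3, 1, 2]), (257, [0, 16, 3, 2, 1, 0]), (258, [1, 2, 0, 1, 0]), (259, [1, 2, 1, 0]), (260, [0, 16, 3, 1, 2, 0, 1, 0]), (261, [0, 16, 3, 1, 2, 1, 0]), (264, [0, 16, 1, 2, 0, 1, 0]), (266, [0, 1, 2, 0, 1, 0]), (271, [2, 1, 0]), (278, [0, 16, 2, 1, 0]), (281, [2, 0, 1, 0]), (285, [0, 1, 2, 1, 0]), (286, [0, 16, 1, 2, 1, 0]), (289, [0, 16, 2, 3, 2, 1, 0]), (290, [2, 3, 2, 0, 1, 0]), (291, [2, 3, 2, 1, 0]), (292, [0, 16, 1, 2, 3, 2, 1, 0]), (293, [0, 16, 1, 2, 3, 2, 0, 1, 0]), (296, [0, 1, 2, 3, 0, 1, 0]), (298, [0, 16, 1, 2, 3, 0, 1, 0]), (300, [2, 3, 1, 0]), (311, [0, 16, 2, 3, 1, 0]), (315, [2, 3, 0, 1, 0]), (317, [0, 16, 1, 2, 3, 1, 0]), (318, [0, 1, 2, 3, 1, 0]), (321, [0, 16, 1, 2, 3, 0, 1, 2, 1, 0]), (322, [0, 16, 1, 2, 3, 0, 1, 2, 0]), (324, [0, 16, 1, 2, 3, 1, 2, 1, 0]), (325, [0,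 16, 2, 3, 1, 2, 1, 0]), (328, [0, 1, 2, 3, 1, 2, 1, 0]), (330, [2, 3, 0, 1, 2, 1, 0]), (332, [2, 3, 1, 2, 0]), (335, [2, 3, 1, 2, 1, 0]), (342, [0, 1, 2, 3, 1, 2, 0]), (343, [2, 3, 0, 1, 2, 0]), (345, [0, 16, 1, 2, 3, 1, 2, 0]), (347, [0, 16, 2, 3, 1, 2, 0]), (385, [0, 16, 1, 2, 3, 0, 1, 2, 0, 1, 0]), (387, [0, 16, 1, 2, 3, 0, 1, 2, 0, 1]), (388, [0, 16, 2, 3, 1, 2, 0, 1, 0]), (389, [0, 16, 1, 2, 3, 1, 2, 0, 1, 0]), (396, [0, 16, 2, 3, 1, 2, 0, 1]), (399, [0, 16, 1, 2, 3, 1, 2, 0, 1]), (406, [0, 1, 2, 3, 1, 2, 0, 1]), (407, [2, 3, 0, 1, 2, 0, 1]), (409, [2, 3, 1, 2, 0, 1, 0]), (411, [2, 3, 1, 2, 0, 1]), (413, [2, 3, 0, 1, 2, 0, 1, 0]), (414, [0, 1, 2, 3, 1, 2, 0, 1, 0]), (513, [2, 1, 0, 16, 2, 1, 0]), (514, [2, 1, 0, 16, 2]), (515, [2, 1, 0, 16, 2, 1]), (516, [2, 1, 0, 16, 1, 2, 0, 1, 0]), (517, [2, 1, 0, 16, 1, 2, 1, 0]), (522, [2, 1, 0, 16]), (524, [2, 1, 0, 16, 1, 2, 0, 1]),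 (527, [2, 1, 0, 16, 1, 2, 1]), (535, [2, 1, 0, 16, 1, 0]), (537, [2, 1, 0, 16, 1, 2]), (539, [2, 1, 0, 16, 1, 2, 0]), (541, [2, 1, 0, 16, 1]), (545, [2, 1, 0, 16, 2, 3, 1, 0]), (546, [2, 1, 0, 16, 2, 3]), (547, [2, 1, 0, 16, 2, 3, 1]), (548, [2, 1, 0, 16, 1, 2, 3, 1, 0]), (549, [2, 1, 0, 16, 1, 2, 3, 0, 1, 0]), (552, [2, 1, 0, 16, 3]), (556, [2, 1, 0, 16, 1, 2, 3, 1]), (559, [2, 1, 0, 16, 1, 2, 3, 0, 1]), (566, [2, 1, 0, 16, 3, 1, 0]), (569, [2, 1, 0, 16, 1, 2, 3, 0]), (571, [2, 1, 0, 16, 1, 2, 3]), (574, [2, 1, 0, 16, 3, 1]), (577, [2, 1, 0, 16, 1, 2, 3, 0, 1, 2, 0]), (579, [2, 1, 0, 16, 1, 2, 3, 0, 1, 2]), (580, [2, 1, 0, 16, 1, 2, 3, 1, 2, 0]), (581, [2, 1, 0, 16, 2, 3, 1, 2, 0]), (584, [2, 1, 0, 16, 3, 2]), (586, [2, 1, 0, 16, 2, 3, 2]), (588, [2, 1, 0, 16, 1, 2, 3, 1, 2]), (591, [2, 1, 0, 16, 2, 3, 1, 2]), (598, [2, 1, 0, 16, 3, 1, 2]), (599, [2, 1, 0, 16, 1, 2, 3, 2]),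 (605, [2, 1, 0, 16, 1, 2, 3, 2, 0]), (606, [2, 1, 0, 16, 3, 1, 2, 0]), (641, [2, 1, 0, 16, 1, 2, 3, 0, 1, 2, 0, 1]), (642, [2, 1, 0, 16, 1, 2, 3, 0, 1, 2, 1]), (644, [2, 1, 0, 16, 2, 3, 1, 2, 0, 1]), (645, [2, 1, 0, 16, 1, 2, 3, 1, 2, 0, 1]), (648, [2, 1, 0, 16, 3, 1, 2, 0, 1]), (650, [2, 1, 0, 16, 1, 2, 3, 2, 0, 1]), (662, [2, 1, 0, 16, 3, 1, 2, 1]), (663, [2, 1, 0, 16, 1, 2, 3, 2, 1]), (665, [2, 1, 0, 16, 2, 3, 1, 2, 1]), (667, [2, 1, 0, 16, 1, 2, 3, 1, 2, 1]), (669, [2, 1, 0, 16, 2, 3, 2, 1]), (670, [2, 1, 0, 16, 3, 2, 1]), (770, [2, 1, 0, 16, 1, 2, 3, 0, 1, 2, 1, 0]), (771, [2, 1, 0, 16, 1, 2, 3, 0, 1, 2, 0, 1, 0]), (776, [2, 1, 0, 16, 3, 1, 2, 0, 1, 0]), (778, [2, 1, 0, 16, 1, 2, 3, 2, 0, 1, 0]), (780, [2, 1, 0, 16, 2, 3, 1, 2, 0, 1, 0]), (783, [2, 1, 0, 16, 1, 2, 3, 1, 2, 0, 1, 0]), (790, [2, 1, 0, 16, 3, 2, 1, 0]), (791, [2, 1, 0, 16, 2, 3, 2, 1, 0]), (793, [2, 1, 0, 16,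 1, 2, 3, 1, 2, 1, 0]), (795, [2, 1, 0, 16, 2, 3, 1, 2, 1, 0]), (797, [2, 1, 0, 16, 1, 2, 3, 2, 1, 0]), (798, [2, 1, 0, 16, 3, 1, 2, 1, 0])]),
  (267, [(267, []), (319, [3, 1]), (526, [16]), (570, [16, 3, 1])]),
  (4, [(4, [])]),
  (1, [(1, [])]),
  (2, [(2, [])]),
  (8, [(8, [])]),
  (64, [(64, [])]),
  (128, [(128, [])])] [0, 16, 992, 1008] = true := by
  decide +kernel

variable {H : Subgroup (LB 10)}

theorem word (hN : ∀ k, NC.testBit k = true → yE k ∈ H) {W : List ℕ} (h : onC NC W = true) :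
    ev yE W ∈ H := genOn_le hN (ev_mem_genOn h)

theorem chain (hN : ∀ k, NC.testBit k = true → yE k ∈ H)
    (hφ : ∀ h ∈ H, ∀ x < 1024, φ (h.1 x) = φ x) (st : List (ℕ × List (ℕ × List ℕ))) :
    ∀ zs, chainC st zs = true → ∀ ψ : LB 10, (∀ x < 1024, φ (ψ.1 x) = φ x) →
      (∀ z ∈ zs, z < 1024 ∧ ψ.1 z = z) → ψ ∈ H := by
  induction st with
  | nil =>
    intro zs h ψ _ hz
    rw [show ψ = 1 from LB.ext_pow fun i hi => by
      obtain ⟨z, a, b⟩ := (anyL_eq _ _).1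
        ((allN_eq (fun i => anyL (Nat.beq (Nat.shiftLeft 1 i)) zs) 10).1 h i hi)
      rw [Nat.beq_eq, Nat.shiftLeft_eq', Nat.one_shiftLeft] at b
      exact b ▸ (hz z a).2]
    exact one_mem _
  | cons s st ih =>
    intro zs h ψ hp hz
    obtain ⟨h1, h⟩ := (band_eq _ _).1 h
    obtain ⟨h2, h⟩ := (band_eq _ _).1 h
    obtain ⟨h3, h4⟩ := (band_eq _ _).1 h
    rw [Nat.blt_eq] at h1
    have hy : ψ.1 s.1 < 1024 := LB.lt ψ h1
    rcases (bor_eq _ _).1 ((allN_eq _ _).1 h3 _ hy) with c | c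
    · obtain ⟨z, a, b⟩ := (anyL_eq _ _).1 c
      refine absurd ?_ ((nq_eq _ _).1 b)
      have := hp _ (Nat.xor_lt_two_pow (n := 10) h1 (hz z a).1)
      rwa [LB.add ψ h1 (hz z a).1, (hz z a).2] at this
    obtain ⟨p, a, b⟩ := (anyL_eq _ _).1 c
    obtain ⟨d1, d2⟩ := (band_eq _ _).1 ((allL_eq _ _).1 h2 p a)
    have d3 := ((band_eq _ _).1 b).2
    rw [Nat.beq_eq, ptE_eq _ hy] at d3
    have hw := word hN d1
    have hz' : ∀ z ∈ zs, (ev yE p.2 * ψ).1 z = z := fun z m => by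
      rw [LB.mul_apply, (hz z m).2, ← ptE_eq _ (hz z m).1]
      exact Nat.beq_eq ▸ (allL_eq _ _).1 d2 z m
    refine (mul_mem_cancel_left hw).1 (ih _ h4 _ (fun x hx => ?_) fun z m => ?_)
    · rw [LB.mul_apply, hφ _ hw _ (LB.lt ψ hx), hp x hx]
    · rw [appendL_eq, mapL_eq, List.mem_append, List.mem_map] at m
      rcases m with m | ⟨z, m, rfl⟩
      · exact ⟨(hz z m).1, hz' z m⟩
      · refine ⟨Nat.xor_lt_two_pow (n := 10) h1 (hz z m).1, ?_⟩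
        change (ev yE p.2 * ψ).1 (s.1 ^^^ z) = s.1 ^^^ z
        rw [LB.add _ h1 (hz z m).1, hz' z m, LB.mul_apply, d3]

noncomputable def d992 : List (List (List ℕ) × List ℕ) := [([], []), ([], [11]), ([], [12]), ([], [11, 12]), ([], [13]), ([], [11, 13]), ([[0]], [14]), ([[0]], [12, 14]), ([], [14]), ([[0]], [12]), ([], [12, 14]), ([[0]], [12]), ([], [13, 14]), ([[0]], [12, 14]), ([[0]], [14]), ([], [11, 12, 13, 14]), ([], []), ([[0]], [12]), ([[1]], [11]), ([[0]], [12]), ([[0]], [14]), ([[0]], [12, 14]), ([], [12, 13]), ([], [11, 12, 13]), ([[1]], [12, 13]), ([], [11, 14]), ([[1]], [11, 12, 13]), ([], [11, 12, 14]), ([[0]], [14]), ([], [11, 13, 14]), ([], [12, 13, 14]), ([[0]], [12, 14])]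

noncomputable def d32 : List (List (List ℕ) × List ℕ) := [([], []), ([], [11]), ([], [12]), ([], [11, 12]), ([[1]], [11]), ([[1]], [11]), ([], [11, 12, 13]), ([], [12, 13]), ([[3]], [12]), ([], [11, 12, 14]), ([[3]], [12]), ([], [11, 14]), ([[3]], [11, 12]), ([], [12, 13, 14]), ([], [11, 13, 14]), ([[3]], [11, 12]), ([], []), ([[0]], [12]), ([[1]], [11]), ([[0]], [12]), ([], [11, 13]), ([], [13]), ([[3]], [11]), ([[3]], [11]), ([], [12, 14]), ([[0]], [12]), ([], [14]), ([[0]], [12]), ([], [11, 12, 13, 14]), ([[3]], [11, 12]), ([[3]], [11, 12]), ([], [13, 14])]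

noncomputable def dC (s : ℕ) (cs : List (List (List ℕ) × List ℕ)) : Bool :=
  allN (fun d => bor (Nat.beq d 0) (band (allL (fun W => band (onC NC W) (Nat.beq (ptE W s) s))
    (nth ([], []) cs d).1) (bor (Nat.beq (xs ptE d (nth ([], []) cs d).1) 16)
      (band (onC 30720 (nth ([], []) cs d).2) (band (nq (ptE (nth ([], []) cs d).2 s) s)
        (Nat.beq (xs ptE d (nth ([], []) cs d).1) (Nat.xor (ptE (nth ([], []) cs d).2 s) s)))))))
    32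

theorem h992 : dC 992 d992 = true := by decide +kernel

theorem h32 : dC 32 d32 = true := by decide +kernel

noncomputable def xC : List (List (List ℕ)) := [[], [], [], [], [], [], [], [], [], [], [], [], [], [], [], [],
  [], [], [], [], [], [], [], [], [], [], [], [], [], [], [], [],
  [[2, 3, 1, 2], [0, 16, 1, 2, 3, 0, 1, 2]], [[0]], [[1]], [[0]], [[0]], [[0]], [[0]], [[0]], [[1]], [[0]], [[1]], [[0]], [[0]], [[0]], [[0]], [[0]],
  [[2], [3, 2]], [[0]], [[1]], [[0]], [[0]], [[0]], [[0]], [[0]], [[1]], [[0]], [[1]], [[0]], [[0]], [[0]], [[0]], [[0]],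
  [[3, 1], [0, 16, 1, 2, 3, 0, 1]], [[0]], [[16]], [[0]], [[0]], [[0]], [[0]], [[0]], [[16]], [[0]], [[16]], [[0]], [[0]], [[0]], [[0]], [[0]],
  [[2], [3]], [[0]], [[16]], [[0]], [[0]], [[0]], [[0]], [[0]], [[16]], [[0]], [[16]], [[0]], [[0]], [[0]], [[0]], [[0]],
  [[3, 1], [0, 16, 1, 2, 0, 1]], [[0]], [[2]], [[0]], [[0]], [[0]], [[0]], [[0]], [[16]], [[0]], [[2]], [[0]], [[0]], [[0]], [[0]], [[0]],
  [[1], [2, 1]], [[0]], [[2]], [[0]], [[0]], [[0]], [[0]], [[0]], [[16]], [[0]], [[2]], [[0]], [[0]], [[0]], [[0]], [[0]],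
  [[3, 0], [16, 2, 3, 0]], [[2]], [[2]], [[2]], [[0, 1, 0]], [[2]], [[2]], [[2]], [[16]], [[2]], [[2]], [[2]], [[16]], [[2]], [[2]], [[2]],
  [[1], [2, 3]], [[2]], [[2]], [[2]], [[0, 1, 0]], [[2]], [[2]], [[2]], [[16]], [[2]], [[2]], [[2]], [[16]], [[2]], [[2]], [[2]],
  [[2, 0], [16, 3, 0]], [[0, 1, 0]], [[16]], [[16]], [[0, 1, 0]], [[0, 1, 0]], [[16]], [[16]], [[16]], [[16]], [[16]], [[16]], [[16]], [[16]], [[16]], [[16]],
  [[1], [2]], [[0, 1, 0]], [[16]], [[16]], [[0, 1, 0]], [[0, 1, 0]], [[16]], [[16]], [[16]], [[16]], [[16]], [[16]], [[16]], [[16]], [[16]], [[16]],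
  [[2, 0], [16, 3, 2, 0]], [[0, 1, 2, 1, 0]], [[1]], [[1]], [[1]], [[1]], [[3]], [[3]], [[1]], [[1]], [[1]], [[1]], [[1]], [[1]], [[1]], [[1]],
  [[0], [1, 0]], [[0, 1, 2, 1, 0]], [[1]], [[1]], [[1]], [[1]], [[3]], [[3]], [[1]], [[1]], [[1]], [[1]], [[1]], [[1]], [[1]], [[1]],
  [[0], [16, 0]], [[2]], [[1]], [[1]], [[1]], [[1]], [[2]], [[2]], [[1]], [[1]], [[1]], [[1]], [[1]], [[1]], [[1]], [[1]],
  [[0, 16, 1, 0], [2, 1, 0, 16, 3, 2, 1, 0]], [[2]], [[1]], [[1]], [[1]], [[1]], [[2]], [[2]], [[1]], [[1]], [[1]], [[1]], [[1]], [[1]], [[1]], [[1]],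
  [[3, 0], [16, 2, 3]], [[2]], [[1]], [[1]], [[1]], [[1]], [[2]], [[2]], [[1]], [[1]], [[1]], [[1]], [[1]], [[1]], [[1]], [[1]],
  [[0], [1, 2, 3]], [[2]], [[1]], [[1]], [[1]], [[1]], [[2]], [[2]], [[1]], [[1]], [[1]], [[1]], [[1]], [[1]], [[1]], [[1]],
  [[2, 0], [16, 3]], [[0, 16, 0]], [[1]], [[1]], [[1]], [[1]], [[0, 16, 0]], [[0, 16, 0]], [[1]], [[1]], [[1]], [[1]], [[1]], [[1]], [[1]], [[1]],
  [[0], [1, 2]], [[0, 16, 0]], [[1]], [[1]], [[1]], [[1]], [[0, 16, 0]], [[0, 16, 0]], [[1]], [[1]], [[1]], [[1]], [[1]], [[1]], [[1]], [[1]],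
  [[2, 0], [16, 3, 2]], [[0, 1, 0]], [[0, 1, 0]], [[1, 2, 1]], [[3]], [[3]], [[3]], [[3]], [[3]], [[3]], [[3]], [[3]], [[3]], [[3]], [[3]], [[3]],
  [[0], [1]], [[0, 1, 0]], [[0, 1, 0]], [[1, 2, 1]], [[3]], [[3]], [[3]], [[3]], [[3]], [[3]], [[3]], [[3]], [[3]], [[3]], [[3]], [[3]],
  [[0], [16]], [[2]], [[2]], [[2]], [[3]], [[2]], [[2]], [[2]], [[3]], [[2]], [[2]], [[2]], [[3]], [[2]], [[2]], [[2]],
  [[16, 1], [2, 1, 0, 16, 3, 2, 1]], [[2]], [[2]], [[2]], [[3]], [[2]], [[2]], [[2]], [[3]], [[2]], [[2]], [[2]], [[3]], [[2]], [[2]], [[2]],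
  [[16, 1], [2, 3, 1, 2, 0, 1]], [[0]], [[2]], [[0]], [[0]], [[0]], [[0]], [[0]], [[3]], [[0]], [[2]], [[0]], [[0]], [[0]], [[0]], [[0]],
  [[1], [0, 1]], [[0]], [[2]], [[0]], [[0]], [[0]], [[0]], [[0]], [[3]], [[0]], [[2]], [[0]], [[0]], [[0]], [[0]], [[0]],
  [[1], [0, 16]], [[0]], [[1, 2, 1]], [[0]], [[0]], [[0]], [[0]], [[0]], [[3]], [[0]], [[3]], [[0]], [[0]], [[0]], [[0]], [[0]],
  [[16, 2], [0, 16, 3, 2]], [[0]], [[1, 2, 1]], [[0]], [[0]], [[0]], [[0]], [[0]], [[3]], [[0]], [[3]], [[0]], [[0]], [[0]], [[0]], [[0]],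
  [[2], [1, 0, 16]], [[0]], [[1]], [[0]], [[0]], [[0]], [[0]], [[0]], [[1]], [[0]], [[1]], [[0]], [[0]], [[0]], [[0]], [[0]],
  [[16, 2], [0, 16, 3]], [[0]], [[1]], [[0]], [[0]], [[0]], [[0]], [[0]], [[1]], [[0]], [[1]], [[0]], [[0]], [[0]], [[0]], [[0]],
  [[3], [2, 1, 0, 16]], [[0]], [[1]], [[0]], [[0]], [[0]], [[0]], [[0]], [[1]], [[0]], [[1]], [[0]], [[0]], [[0]], [[0]], [[0]],
  [[16, 3], [0, 16, 2, 3]], [[0]], [[1]], [[0]], [[0]], [[0]], [[0]], [[0]], [[1]], [[0]], [[1]], [[0]], [[0]], [[0]], [[0]], [[0]],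
  [[16, 3], [0, 16, 2, 3]], [[0]], [[1]], [[0]], [[0]], [[0]], [[0]], [[0]], [[1]], [[0]], [[1]], [[0]], [[0]], [[0]], [[0]], [[0]],
  [[3], [2, 1, 0, 16]], [[0]], [[1]], [[0]], [[0]], [[0]], [[0]], [[0]], [[1]], [[0]], [[1]], [[0]], [[0]], [[0]], [[0]], [[0]],
  [[16, 2], [0, 16, 3]], [[0]], [[1]], [[0]], [[0]], [[0]], [[0]], [[0]], [[1]], [[0]], [[1]], [[0]], [[0]], [[0]], [[0]], [[0]],
  [[2], [1, 0, 16]], [[0]], [[1]], [[0]], [[0]], [[0]], [[0]], [[0]], [[1]], [[0]], [[1]], [[0]], [[0]], [[0]], [[0]], [[0]],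
  [[16, 2], [0, 16, 3, 2]], [[0]], [[1, 2, 1]], [[0]], [[0]], [[0]], [[0]], [[0]], [[3]], [[0]], [[3]], [[0]], [[0]], [[0]], [[0]], [[0]],
  [[1], [0, 16]], [[0]], [[1, 2, 1]], [[0]], [[0]], [[0]], [[0]], [[0]], [[3]], [[0]], [[3]], [[0]], [[0]], [[0]], [[0]], [[0]],
  [[1], [0, 1]], [[0]], [[2]], [[0]], [[0]], [[0]], [[0]], [[0]], [[3]], [[0]], [[2]], [[0]], [[0]], [[0]], [[0]], [[0]],
  [[16, 1], [2, 3, 1, 2, 0, 1]], [[0]], [[2]], [[0]], [[0]], [[0]], [[0]], [[0]], [[3]], [[0]], [[2]], [[0]], [[0]], [[0]], [[0]], [[0]],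
  [[16, 1], [2, 1, 0, 16, 3, 2, 1]], [[2]], [[2]], [[2]], [[3]], [[2]], [[2]], [[2]], [[3]], [[2]], [[2]], [[2]], [[3]], [[2]], [[2]], [[2]],
  [[0], [16]], [[2]], [[2]], [[2]], [[3]], [[2]], [[2]], [[2]], [[3]], [[2]], [[2]], [[2]], [[3]], [[2]], [[2]], [[2]],
  [[0], [1]], [[0, 1, 0]], [[0, 1, 0]], [[1, 2, 1]], [[3]], [[3]], [[3]], [[3]], [[3]], [[3]], [[3]], [[3]], [[3]], [[3]], [[3]], [[3]],
  [[2, 0], [16, 3, 2]], [[0, 1, 0]], [[0, 1, 0]], [[1, 2, 1]], [[3]], [[3]], [[3]], [[3]], [[3]], [[3]], [[3]], [[3]], [[3]], [[3]], [[3]], [[3]],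
  [[0], [1, 2]], [[0, 16, 0]], [[1]], [[1]], [[1]], [[1]], [[0, 16, 0]], [[0, 16, 0]], [[1]], [[1]], [[1]], [[1]], [[1]], [[1]], [[1]], [[1]],
  [[2, 0], [16, 3]], [[0, 16, 0]], [[1]], [[1]], [[1]], [[1]], [[0, 16, 0]], [[0, 16, 0]], [[1]], [[1]], [[1]], [[1]], [[1]], [[1]], [[1]], [[1]],
  [[0], [1, 2, 3]], [[2]], [[1]], [[1]], [[1]], [[1]], [[2]], [[2]], [[1]], [[1]], [[1]], [[1]], [[1]], [[1]], [[1]], [[1]],
  [[3, 0], [16, 2, 3]], [[2]], [[1]], [[1]], [[1]], [[1]], [[2]], [[2]], [[1]], [[1]], [[1]], [[1]], [[1]], [[1]], [[1]], [[1]],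
  [[0, 16, 1, 0], [2, 1, 0, 16, 3, 2, 1, 0]], [[2]], [[1]], [[1]], [[1]], [[1]], [[2]], [[2]], [[1]], [[1]], [[1]], [[1]], [[1]], [[1]], [[1]], [[1]],
  [[0], [16, 0]], [[2]], [[1]], [[1]], [[1]], [[1]], [[2]], [[2]], [[1]], [[1]], [[1]], [[1]], [[1]], [[1]], [[1]], [[1]],
  [[0], [1, 0]], [[0, 1, 2, 1, 0]], [[1]], [[1]], [[1]], [[1]], [[3]], [[3]], [[1]], [[1]], [[1]], [[1]], [[1]], [[1]], [[1]], [[1]],
  [[2, 0], [16, 3, 2, 0]], [[0, 1, 2, 1, 0]], [[1]], [[1]], [[1]], [[1]], [[3]], [[3]], [[1]], [[1]], [[1]], [[1]], [[1]], [[1]], [[1]], [[1]],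
  [[1], [2]], [[0, 1, 0]], [[16]], [[16]], [[0, 1, 0]], [[0, 1, 0]], [[16]], [[16]], [[16]], [[16]], [[16]], [[16]], [[16]], [[16]], [[16]], [[16]],
  [[2, 0], [16, 3, 0]], [[0, 1, 0]], [[16]], [[16]], [[0, 1, 0]], [[0, 1, 0]], [[16]], [[16]], [[16]], [[16]], [[16]], [[16]], [[16]], [[16]], [[16]], [[16]],
  [[1], [2, 3]], [[2]], [[2]], [[2]], [[0, 1, 0]], [[2]], [[2]], [[2]], [[16]], [[2]], [[2]], [[2]], [[16]], [[2]], [[2]], [[2]],
  [[3, 0], [16, 2, 3, 0]], [[2]], [[2]], [[2]], [[0, 1, 0]], [[2]], [[2]], [[2]], [[16]], [[2]], [[2]], [[2]], [[16]], [[2]], [[2]], [[2]],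
  [[1], [2, 1]], [[0]], [[2]], [[0]], [[0]], [[0]], [[0]], [[0]], [[16]], [[0]], [[2]], [[0]], [[0]], [[0]], [[0]], [[0]],
  [[3, 1], [0, 16, 1, 2, 0, 1]], [[0]], [[2]], [[0]], [[0]], [[0]], [[0]], [[0]], [[16]], [[0]], [[2]], [[0]], [[0]], [[0]], [[0]], [[0]],
  [[2], [3]], [[0]], [[16]], [[0]], [[0]], [[0]], [[0]], [[0]], [[16]], [[0]], [[16]], [[0]], [[0]], [[0]], [[0]], [[0]],
  [[3, 1], [0, 16, 1, 2, 3, 0, 1]], [[0]], [[16]], [[0]], [[0]], [[0]], [[0]], [[0]], [[16]], [[0]], [[16]], [[0]], [[0]], [[0]], [[0]], [[0]],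
  [[2], [3, 2]], [[0]], [[1]], [[0]], [[0]], [[0]], [[0]], [[0]], [[1]], [[0]], [[1]], [[0]], [[0]], [[0]], [[0]], [[0]],
  [[2, 3, 1, 2], [0, 16, 1, 2, 3, 0, 1, 2]], [[0]], [[1]], [[0]], [[0]], [[0]], [[0]], [[0]], [[1]], [[0]], [[1]], [[0]], [[0]], [[0]], [[0]], [[0]],
  [], [], [], [], [], [], [], [], [], [], [], [], [], [], [], [],
  [], [], [], [], [], [], [], [], [], [], [], [], [], [], [], []]

theorem hX : allN (fun d => bor (bor (Nat.beq d 0) (Nat.beq d 1008))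
    (band (allL (onC S6m) (nth [] xC d)) (Comp.force (xs ptE d (nth [] xC d)) fun x =>
      bor (band (Nat.blt x 32) (nq x 0))
        (band (Nat.blt (Nat.xor x 1008) 32) (nq (Nat.xor x 1008) 0))))) 1024 = true := by
  decide +kernel

end EG

open EG

/-- a linear group on `E` over `2⁴ : S₆` that moves `t = 16`, but not inside `E ∩ Q`, contains `d` -/
theorem E_main {H : Subgroup (LB 10)} (hN : ∀ k, NC.testBit k = true → yE k ∈ H)
    (hw : ∀ h ∈ H, h.1 16 < 32 → h.1 16 = 16) (hm : ∃ h ∈ H, h.1 16 ≠ 16) : yE 22 ∈ H := by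
  classical
  have t := (allN_eq _ _).1 hT
  simp only [band_eq, bor_eq, nq_eq, Nat.blt_eq, Nat.beq_eq] at t
  have t1 : ∀ y < 1024, (ev yE (tw y)).1 (rp (lab y)) = y := fun y hy => by
    rw [← ptE_eq _ (t y hy).1.2, (t y hy).2.1.2]
  have t2 : ∀ y < 1024, ev yE (tw y) ∈ H := fun y hy => word hN (t y hy).2.1.1
  let T : ℕ → Prop := fun y => ∃ h ∈ H, h.1 16 = y
  have hT1 : ∀ h ∈ H, ∀ y, T y → T (h.1 y) := by
    rintro h hh _ ⟨k, hk, rfl⟩; exact ⟨h * k, mul_mem hh hk, rfl⟩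
  have hT2 : ∀ h ∈ H, ∀ y, T (h.1 y) ↔ T y := fun h hh y =>
    ⟨fun a => by simpa using hT1 _ (inv_mem hh) _ a, hT1 h hh y⟩
  obtain ⟨m, m1, m2⟩ : ∃ m < 1024, ∀ i < 10, tb m i = true ↔ T (rp i) :=
    ⟨Nat.ofBits fun i : Fin 10 => decide (T (rp i)), Nat.ofBits_lt_two_pow _, fun i hi => by
      rw [tb_eq, Nat.testBit_ofBits_lt _ _ hi, decide_eq_true_iff]⟩
  have m3 : ∀ y < 1024, tb m (lab y) = true ↔ T y := fun y hy => by
    rw [m2 _ (t y hy).1.1, ← hT2 _ (t2 y hy), t1 y hy]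
  have m4 : ∀ h ∈ H, ∀ y < 1024, tb m (lab (h.1 y)) = tb m (lab y) := fun h hh y hy =>
    Bool.eq_iff_iff.2 (by rw [m3 _ (LB.lt h hy), m3 y hy, hT2 h hh])
  have hf : ∀ h ∈ H, ∀ x < 1024, f m (h.1 x) = f m x := fun h hh x hx =>
    sumN_perm (n := 10) h fun y hy => by
      rw [m4 h hh y hy, show Nat.xor (h.1 x) (h.1 y) = _ from (LB.add h hx hy).symm,
        m4 h hh _ (Nat.xor_lt_two_pow (n := 10) hx hy)]
      rfl
  have hf' : ∀ y < 1024, f m (rp (lab y)) = f m y := fun y hy => by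
    rw [← hf _ (t2 y hy) _ (t y hy).1.2, t1 y hy]
  have hg : ∀ h ∈ H, ∀ x < 1024, g m (h.1 x) = g m x := fun h hh x hx =>
    sumN_perm (n := 10) h fun y hy => by
      have a := Nat.xor_lt_two_pow (n := 10) hx hy
      rw [m4 h hh y hy, show Nat.xor (h.1 x) (h.1 y) = _ from (LB.add h hx hy).symm, Comp.force_eq,
        Comp.force_eq, hf' _ (LB.lt h a), hf h hh _ a, ← hf' _ a]
      rfl
  obtain rfl : m = 324 := by
    have c := (allN_eq _ _).1 hM m m1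
    rw [(m2 2 (by decide)).2 ⟨1, one_mem _, rfl⟩] at c
    simp only [bif'_eq, if_true, bor_eq, anyN_eq, band_eq, nq_eq, Nat.beq_eq] at c
    rcases c with (c | c) | rfl | c | ⟨i, a, b, c⟩ | ⟨i, a, b, c⟩
    · obtain ⟨h, a, b⟩ := (m2 0 (by decide)).1 c
      have := hw h a
      rw [b] at this
      exact absurd (this (by decide)) (by decide)
    · obtain ⟨h, a, b⟩ := (m2 1 (by decide)).1 c
      have := hw h a
      rw [b] at this
      exact absurd (this (by decide)) (by decide)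
    · obtain ⟨h, a, b⟩ := hm
      have l := LB.lt h (a := 16) (by decide)
      have d := (m3 _ l).2 ⟨h, a, rfl⟩
      rw [tb_eq, show 4 = 2 ^ 2 from rfl, Nat.testBit_two_pow, decide_eq_true_iff] at d
      exact absurd ((t _ l).2.2.resolve_left (not_not.2 d.symm)) b
    · exact c
    · obtain ⟨h, d, e⟩ := (m2 i a).1 b
      exact absurd (e ▸ hf h d 16 (by decide)) c
    · obtain ⟨h, d, e⟩ := (m2 i a).1 b
      exact absurd (e ▸ hg h d 16 (by decide)) c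
  have p1 : ∀ y < 1024, φ y = f 324 y := fun y hy => by
    rw [← hf' y hy]
    exact (Nat.beq_eq ▸ (allN_eq _ _).1 hF _ (t y hy).1.1).symm
  have hφ : ∀ h ∈ H, ∀ x < 1024, φ (h.1 x) = φ x := fun h hh x hx => by
    rw [p1 _ (LB.lt h hx), p1 x hx, hf h hh x hx]
  have d := (allN_eq _ _).1 hD
  obtain ⟨h, hh, e⟩ : T 992 := (m2 8 (by decide)).1 (by decide)
  have l : h⁻¹.1 16 < 1024 := LB.lt h⁻¹ (by decide)
  have e1 : h.1 (h⁻¹.1 16) = 16 := by simp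
  have d1 := ((band_eq _ _).1 (d _ l)).2
  rw [(m3 _ l).2 ⟨_, inv_mem hh, rfl⟩] at d1
  simp only [bif'_eq, if_true, bor_eq, band_eq, nq_eq, Nat.beq_eq] at d1
  obtain ⟨d2, d3⟩ := d1.resolve_left (not_not.2 (by
    change φ (16 ^^^ _) = 2
    rw [← hφ h hh _ (Nat.xor_lt_two_pow (n := 10) (show 16 < _ by decide) l),
      LB.add h (by decide) l, e, e1]
    decide +kernel))
  rw [ptE_eq _ (by decide)] at d3
  have d4 := t1 _ l
  rw [d2] at d4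
  have k : ∀ y < 1024, (yE 22).1 y = ptE [22] y := fun y hy => by rw [ptE_eq _ hy]; simp
  have hw' := mul_mem hh (t2 _ l)
  have f1 : (yE 22 * (h * ev yE (tw (h⁻¹.1 16)))).1 16 = 16 := by
    rw [LB.mul_apply, LB.mul_apply, d3, e, k _ (by decide)]; decide +kernel
  have f2 : (yE 22 * (h * ev yE (tw (h⁻¹.1 16)))).1 992 = 992 := by
    rw [LB.mul_apply, LB.mul_apply, show (ev yE _).1 992 = _ from d4, e1, k _ (by decide)]
    decide +kernel
  refine (mul_mem_cancel_right hw').1 (chain hN hφ _ _ hC _ (fun x hx => ?_) ?_)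
  · rw [LB.mul_apply, k _ (LB.lt _ hx), ← hφ _ hw' x hx]
    exact Nat.beq_eq ▸ ((band_eq _ _).1 (d _ (LB.lt _ hx))).1
  · simp only [List.forall_mem_cons, List.not_mem_nil, false_imp_iff, implies_true, and_true]
    refine ⟨⟨by decide, LB.zero _⟩, ⟨by decide, f1⟩, ⟨by decide, f2⟩, by decide, ?_⟩
    rw [show 1008 = 16 ^^^ 992 from rfl, LB.add _ (by decide) (by decide), f1, f2]

/-- `30720` is the set of letters `11, 12, 13, 14` -/
theorem E_D {s : ℕ} (hs : s = 992 ∨ s = 32) {D : ℕ → Prop} (lt : ∀ d, D d → d < 32)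
    (add : ∀ d e, D d → D e → D (d ^^^ e))
    (inv : ∀ W, onC NC W = true → ptE W s = s → ∀ d, D d → D (ptE W d)) (nt : ¬ D 16)
    (nu : ∀ W, onC 30720 W = true → D (ptE W s ^^^ s) → ptE W s = s) {d : ℕ} (hd : D d) : d = 0 := by
  obtain ⟨cs, h⟩ : ∃ cs, dC s cs = true := by
    rcases hs with rfl | rfl
    exacts [⟨_, h992⟩, ⟨_, h32⟩]
  have c := (allN_eq _ _).1 h d (lt d hd)
  simp only [bor_eq, band_eq, allL_eq, nq_eq, Nat.beq_eq] at c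
  refine c.resolve_right fun ⟨a, b⟩ => ?_
  have k := xs_mem add hd fun W m => inv W (a W m).1 (a W m).2 d hd
  rcases b with b | ⟨b1, b2, b3⟩
  · exact nt (b ▸ k)
  · exact b2 (nu _ b1 (by rw [b3] at k; exact k))

theorem E_X {X : ℕ → Prop} (lt : ∀ d, X d → d < 1024) (add : ∀ d e, X d → X e → X (d ^^^ e))
    (inv : ∀ W, onC S6m W = true → ∀ d, X d → X (ptE W d)) (hv : X 1008)
    (hQ : ∀ b < 32, X b → b = 0) {d : ℕ} (hd : X d) : d = 0 ∨ d = 1008 := by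
  have c := (allN_eq _ _).1 hX d (lt d hd)
  simp only [bor_eq, band_eq, allL_eq, nq_eq, Nat.beq_eq, Nat.blt_eq, Comp.force_eq] at c
  refine c.resolve_right fun ⟨a, b⟩ => ?_
  have k := xs_mem add hd fun W m => inv W (a W m) d hd
  rcases b with b | b
  · exact b.2 (hQ _ b.1 k)
  · exact b.2 (hQ _ b.1 (add _ _ k hv))

end Cfsg.Agent.CO2T
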