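import Mathlib
import Cfsg.Agent.CO2T.Mv

/-! The element `d` can be chosen so that it acts on `E : S₆` as in the model. -/

set_option autoImplicit false
set_option maxRecDepth 100000

namespace Cfsg.Agent.CO2T

open Subgroup Cfsg.Agent.TT Cfsg.Agent.LES Cfsg.Agent.Comp.BN Cfsg.Agent.XSC Cfsg.Agent.XSC.WC

variable {G : Type*} [Group G] {Q : Subgroup G} {t d : G} {x y : ℕ → G × MM}

/-- the letters of `E : S₆` -/
def ST : ℕ := 4163471

/-- the letters of `N_C(E)` -/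
def NE : ℕ := 4194287

/-- the letters `NC` and `22` -/
def ND : ℕ := 4290639

/-- the conjugates of the letters of `ST` by `d` -/
def dwL : List (List ℕ) := [[15, 17, 19, 2, 3, 1, 2, 16], [15, 18, 20, 3, 0, 1, 16, 0], [15, 17, 19, 0, 1, 2, 3, 0, 1, 2, 16, 0, 1, 0], [7, 18, 19, 3, 1, 16], [], [], [], [18, 19, 20, 21], [17, 18, 19], [17, 19, 20], [18, 20, 21], [], [], [], [], [17, 18, 19, 20, 21], [8, 19, 20, 3, 16, 0, 1, 16, 0, 16], [7, 15], [8, 10, 15], [7, 10], [9, 10, 15], [8, 9, 10]]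

/-- the cocycle -/
noncomputable def cc (e : ℕ → ℕ) (U : List ℕ) : ℕ :=
  List.rec (motive := fun _ => ℕ) 0 (fun k _ ih => Nat.xor (e k) (ptE (nth [] dwL k) ih)) U

noncomputable def bad (e : ℕ → ℕ) (rs : List (List ℕ)) : Bool := anyL (fun r => nq (cc e r) 0) rs

noncomputable def ecc (a f c : ℕ) : ℕ → ℕ := nth 0 [a, c, f, f, 0, 0, 0, 0, 0, 0, 0, 0, 0, 0, 0, 0, a]

def tests : List (List ℕ × ℕ × (List ℕ × ℕ × List ℕ × ℕ) × (List ℕ × ℕ × List ℕ × ℕ)) :=
  [([7, 17, 16, 1, 3], 19, ([4, 3, 2, 1, 5, 4, 3, 2], 225, [22, 12, 22, 12], 16), ([4, 3, 5, 4], 1009, [11], 1008)), ([17, 16, 1, 3], 960, ([4, 3, 2, 1, 5, 4, 3, 2], 224, [0, 1, 22], 1), ([4, 3, 5, 4], 994, [22, 12], 16)), ([7, 17, 16, 1, 3], 979, ([4, 3, 2, 1, 5, 4, 3, 2], 225, [22, 12, 22, 12], 16), ([4, 3, 5, 4], 49, [11, 22, 11], 1008)), ([16], 16, ([4, 3, 2, 1, 0, 5, 4, 3, 2, 1, 16, 0], 992, [22], 16), ([4, 3, 5, 4], 434, [2, 1, 22, 11], 1)), ([15, 16],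 992, ([4, 3, 2, 1, 0, 5, 4, 3, 2, 1, 16, 0], 1008, [], 1008), ([4, 3, 5, 4], 418, [22, 13, 22, 11], 16)), ([15, 17, 18, 19, 16], 1008, ([4, 3, 2, 1, 0, 5, 4, 3, 2, 1, 16, 0], 48, [11, 22], 1008), ([4, 3, 5, 4], 432, [22, 13, 22], 16))]

/-- the word `W` is conjugate to the element of `E` with coordinates `p.2.2.2` -/
noncomputable def clsC (W : List ℕ) (p : List ℕ × ℕ × List ℕ × ℕ) : Bool :=
  band (band (eqOn val M1 (appendL p.1 W) (appendL (bw El p.2.1) p.1)) (Nat.blt p.2.1 1024))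
    (band (onC ND p.2.2.1) (Nat.beq (ptE p.2.2.1 p.2.1) p.2.2.2))

theorem c_NE : maskAll NE 25 (fun k => band (tb M1 k) (allN (fun i =>
    eqOn val M1 (appendL (k :: bw El (2 ^ i)) [k]) (bw El (ptE [k] (2 ^ i)))) 10)) = true := by
  decide +kernel

theorem c_ST : maskAll ST 25 (fun k => band (band (tb NE k) (onC ST (nth [] dwL k)))
    (band (eqC valE [22, k, 22] (nth [] dwL k)) (eqOn val M1 (subst dwL (nth [] dwL k)) [k]))) = true := by
  decide +kernel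

theorem c_dE : allL (fun k => anyN (fun b => band (eqL (bw El b) [k])
    (eqL (bw El (ptE [22] b)) (nth [] dwL k))) 1024) El = true := by
  decide +kernel

theorem c_relT : allL (fun r => band (onC ST r) (band (eqOn val M1 r []) (eqOn val M1 (subst dwL r) [])))
    [[16, 16], [0, 0], [2, 2], [3, 3], [16, 2, 16, 2], [16, 3, 16, 3], [0, 2, 0, 2], [0, 3, 0, 3], [1, 1], [16, 1, 16, 1], [1, 3, 1, 3], [0, 1, 0, 1, 0, 1], [1, 2, 1, 2, 1, 2]] = true := by
  decide +kernel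

theorem c_sol : allN (fun a => bor (bad (ecc a 0 0) [[16, 16], [0, 0]]) (allN (fun f =>
    bor (bad (ecc a f 0) [[2, 2], [3, 3], [16, 2, 16, 2], [16, 3, 16, 3], [0, 2, 0, 2], [0, 3, 0, 3]]) (allN (fun c =>
      bor (bad (ecc a f c) [[1, 1], [16, 1, 16, 1], [1, 3, 1, 3], [0, 1, 0, 1, 0, 1], [1, 2, 1, 2, 1, 2]])
        (bor (Nat.beq (Nat.lor a (Nat.lor f c)) 0)
          (anyL (fun p => Nat.beq (cc (ecc a f c) p.1) p.2.1) tests))) 1024)) 1024)) 1024 = true := by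
  decide +kernel

theorem c_tests : allL (fun p => band (band (onC ST p.1) (clsC p.1 p.2.2.1))
    (clsC (appendL (bw El p.2.1) (subst dwL p.1)) p.2.2.2)) tests = true := by
  decide +kernel

theorem c_fix : allN (fun a => bor (anyL (fun k => nq (ptE [k] a) a) [0, 1, 2, 3, 16, 22])
    (bor (Nat.beq a 0) (Nat.beq a 1008))) 1024 = true := by
  decide +kernel

theorem c_relsD : all2 (fun r w => band (band (eqL r (22 :: nth 0 r 1 :: 22 :: r.drop 3)) (eqC val r []))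
    (band (band (onC ST w) (eqOn val M1 [nth 0 r 1] w))
      (band (onC M1 (r.drop 3)) (eqOn val M1 (appendL (subst dwL w) (r.drop 3)) [])))) relsD
    [[16], [0], [1], [2], [3], [17, 3], [7], [8], [9], [10], [15], [17], [18], [19], [20], [21], [17, 18, 19, 20, 21]] = true := by
  decide +kernel

end Cfsg.Agent.CO2T
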