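import Cfsg.Agent.CO2T.TCa

set_option autoImplicit false
set_option Elab.async false
set_option maxRecDepth 100000

namespace Cfsg.Agent.CO2T

open Cfsg.Agent.Comp.BN Cfsg.Agent.XSC Cfsg.Agent.TT Cfsg.Agent.LES Subgroup

def PTA : Pres := ⟨[0, 1, 2, 3, 4, 5, 6, 7, 8, 9, 10, 11, 12, 13, 14, 15, 16, 17],
  [[17, 11, 17, 11, 0, 11, 1, 0, 11, 3, 15, 14, 7],
   [17, 0, 17, 11, 2, 1, 3, 2, 14, 12, 10],
   [17, 1, 17, 0, 11, 1, 0, 3, 15, 13, 10],
   [17, 2, 17, 0, 1, 0, 11, 2, 1, 0, 3, 2, 1, 0, 14, 12, 10],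
   [17, 3, 17, 11, 1, 3, 14, 13, 6],
   [17, 5, 17, 11, 1, 3, 14, 13, 10],
   [17, 6, 17, 16, 15, 14, 13],
   [17, 7, 17, 14, 13, 12],
   [17, 8, 17, 15, 14, 12],
   [17, 9, 17, 16, 15, 13],
   [17, 12, 17, 10, 6],
   [17, 13, 17, 10, 9, 7],
   [17, 14, 17, 9, 6],
   [17, 15, 17, 10, 9, 8],
   [17, 16, 17, 9, 8, 7],
   [17, 4, 17, 10]]⟩

namespace TA
noncomputable def net0 : Net := .nil

theorem ok0 : Net.ok 2 net0 = true :=
  by decide +kernel

noncomputable def net1 : Net := .nil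

theorem ok1 : Net.ok 2 net1 = true :=
  by decide +kernel

noncomputable def net2 : Net := .nil

theorem ok2 : Net.ok 2 net2 = true :=
  by decide +kernel

noncomputable def net3 : Net := .nil

theorem ok3 : Net.ok 2 net3 = true :=
  by decide +kernel

noncomputable def net4 : Net := .nil

theorem ok4 : Net.ok 2 net4 = true :=
  by decide +kernel

noncomputable def net5 : Net := .nil

theorem ok5 : Net.ok 2 net5 = true :=
  by decide +kernel

noncomputable def net6 : Net := .nil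

theorem ok6 : Net.ok 2 net6 = true :=
  by decide +kernel

noncomputable def net7 : Net := .nil

theorem ok7 : Net.ok 2 net7 = true :=
  by decide +kernel

noncomputable def net8 : Net := .nil

theorem ok8 : Net.ok 2 net8 = true :=
  by decide +kernel

noncomputable def net9 : Net := .nil

theorem ok9 : Net.ok 2 net9 = true :=
  by decide +kernel

noncomputable def net10 : Net := .nil

theorem ok10 : Net.ok 2 net10 = true :=
  by decide +kernel

noncomputable def net11 : Net := .nil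

theorem ok11 : Net.ok 2 net11 = true :=
  by decide +kernel

noncomputable def net12 : Net := .nil

theorem ok12 : Net.ok 2 net12 = true :=
  by decide +kernel

noncomputable def net13 : Net := .nil

theorem ok13 : Net.ok 2 net13 = true :=
  by decide +kernel

noncomputable def net14 : Net := .nil

theorem ok14 : Net.ok 2 net14 = true :=
  by decide +kernel

noncomputable def net15 : Net := .nil

theorem ok15 : Net.ok 2 net15 = true :=
  by decide +kernel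

noncomputable def net16 : Net := .nil

theorem ok16 : Net.ok 2 net16 = true :=
  by decide +kernel

noncomputable def m17_0 : ℕ := nat_lit 0x1

noncomputable def net17 : Net := (.cons 1 m17_0 .nil)

theorem ok17 : Net.ok 2 net17 = true :=
  by decide +kernel

noncomputable def nets : List Net := [net0, net1, net2, net3, net4, net5, net6, net7, net8, net9, net10, net11, net12, net13, net14, net15, net16, net17]

noncomputable def act : Act := netAct' nets
noncomputable def π : ℕ → Equiv.Perm ℕ := netPerm nets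

theorem spec : act.Spec 2 π :=
  spec_fast (netAct_spec (AllP.forall (p := fun t => Net.ok 2 t = true) ⟨ok0, ok1, ok2, ok3, ok4, ok5, ok6, ok7, ok8, ok9, ok10, ok11, ok12, ok13, ok14, ok15, ok16, ok17, trivial⟩))

theorem out : ∀ k, 18 ≤ k → π k = 1 :=
  netPerm_out nets

theorem sat_inv_0 : invC Cfsg.Agent.CO2T.TA.act Cfsg.Agent.CO2T.PTA.I 2 1 Cfsg.Agent.CO2T.PTA.inv.length [0] = true :=
  by decide +kernel

theorem sat_inv : ∀ k, Cfsg.Agent.CO2T.TA.π (Cfsg.Agent.CO2T.PTA.I k) * Cfsg.Agent.CO2T.TA.π k = 1 :=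
  inv_of_checks Cfsg.Agent.CO2T.TA.spec (K := 1) (by decide) Cfsg.Agent.CO2T.TA.out [[0]] (by decide) ⟨sat_inv_0, trivial⟩

theorem sat_rel_0_0 : relsC Cfsg.Agent.CO2T.TA.act Cfsg.Agent.CO2T.PTA.I 2 1 [[17, 11, 17, 11, 0, 11, 1, 0, 11, 3, 15, 14, 7], [17, 0, 17, 11, 2, 1, 3, 2, 14, 12, 10], [17, 1, 17, 0, 11, 1, 0, 3, 15, 13, 10], [17, 2, 17, 0, 1, 0, 11, 2, 1, 0, 3, 2, 1, 0, 14, 12, 10], [17, 3, 17, 11, 1, 3, 14, 13, 6], [17, 5, 17, 11, 1, 3, 14, 13, 10], [17, 6, 17, 16, 15, 14, 13], [17, 7, 17, 14, 13, 12], [17, 8, 17, 15, 14, 12], [17, 9, 17, 16, 15, 13], [17, 12, 17, 10, 6], [17, 13, 17, 10, 9, 7], [17, 14, 17, 9, 6], [17, 15, 17, 10, 9, 8], [17, 16, 17, 9, 8, 7], [17, 4, 17, 10]] [0] = true :=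
  by decide +kernel

theorem sat_rel_0 : ∀ r ∈ ([[17, 11, 17, 11, 0, 11, 1, 0, 11, 3, 15, 14, 7], [17, 0, 17, 11, 2, 1, 3, 2, 14, 12, 10], [17, 1, 17, 0, 11, 1, 0, 3, 15, 13, 10], [17, 2, 17, 0, 1, 0, 11, 2, 1, 0, 3, 2, 1, 0, 14, 12, 10], [17, 3, 17, 11, 1, 3, 14, 13, 6], [17, 5, 17, 11, 1, 3, 14, 13, 10], [17, 6, 17, 16, 15, 14, 13], [17, 7, 17, 14, 13, 12], [17, 8, 17, 15, 14, 12], [17, 9, 17, 16, 15, 13], [17, 12, 17, 10, 6], [17, 13, 17, 10, 9, 7], [17, 14, 17, 9, 6], [17, 15, 17, 10, 9, 8], [17, 16, 17, 9, 8, 7], [17, 4, 17, 10]] : List (List ℕ)), ev Cfsg.Agent.CO2T.TA.π r = 1 :=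
  rels_of_checks Cfsg.Agent.CO2T.TA.spec (K := 1) (by decide) sat_inv _ [[0]] (by decide) ⟨sat_rel_0_0, trivial⟩

theorem sat_rel : ∀ r ∈ ([[17, 11, 17, 11, 0, 11, 1, 0, 11, 3, 15, 14, 7], [17, 0, 17, 11, 2, 1, 3, 2, 14, 12, 10], [17, 1, 17, 0, 11, 1, 0, 3, 15, 13, 10], [17, 2, 17, 0, 1, 0, 11, 2, 1, 0, 3, 2, 1, 0, 14, 12, 10], [17, 3, 17, 11, 1, 3, 14, 13, 6], [17, 5, 17, 11, 1, 3, 14, 13, 10], [17, 6, 17, 16, 15, 14, 13], [17, 7, 17, 14, 13, 12], [17, 8, 17, 15, 14, 12], [17, 9, 17, 16, 15, 13], [17, 12, 17, 10, 6], [17, 13, 17, 10, 9, 7], [17, 14, 17, 9, 6], [17, 15, 17, 10, 9, 8], [17, 16, 17, 9, 8, 7], [17, 4, 17, 10]] : List (List ℕ)), ev Cfsg.Agent.CO2T.TA.π r = 1 :=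
  rels_join [[[17, 11, 17, 11, 0, 11, 1, 0, 11, 3, 15, 14, 7], [17, 0, 17, 11, 2, 1, 3, 2, 14, 12, 10], [17, 1, 17, 0, 11, 1, 0, 3, 15, 13, 10], [17, 2, 17, 0, 1, 0, 11, 2, 1, 0, 3, 2, 1, 0, 14, 12, 10], [17, 3, 17, 11, 1, 3, 14, 13, 6], [17, 5, 17, 11, 1, 3, 14, 13, 10], [17, 6, 17, 16, 15, 14, 13], [17, 7, 17, 14, 13, 12], [17, 8, 17, 15, 14, 12], [17, 9, 17, 16, 15, 13], [17, 12, 17, 10, 6], [17, 13, 17, 10, 9, 7], [17, 14, 17, 9, 6], [17, 15, 17, 10, 9, 8], [17, 16, 17, 9, 8, 7], [17, 4, 17, 10]]] ⟨sat_rel_0, trivial⟩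

theorem sat : Sat Cfsg.Agent.CO2T.PTA Cfsg.Agent.CO2T.TA.π :=
  ⟨Cfsg.Agent.CO2T.TA.out, sat_inv, sat_rel⟩

noncomputable def done_tr0 : ℕ := nat_lit 0

noncomputable def done_tr1 : ℕ := nat_lit 0x2

noncomputable def done_tr2 : ℕ := nat_lit 0

noncomputable def done_tr3 : ℕ := nat_lit 0

noncomputable def done_tr4 : ℕ := nat_lit 0x2

noncomputable def done_t0_0 : ℕ := nat_lit 0x1

noncomputable def done_t0_1 : ℕ := nat_lit 0x2

noncomputable def done_t1_0 : ℕ := nat_lit 0x1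

noncomputable def done_t1_1 : ℕ := nat_lit 0x2

noncomputable def done_t2_0 : ℕ := nat_lit 0x1

noncomputable def done_t2_1 : ℕ := nat_lit 0x2

noncomputable def done_t3_0 : ℕ := nat_lit 0x1

noncomputable def done_t3_1 : ℕ := nat_lit 0x2

noncomputable def done_t4_0 : ℕ := nat_lit 0x1

noncomputable def done_t4_1 : ℕ := nat_lit 0x2

noncomputable def done_t5_0 : ℕ := nat_lit 0x1

noncomputable def done_t5_1 : ℕ := nat_lit 0x2

noncomputable def done_t6_0 : ℕ := nat_lit 0x1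

noncomputable def done_t6_1 : ℕ := nat_lit 0x2

noncomputable def done_t7_0 : ℕ := nat_lit 0x1

noncomputable def done_t7_1 : ℕ := nat_lit 0x2

noncomputable def done_t8_0 : ℕ := nat_lit 0x1

noncomputable def done_t8_1 : ℕ := nat_lit 0x2

noncomputable def done_t9_0 : ℕ := nat_lit 0x1

noncomputable def done_t9_1 : ℕ := nat_lit 0x2

noncomputable def done_t10_0 : ℕ := nat_lit 0x1

noncomputable def done_t10_1 : ℕ := nat_lit 0x2

noncomputable def done_t11_0 : ℕ := nat_lit 0x1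

noncomputable def done_t11_1 : ℕ := nat_lit 0x2

noncomputable def done_t12_0 : ℕ := nat_lit 0x1

noncomputable def done_t12_1 : ℕ := nat_lit 0x2

noncomputable def done_t13_0 : ℕ := nat_lit 0x1

noncomputable def done_t13_1 : ℕ := nat_lit 0x2

noncomputable def done_t14_0 : ℕ := nat_lit 0x1

noncomputable def done_t14_1 : ℕ := nat_lit 0x2

noncomputable def done_t15_0 : ℕ := nat_lit 0x1

noncomputable def done_t15_1 : ℕ := nat_lit 0x2

noncomputable def done_t16_0 : ℕ := nat_lit 0x1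

noncomputable def done_t16_1 : ℕ := nat_lit 0x2

noncomputable def done_t17_0 : ℕ := nat_lit 0x1

noncomputable def done_t17_1 : ℕ := nat_lit 0

noncomputable def doneC : TC := ⟨Cfsg.Agent.CO2T.PTA, [[0], [1], [2], [3], [4], [5], [6], [7], [8], [9], [10], [11], [12], [13], [14], [15], [16]], 2, 2, 1, 2, [done_tr0, done_tr1, done_tr2, done_tr3, done_tr4],
  [[done_t0_0, done_t0_1],
   [done_t1_0, done_t1_1],
   [done_t2_0, done_t2_1],
   [done_t3_0, done_t3_1],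
   [done_t4_0, done_t4_1],
   [done_t5_0, done_t5_1],
   [done_t6_0, done_t6_1],
   [done_t7_0, done_t7_1],
   [done_t8_0, done_t8_1],
   [done_t9_0, done_t9_1],
   [done_t10_0, done_t10_1],
   [done_t11_0, done_t11_1],
   [done_t12_0, done_t12_1],
   [done_t13_0, done_t13_1],
   [done_t14_0, done_t14_1],
   [done_t15_0, done_t15_1],
   [done_t16_0, done_t16_1],
   [done_t17_0, done_t17_1]]⟩

theorem done_s : doneC.structC Cfsg.Agent.CO2T.TA.act = true :=
  by decide +kernel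

theorem done_c0_0 : doneC.coverC Cfsg.Agent.CO2T.TA.act 0 true [] [(true, 0, 0, 0), (false, 3, 1, 0)] 0 (ones 2) = true :=
  by decide +kernel

theorem done_j0 : doneC.JustS Cfsg.Agent.CO2T.TA.π 0 (ones 2) :=
  TC.cover_step Cfsg.Agent.CO2T.TA.spec done_s (TC.justS_zero 0) done_c0_0

theorem done_c1_0 : doneC.coverC Cfsg.Agent.CO2T.TA.act 1 true [] [(true, 1, 0, 0), (false, 6, 1, 0)] 0 (ones 2) = true :=
  by decide +kernel

theorem done_j1 : doneC.JustS Cfsg.Agent.CO2T.TA.π 1 (ones 2) :=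
  TC.cover_step Cfsg.Agent.CO2T.TA.spec done_s (TC.justS_zero 1) done_c1_0

theorem done_c2_0 : doneC.coverC Cfsg.Agent.CO2T.TA.act 2 true [] [(true, 2, 0, 0), (false, 9, 1, 0)] 0 (ones 2) = true :=
  by decide +kernel

theorem done_j2 : doneC.JustS Cfsg.Agent.CO2T.TA.π 2 (ones 2) :=
  TC.cover_step Cfsg.Agent.CO2T.TA.spec done_s (TC.justS_zero 2) done_c2_0

theorem done_c3_0 : doneC.coverC Cfsg.Agent.CO2T.TA.act 3 true [] [(true, 3, 0, 0), (false, 12, 1, 0)] 0 (ones 2) = true :=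
  by decide +kernel

theorem done_j3 : doneC.JustS Cfsg.Agent.CO2T.TA.π 3 (ones 2) :=
  TC.cover_step Cfsg.Agent.CO2T.TA.spec done_s (TC.justS_zero 3) done_c3_0

theorem done_c4_0 : doneC.coverC Cfsg.Agent.CO2T.TA.act 4 true [] [(true, 4, 0, 0), (false, 45, 1, 0)] 0 (ones 2) = true :=
  by decide +kernel

theorem done_j4 : doneC.JustS Cfsg.Agent.CO2T.TA.π 4 (ones 2) :=
  TC.cover_step Cfsg.Agent.CO2T.TA.spec done_s (TC.justS_zero 4) done_c4_0

theorem done_c5_0 : doneC.coverC Cfsg.Agent.CO2T.TA.act 5 true [] [(true, 5, 0, 0), (false, 15, 1, 0)] 0 (ones 2) = true :=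
  by decide +kernel

theorem done_j5 : doneC.JustS Cfsg.Agent.CO2T.TA.π 5 (ones 2) :=
  TC.cover_step Cfsg.Agent.CO2T.TA.spec done_s (TC.justS_zero 5) done_c5_0

theorem done_c6_0 : doneC.coverC Cfsg.Agent.CO2T.TA.act 6 true [] [(true, 6, 0, 0), (false, 18, 1, 0)] 0 (ones 2) = true :=
  by decide +kernel

theorem done_j6 : doneC.JustS Cfsg.Agent.CO2T.TA.π 6 (ones 2) :=
  TC.cover_step Cfsg.Agent.CO2T.TA.spec done_s (TC.justS_zero 6) done_c6_0

theorem done_c7_0 : doneC.coverC Cfsg.Agent.CO2T.TA.act 7 true [] [(true, 7, 0, 0), (false, 21, 1, 0)] 0 (ones 2) = true :=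
  by decide +kernel

theorem done_j7 : doneC.JustS Cfsg.Agent.CO2T.TA.π 7 (ones 2) :=
  TC.cover_step Cfsg.Agent.CO2T.TA.spec done_s (TC.justS_zero 7) done_c7_0

theorem done_c8_0 : doneC.coverC Cfsg.Agent.CO2T.TA.act 8 true [] [(true, 8, 0, 0), (false, 24, 1, 0)] 0 (ones 2) = true :=
  by decide +kernel

theorem done_j8 : doneC.JustS Cfsg.Agent.CO2T.TA.π 8 (ones 2) :=
  TC.cover_step Cfsg.Agent.CO2T.TA.spec done_s (TC.justS_zero 8) done_c8_0

theorem done_c9_0 : doneC.coverC Cfsg.Agent.CO2T.TA.act 9 true [] [(true, 9, 0, 0), (false, 27, 1, 0)] 0 (ones 2) = true :=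
  by decide +kernel

theorem done_j9 : doneC.JustS Cfsg.Agent.CO2T.TA.π 9 (ones 2) :=
  TC.cover_step Cfsg.Agent.CO2T.TA.spec done_s (TC.justS_zero 9) done_c9_0

theorem done_c10_0 : doneC.coverC Cfsg.Agent.CO2T.TA.act 10 true [] [(true, 10, 0, 0), (false, 45, 3, 1)] 0 (ones 2) = true :=
  by decide +kernel

theorem done_j10 : doneC.JustS Cfsg.Agent.CO2T.TA.π 10 (ones 2) :=
  TC.cover_step Cfsg.Agent.CO2T.TA.spec done_s (TC.justS_zero 10) done_c10_0

theorem done_c11_0 : doneC.coverC Cfsg.Agent.CO2T.TA.act 11 true [] [(true, 11, 0, 0), (false, 0, 1, 0)] 0 (ones 2) = true :=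
  by decide +kernel

theorem done_j11 : doneC.JustS Cfsg.Agent.CO2T.TA.π 11 (ones 2) :=
  TC.cover_step Cfsg.Agent.CO2T.TA.spec done_s (TC.justS_zero 11) done_c11_0

theorem done_c12_0 : doneC.coverC Cfsg.Agent.CO2T.TA.act 12 true [] [(true, 12, 0, 0), (false, 30, 1, 0)] 0 (ones 2) = true :=
  by decide +kernel

theorem done_j12 : doneC.JustS Cfsg.Agent.CO2T.TA.π 12 (ones 2) :=
  TC.cover_step Cfsg.Agent.CO2T.TA.spec done_s (TC.justS_zero 12) done_c12_0

theorem done_c13_0 : doneC.coverC Cfsg.Agent.CO2T.TA.act 13 true [] [(true, 13, 0, 0), (false, 33, 1, 0)] 0 (ones 2) = true :=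
  by decide +kernel

theorem done_j13 : doneC.JustS Cfsg.Agent.CO2T.TA.π 13 (ones 2) :=
  TC.cover_step Cfsg.Agent.CO2T.TA.spec done_s (TC.justS_zero 13) done_c13_0

theorem done_c14_0 : doneC.coverC Cfsg.Agent.CO2T.TA.act 14 true [] [(true, 14, 0, 0), (false, 36, 1, 0)] 0 (ones 2) = true :=
  by decide +kernel

theorem done_j14 : doneC.JustS Cfsg.Agent.CO2T.TA.π 14 (ones 2) :=
  TC.cover_step Cfsg.Agent.CO2T.TA.spec done_s (TC.justS_zero 14) done_c14_0

theorem done_c15_0 : doneC.coverC Cfsg.Agent.CO2T.TA.act 15 true [] [(true, 15, 0, 0), (false, 39, 1, 0)] 0 (ones 2) = true :=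
  by decide +kernel

theorem done_j15 : doneC.JustS Cfsg.Agent.CO2T.TA.π 15 (ones 2) :=
  TC.cover_step Cfsg.Agent.CO2T.TA.spec done_s (TC.justS_zero 15) done_c15_0

theorem done_c16_0 : doneC.coverC Cfsg.Agent.CO2T.TA.act 16 true [] [(true, 16, 0, 0), (false, 42, 1, 0)] 0 (ones 2) = true :=
  by decide +kernel

theorem done_j16 : doneC.JustS Cfsg.Agent.CO2T.TA.π 16 (ones 2) :=
  TC.cover_step Cfsg.Agent.CO2T.TA.spec done_s (TC.justS_zero 16) done_c16_0

theorem done_c17_0 : doneC.coverC Cfsg.Agent.CO2T.TA.act 17 true [] [(false, 53, 0, 1)] 0 (ones 2) = true :=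
  by decide +kernel

theorem done_j17 : doneC.JustS Cfsg.Agent.CO2T.TA.π 17 (ones 2) :=
  TC.cover_step Cfsg.Agent.CO2T.TA.spec done_s (TC.justS_zero 17) done_c17_0

theorem done : doneC.Done Cfsg.Agent.CO2T.TA.π :=
  TC.done_of Cfsg.Agent.CO2T.TA.spec sat done_s ⟨done_j0, done_j1, done_j2, done_j3, done_j4, done_j5, done_j6, done_j7, done_j8, done_j9, done_j10, done_j11, done_j12, done_j13, done_j14, done_j15, done_j16, done_j17, trivial⟩

end TA

def wsTA : List (List ℕ) := [[0], [1], [2], [3], [5], [6], [7], [8], [9], [10], [15], [16], [17], [18], [19], [20], [21], [22]]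

theorem TA_x : satC val II [M1] relsD PTA wsTA (List.replicate 16 []) = true :=
  by decide +kernel

def LTA : List (List ℕ) := [[], [17]]

theorem TA_c : band (band ([M1].elem M1) (supOnC wsTA MA 25))
    (stepC val II M1 25 wsTA TA.doneC.loops [15] LTA TA.doneC.n) = true :=
  by decide +kernel

theorem k4 : killC [MA, M1] [[23, 22, 12, 0, 22]] [11, 1, 22, 11, 1, 22, 11, 1, 22, 11, 1, 22]
    [([([11, 1, 22], true), ([], false)], []), ([([], true), ([16, 0], false), ([11, 0], true)],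
    [([1, 11, 22, 1, 11, 22, 1, 11, 22, 1, 11], [22, 16, 0, 22, 1, 2, 1, 0, 3, 2, 1, 0, 16, 0, 19, 15, 8]), ([22, 11, 1, 22, 11, 1, 22, 11, 2, 1, 0, 3, 2, 1, 0, 16, 0, 19, 15, 8, 1, 11, 22, 1, 11, 22, 1, 11, 22, 1, 11], [1, 11, 0, 16, 11, 0, 11, 0, 16, 0, 1]), ([11, 1, 22, 11, 1, 22, 11, 2, 1, 0, 3, 2, 1, 0, 16, 0, 19, 15, 8, 1, 11, 22, 1, 11, 22, 1, 11, 22, 1, 11], [22, 1, 0, 16, 0, 1, 22, 1, 2, 1, 3, 2, 1, 16, 18, 17, 9]), ([22, 11, 1, 22, 11, 2, 1, 0, 3, 2, 1, 0, 16, 0, 19, 15, 8, 1, 11, 22, 1, 11, 22, 1, 11, 22, 1, 11], [1, 11, 9, 17, 18, 16, 1, 2, 3, 1, 2, 1, 11, 1, 2, 1, 3, 2, 16, 19, 17, 9, 7]), ([11, 1, 22, 11, 2, 1, 0, 3, 2, 1, 0, 16, 0, 19, 15, 8, 1, 11, 22, 1, 11, 22, 1, 11, 22, 1, 11], [22, 7, 9, 17, 19, 16, 2, 3, 1, 2, 22, 0, 20, 19]), ([22, 1, 11, 22, 1, 11, 22, 1, 11], [11, 1, 8, 15, 19, 0, 16, 0, 1, 2, 3, 0, 1, 2, 11, 2, 1, 0, 3, 2, 1, 0, 16, 0, 1, 18]), ([1, 11, 22, 1, 11, 22, 1, 11], [22, 18,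 1, 0, 16, 0, 1, 2, 3, 0, 1, 2, 22, 1, 0, 16, 0, 21, 19]), ([22, 1, 11, 22, 1, 11], [11, 1, 19, 21, 0, 16, 0, 11, 19, 20, 0, 11, 16, 0, 1, 20, 18]), ([1, 11, 22, 1, 11], [22, 18, 20, 1, 0, 16, 1, 22, 2, 1, 0, 3, 2, 1, 16, 0, 21, 20, 19, 15, 8]), ([22, 1, 11], [11, 1, 8, 15, 19, 20, 21, 0, 16, 1, 2, 3, 0, 1, 2, 11, 2, 1, 0, 3, 2, 1, 16, 0, 1, 21, 20, 18]), ([1, 11], [22, 18, 20, 21, 1, 0, 16, 1, 2, 3, 0, 1, 2, 1, 22, 0, 1])])] = true :=
  by decide +kernel

theorem k5 : killC [MA, M1] [invW II [11, 1, 22, 11, 1, 22, 11, 1, 22, 11, 1, 22], [11, 1, 22, 11, 1, 22, 11, 1, 22, 11, 1, 22], [23, 22, 12, 0, 22]] [8, 11, 2, 22, 8, 11, 2, 22, 8, 11, 2, 22, 8, 11, 2, 22, 8, 11, 2, 22]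
    [([([8, 11, 2, 22], true), ([], false)], []), ([([], true), ([2, 3, 2], false)],
    [([2, 13], [11, 1, 22, 11, 1, 22, 11, 1, 22, 11, 1, 22]), ([2, 11, 8, 22, 2, 11, 8, 22, 2, 11, 8, 22, 2, 11, 8, 22, 2, 11, 8, 13, 2, 11, 1, 22, 11, 1, 22, 11, 1, 22, 11, 1, 22, 2, 13], [22, 2, 3, 2, 22, 0, 2, 1, 0, 3, 16, 0, 1, 2, 20, 19, 10, 8]), ([22, 11, 1, 22, 11, 1, 22, 11, 1, 22, 2, 13], [1, 11, 2, 13, 8, 11, 2, 1, 15, 10, 9, 7]), ([11, 1, 22, 11, 1, 22, 11, 1, 22, 2, 13], [22, 7, 9, 10, 15, 1, 22, 0, 1, 3, 16, 0, 21, 20, 19, 15]), ([22, 11, 1, 22, 11, 1, 22, 2, 13], [1, 11, 15, 19, 20, 21, 0, 16, 3, 1, 0, 8, 11, 2, 0, 2, 1, 3, 16, 0, 1, 21, 20, 18, 9, 8, 7]), ([11, 1, 22, 11, 1, 22, 2, 13], [22, 7, 8, 9, 18, 20, 21, 1, 0, 16, 3, 1, 2, 0, 22, 1, 0, 2, 1, 0, 3, 2, 20, 17, 15, 10, 9, 7]), ([22, 2, 11, 8, 22, 2, 11, 8, 1, 0, 2, 1, 0, 3, 2, 20, 17, 15, 10, 9, 7, 11, 1, 22, 11, 1, 22, 2, 13], [8, 11, 2, 8, 10, 19, 20, 2,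 1, 0, 16, 3, 0, 1, 2, 0, 2, 11, 8, 0, 1, 0, 3, 16, 0, 1, 20, 19, 15]), ([2, 11, 8, 22, 2, 11, 8, 1, 0, 2, 1, 0, 3, 2, 20, 17, 15, 10, 9, 7, 11, 1, 22, 11, 1, 22, 2, 13], [22, 15, 19, 20, 1, 0, 16, 3, 0, 1, 0, 22, 16, 21, 20]), ([22, 2, 11, 8, 1, 0, 2, 1, 0, 3, 2, 20, 17, 15, 10, 9, 7, 11, 1, 22, 11, 1, 22, 2, 13], [8, 11, 2, 20, 21, 16, 2, 11, 8, 16, 21, 20]), ([2, 11, 8, 1, 0, 2, 1, 0, 3, 2, 20, 17, 15, 10, 9, 7, 11, 1, 22, 11, 1, 22, 2, 13], [22, 20, 21, 16, 22, 0, 1, 0, 3, 16, 0, 1, 20, 19, 15]), ([22, 11, 1, 22, 2, 13], [1, 11, 7, 9, 10, 15, 17, 20, 2, 3, 0, 1, 2, 0, 1, 8, 11, 2, 15, 19, 20, 1, 0, 16, 3, 0, 1, 0, 2, 11, 8, 0, 1, 0, 2, 1, 0, 3, 2, 16, 20, 15, 10, 9, 7]), ([11, 1, 22, 2, 13], [22, 7, 9, 10, 15, 20, 16, 2, 3, 0, 1, 2, 0, 1, 0, 22, 2, 3, 16, 21, 9]), ([22, 2, 13], [1, 11, 9, 21, 16, 3, 11, 8, 1, 3, 16, 21, 7]), ([2, 13], [22, 7, 21, 16, 3, 1, 22, 3, 15, 10, 9, 7]), ([], [13, 2, 7, 9, 10, 15,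 3, 2, 11, 8, 2, 3, 2])])] = true :=
  by decide +kernel

def PTM : Pres := ⟨[0, 1, 2, 3, 4, 5, 6, 7, 8, 9, 10, 11, 12, 13, 14, 15, 16, 17, 18, 19, 20, 21, 22],
  [[3, 5, 16],
   [0, 2, 0, 2],
   [0, 3, 0, 3],
   [0, 4, 0, 4],
   [0, 5, 0, 5],
   [0, 7, 0, 7],
   [0, 9, 0, 9],
   [0, 11, 0, 11],
   [0, 13, 0, 13],
   [0, 14, 0, 14],
   [0, 16, 0, 16],
   [0, 17, 0, 17],
   [0, 18, 0, 19],
   [0, 20, 0, 20],
   [1, 3, 1, 3],
   [1, 4, 1, 4],
   [1, 5, 1, 5],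
   [1, 6, 1, 6],
   [1, 10, 1, 10],
   [1, 14, 1, 14],
   [1, 15, 1, 15],
   [1, 16, 1, 16],
   [1, 17, 1, 18],
   [1, 19, 1, 19],
   [1, 20, 1, 20],
   [2, 4, 2, 4],
   [2, 8, 2, 8],
   [2, 9, 2, 9],
   [2, 12, 2, 12],
   [2, 13, 2, 13],
   [2, 14, 2, 14],
   [2, 15, 2, 15],
   [2, 16, 2, 17],
   [2, 18, 2, 18],
   [2, 19, 2, 19],
   [2, 20, 2, 20],
   [3, 4, 3, 4],
   [3, 6, 3, 6],
   [3, 7, 3, 7],
   [3, 14, 3, 14],
   [3, 15, 3, 15],
   [3, 17, 5, 17],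
   [3, 18, 5, 18],
   [3, 19, 5, 19],
   [3, 20, 5, 20],
   [4, 5, 4, 5],
   [4, 15, 4, 15],
   [4, 21, 14, 21],
   [5, 10, 5, 10],
   [5, 11, 5, 11],
   [5, 14, 5, 14],
   [5, 15, 5, 15],
   [6, 10, 6, 10],
   [6, 11, 6, 11],
   [6, 12, 6, 12],
   [6, 15, 6, 15],
   [7, 10, 7, 10],
   [7, 11, 7, 11],
   [7, 13, 7, 13],
   [8, 10, 8, 10],
   [8, 12, 8, 12],
   [8, 13, 8, 13],
   [8, 15, 8, 15],
   [9, 11, 9, 11],
   [9, 12, 9, 12],
   [9, 13, 9, 13],
   [10, 11, 10, 11],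
   [10, 12, 10, 12],
   [10, 13, 10, 13],
   [10, 14, 10, 14],
   [10, 15, 10, 15],
   [11, 12, 11, 12],
   [11, 13, 11, 13],
   [11, 14, 11, 14],
   [12, 13, 12, 13],
   [12, 14, 12, 14],
   [12, 15, 12, 15],
   [13, 14, 13, 14],
   [14, 15, 14, 15],
   [15, 16, 15, 16],
   [15, 17, 15, 17],
   [15, 18, 15, 18],
   [15, 19, 15, 20],
   [0, 6, 0, 6, 7],
   [0, 8, 0, 8, 9],
   [0, 10, 0, 10, 11],
   [0, 12, 0, 12, 13],
   [1, 6, 7, 1, 7],
   [1, 6, 8, 1, 8],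
   [1, 10, 11, 1, 11],
   [1, 10, 12, 1, 12],
   [2, 6, 2, 6, 8],
   [2, 7, 2, 7, 9],
   [2, 10, 2, 10, 12],
   [2, 11, 2, 11, 13],
   [3, 6, 8, 3, 8],
   [3, 6, 10, 3, 10],
   [3, 7, 9, 3, 9],
   [3, 7, 11, 3, 11],
   [4, 6, 10, 4, 10],
   [4, 7, 11, 4, 11],
   [4, 8, 12, 4, 12],
   [4, 9, 13, 4, 13],
   [4, 16, 21, 6, 21],
   [5, 10, 12, 5, 12],
   [5, 11, 13, 5, 13],
   [6, 7, 15, 7, 15],
   [6, 9, 21, 18, 21],
   [6, 13, 6, 13, 14],
   [6, 14, 21, 16, 21],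
   [7, 12, 7, 12, 14],
   [8, 9, 15, 9, 15],
   [8, 11, 8, 11, 14],
   [9, 10, 9, 10, 14],
   [10, 11, 15, 11, 15],
   [12, 13, 15, 13, 15],
   [22, 21, 11, 0, 21],
   [0, 1, 0, 1, 0, 1],
   [0, 4, 0, 21, 14, 21],
   [0, 14, 0, 21, 4, 21],
   [0, 15, 0, 15, 0, 15],
   [1, 2, 1, 2, 1, 2],
   [2, 3, 2, 3, 2, 3],
   [2, 4, 2, 21, 14, 21],
   [2, 5, 2, 5, 2, 5],
   [2, 14, 2, 21, 4, 21],
   [3, 4, 5, 21, 6, 21],
   [3, 4, 21, 6, 21, 5],
   [4, 15, 21, 14, 21, 15],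
   [4, 16, 17, 18, 19, 20],
   [4, 16, 18, 21, 9, 21],
   [4, 17, 20, 21, 8, 21],
   [4, 17, 21, 7, 9, 21],
   [4, 19, 20, 21, 7, 21],
   [4, 19, 21, 8, 9, 21],
   [4, 21, 15, 14, 15, 21],
   [7, 8, 9, 21, 20, 21],
   [7, 9, 14, 21, 17, 21],
   [7, 21, 16, 17, 18, 21],
   [8, 9, 14, 21, 19, 21],
   [8, 21, 16, 18, 19, 21],
   [1, 7, 8, 9, 14, 1, 9],
   [1, 11, 12, 13, 1, 13, 14],
   [1, 11, 13, 12, 1, 13, 14],
   [3, 8, 10, 12, 14, 3, 12],
   [3, 9, 11, 13, 14, 3, 13],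
   [3, 13, 3, 13, 11, 9, 14],
   [10, 11, 12, 15, 12, 11, 15],
   [0, 1, 13, 1, 0, 12, 11, 14],
   [0, 2, 10, 11, 2, 0, 12, 10],
   [1, 2, 11, 12, 2, 1, 13, 14],
   [2, 10, 11, 2, 15, 13, 11, 15],
   [1, 3, 18, 17, 6, 21, 3, 21, 15],
   [1, 3, 18, 17, 14, 21, 5, 21, 15],
   [1, 10, 11, 13, 15, 1, 13, 14, 15],
   [3, 9, 6, 10, 11, 13, 3, 13, 10],
   [0, 1, 15, 0, 21, 1, 21, 14, 17, 19, 3],
   [0, 21, 14, 16, 18, 2, 3, 1, 2, 15, 21],
   [2, 3, 12, 13, 3, 2, 11, 10, 8, 9, 14],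
   [10, 1, 21, 10, 1, 21, 10, 1, 21, 10, 1, 21],
   [0, 1, 15, 0, 15, 21, 15, 21, 7, 18, 19, 3, 15],
   [0, 1, 0, 15, 2, 1, 0, 3, 2, 1, 0, 18, 16, 14, 21, 2, 21],
   [7, 10, 2, 21, 7, 10, 2, 21, 7, 10, 2, 21, 7, 10, 2, 21, 7, 10, 2, 21]]⟩

namespace TM
noncomputable def m0_0 : ℕ := nat_lit 0xea00000000

noncomputable def m0_1 : ℕ := nat_lit 0x784500000000000

noncomputable def m0_2 : ℕ := nat_lit 0x158000d20000000300

noncomputable def m0_3 : ℕ := nat_lit 0x201a038180201207c18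

noncomputable def m0_4 : ℕ := nat_lit 0x20400000000000001400

noncomputable def m0_5 : ℕ := nat_lit 0x52800028000000052940

noncomputable def m0_6 : ℕ := nat_lit 0x2900421000210a429480

noncomputable def m0_7 : ℕ := nat_lit 0x52802428001214252940

noncomputable def m0_8 : ℕ := nat_lit 0x2142428021210a428004

noncomputable def m0_9 : ℕ := nat_lit 0x200a018000201200018

noncomputable def m0_10 : ℕ := nat_lit 0x158000520000000300

noncomputable def m0_11 : ℕ := nat_lit 0x784500000000000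

noncomputable def m0_12 : ℕ := nat_lit 0xea00000000

noncomputable def net0 : Net := (.cons 40 m0_0 (.cons 20 m0_1 (.cons 10 m0_2 (.cons 5 m0_3 (.cons 1 m0_4 (.cons 1 m0_5 (.cons 1 m0_6 (.cons 1 m0_7 (.cons 1 m0_8 (.cons 5 m0_9 (.cons 10 m0_10 (.cons 20 m0_11 (.cons 40 m0_12 .nil)))))))))))))

theorem ok0 : Net.ok 80 net0 = true :=
  by decide +kernel

noncomputable def m1_0 : ℕ := nat_lit 0x8f00000000

noncomputable def m1_1 : ℕ := nat_lit 0x36d360000060440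

noncomputable def m1_2 : ℕ := nat_lit 0xc80000800300003e0

noncomputable def m1_3 : ℕ := nat_lit 0x58090601e0340805800

noncomputable def m1_4 : ℕ := nat_lit 0x4000000400000

noncomputable def m1_5 : ℕ := nat_lit 0x900028000000a00000

noncomputable def m1_6 : ℕ := nat_lit 0x9084010202840520000

noncomputable def m1_7 : ℕ := nat_lit 0x1204a4294a5280a12008

noncomputable def m1_8 : ℕ := nat_lit 0x8004004200940420480

noncomputable def m1_9 : ℕ := nat_lit 0x5808060060400804800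

noncomputable def m1_10 : ℕ := nat_lit 0x2000000800300003c0

noncomputable def m1_11 : ℕ := nat_lit 0x365360000060440

noncomputable def m1_12 : ℕ := nat_lit 0x8f00000000

noncomputable def net1 : Net := (.cons 40 m1_0 (.cons 20 m1_1 (.cons 10 m1_2 (.cons 5 m1_3 (.cons 1 m1_4 (.cons 1 m1_5 (.cons 1 m1_6 (.cons 1 m1_7 (.cons 1 m1_8 (.cons 5 m1_9 (.cons 10 m1_10 (.cons 20 m1_11 (.cons 40 m1_12 .nil)))))))))))))

theorem ok1 : Net.ok 80 net1 = true :=
  by decide +kernel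

noncomputable def m2_0 : ℕ := nat_lit 0xc200000000

noncomputable def m2_1 : ℕ := nat_lit 0xe12580000080000

noncomputable def m2_2 : ℕ := nat_lit 0xd0003200020000244

noncomputable def m2_3 : ℕ := nat_lit 0x300e00c180701804c0c

noncomputable def m2_4 : ℕ := nat_lit 0x4a00000100000

noncomputable def m2_5 : ℕ := nat_lit 0x1000a409400280a00040

noncomputable def m2_6 : ℕ := nat_lit 0x28005210a501004000a0

noncomputable def m2_7 : ℕ := nat_lit 0x1210a129425294a00048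

noncomputable def m2_8 : ℕ := nat_lit 0x28420280a500001084a0

noncomputable def m2_9 : ℕ := nat_lit 0x300e06018070180000c

noncomputable def m2_10 : ℕ := nat_lit 0xd0003200020000244

noncomputable def m2_11 : ℕ := nat_lit 0x612580000080000

noncomputable def m2_12 : ℕ := nat_lit 0xc200000000

noncomputable def net2 : Net := (.cons 40 m2_0 (.cons 20 m2_1 (.cons 10 m2_2 (.cons 5 m2_3 (.cons 1 m2_4 (.cons 1 m2_5 (.cons 1 m2_6 (.cons 1 m2_7 (.cons 1 m2_8 (.cons 5 m2_9 (.cons 10 m2_10 (.cons 20 m2_11 (.cons 40 m2_12 .nil)))))))))))))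

theorem ok2 : Net.ok 80 net2 = true :=
  by decide +kernel

noncomputable def m3_0 : ℕ := nat_lit 0xa700000000

noncomputable def m3_1 : ℕ := nat_lit 0x9c0840000080000

noncomputable def m3_2 : ℕ := nat_lit 0x86000dc0020000300

noncomputable def m3_3 : ℕ := nat_lit 0xc1c070140501a07c00

noncomputable def m3_4 : ℕ := nat_lit 0x80004000040000000

noncomputable def m3_5 : ℕ := nat_lit 0x42940008000280052800

noncomputable def m3_6 : ℕ := nat_lit 0x290a021004290a429420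

noncomputable def m3_7 : ℕ := nat_lit 0x52948121025284a52840

noncomputable def m3_8 : ℕ := nat_lit 0x148020484284a400020

noncomputable def m3_9 : ℕ := nat_lit 0x4018020000501a00000

noncomputable def m3_10 : ℕ := nat_lit 0x86003480020000300

noncomputable def m3_11 : ℕ := nat_lit 0x984040000080000

noncomputable def m3_12 : ℕ := nat_lit 0xa700000000

noncomputable def net3 : Net := (.cons 40 m3_0 (.cons 20 m3_1 (.cons 10 m3_2 (.cons 5 m3_3 (.cons 1 m3_4 (.cons 1 m3_5 (.cons 1 m3_6 (.cons 1 m3_7 (.cons 1 m3_8 (.cons 5 m3_9 (.cons 10 m3_10 (.cons 20 m3_11 (.cons 40 m3_12 .nil)))))))))))))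

theorem ok3 : Net.ok 80 net3 = true :=
  by decide +kernel

noncomputable def net4 : Net := .nil

theorem ok4 : Net.ok 80 net4 = true :=
  by decide +kernel

noncomputable def m5_0 : ℕ := nat_lit 0xa700000000

noncomputable def m5_1 : ℕ := nat_lit 0x9c0840000080000

noncomputable def m5_2 : ℕ := nat_lit 0x86000dc0020000300

noncomputable def m5_3 : ℕ := nat_lit 0xc1c070140501a07c00

noncomputable def m5_4 : ℕ := nat_lit 0x80004000040000000

noncomputable def m5_5 : ℕ := nat_lit 0x42940008000280052800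

noncomputable def m5_6 : ℕ := nat_lit 0x290a021004290a429420

noncomputable def m5_7 : ℕ := nat_lit 0x52948121025284a52840

noncomputable def m5_8 : ℕ := nat_lit 0x148020484284a400020

noncomputable def m5_9 : ℕ := nat_lit 0x4018020000501a00000

noncomputable def m5_10 : ℕ := nat_lit 0x86003480020000300

noncomputable def m5_11 : ℕ := nat_lit 0x984040000080000

noncomputable def m5_12 : ℕ := nat_lit 0xa700000000

noncomputable def net5 : Net := (.cons 40 m5_0 (.cons 20 m5_1 (.cons 10 m5_2 (.cons 5 m5_3 (.cons 1 m5_4 (.cons 1 m5_5 (.cons 1 m5_6 (.cons 1 m5_7 (.cons 1 m5_8 (.cons 5 m5_9 (.cons 10 m5_10 (.cons 20 m5_11 (.cons 40 m5_12 .nil)))))))))))))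

theorem ok5 : Net.ok 80 net5 = true :=
  by decide +kernel

noncomputable def net6 : Net := .nil

theorem ok6 : Net.ok 80 net6 = true :=
  by decide +kernel

noncomputable def net7 : Net := .nil

theorem ok7 : Net.ok 80 net7 = true :=
  by decide +kernel

noncomputable def net8 : Net := .nil

theorem ok8 : Net.ok 80 net8 = true :=
  by decide +kernel

noncomputable def net9 : Net := .nil

theorem ok9 : Net.ok 80 net9 = true :=
  by decide +kernel

noncomputable def m10_0 : ℕ := nat_lit 0xc005bd4400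

noncomputable def m10_1 : ℕ := nat_lit 0xe84f4000000d420

noncomputable def m10_2 : ℕ := nat_lit 0x12a00092003780034a

noncomputable def m10_3 : ℕ := nat_lit 0x4060101c018180181a

noncomputable def m10_4 : ℕ := nat_lit 0x20000000800000020

noncomputable def m10_5 : ℕ := nat_lit 0x4004a12942129004004a

noncomputable def m10_6 : ℕ := nat_lit 0x29484214a4214a0284a4

noncomputable def m10_7 : ℕ := nat_lit 0x1094a5084a528425294a

noncomputable def m10_8 : ℕ := nat_lit 0x942000000290a028420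

noncomputable def m10_9 : ℕ := nat_lit 0x200207004018180101a

noncomputable def m10_10 : ℕ := nat_lit 0x208001c00035800372

noncomputable def m10_11 : ℕ := nat_lit 0xe84f40000022300

noncomputable def m10_12 : ℕ := nat_lit 0xc0052f4000

noncomputable def net10 : Net := (.cons 40 m10_0 (.cons 20 m10_1 (.cons 10 m10_2 (.cons 5 m10_3 (.cons 1 m10_4 (.cons 1 m10_5 (.cons 1 m10_6 (.cons 1 m10_7 (.cons 1 m10_8 (.cons 5 m10_9 (.cons 10 m10_10 (.cons 20 m10_11 (.cons 40 m10_12 .nil)))))))))))))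

theorem ok10 : Net.ok 80 net10 = true :=
  by decide +kernel

noncomputable def m11_0 : ℕ := nat_lit 0x5a7f6100a0

noncomputable def m11_1 : ℕ := nat_lit 0x26f80000000084

noncomputable def m11_2 : ℕ := nat_lit 0x2140027f003c00012e

noncomputable def m11_3 : ℕ := nat_lit 0x408024070001200012

noncomputable def m11_4 : ℕ := nat_lit 0x400000800000001480

noncomputable def m11_5 : ℕ := nat_lit 0x408000294a000001294a

noncomputable def m11_6 : ℕ := nat_lit 0x29024294a501000294a4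

noncomputable def m11_7 : ℕ := nat_lit 0x12848529424200a5294a

noncomputable def m11_8 : ℕ := nat_lit 0x28424090040102029484

noncomputable def m11_9 : ℕ := nat_lit 0x6000020140001200000

noncomputable def m11_10 : ℕ := nat_lit 0x214001c0003400000e

noncomputable def m11_11 : ℕ := nat_lit 0x26b80000000084

noncomputable def m11_12 : ℕ := nat_lit 0x5a7f2a00a0

noncomputable def net11 : Net := (.cons 40 m11_0 (.cons 20 m11_1 (.cons 10 m11_2 (.cons 5 m11_3 (.cons 1 m11_4 (.cons 1 m11_5 (.cons 1 m11_6 (.cons 1 m11_7 (.cons 1 m11_8 (.cons 5 m11_9 (.cons 10 m11_10 (.cons 20 m11_11 (.cons 40 m11_12 .nil)))))))))))))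

theorem ok11 : Net.ok 80 net11 = true :=
  by decide +kernel

noncomputable def m12_0 : ℕ := nat_lit 0x8019d3880a

noncomputable def m12_1 : ℕ := nat_lit 0x902880000081320

noncomputable def m12_2 : ℕ := nat_lit 0x2210027200320003f2

noncomputable def m12_3 : ℕ := nat_lit 0x241a0041e0180a06c02

noncomputable def m12_4 : ℕ := nat_lit 0x14000000500000

noncomputable def m12_5 : ℕ := nat_lit 0x528000000a00000

noncomputable def m12_6 : ℕ := nat_lit 0x200a0294010800501020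

noncomputable def m12_7 : ℕ := nat_lit 0x100405290a5214a02040

noncomputable def m12_8 : ℕ := nat_lit 0x28481280210800529420

noncomputable def m12_9 : ℕ := nat_lit 0x2008078060100a06000

noncomputable def m12_10 : ℕ := nat_lit 0x24a0027200320002e2

noncomputable def m12_11 : ℕ := nat_lit 0x902880000081320

noncomputable def m12_12 : ℕ := nat_lit 0x801993880a

noncomputable def net12 : Net := (.cons 40 m12_0 (.cons 20 m12_1 (.cons 10 m12_2 (.cons 5 m12_3 (.cons 1 m12_4 (.cons 1 m12_5 (.cons 1 m12_6 (.cons 1 m12_7 (.cons 1 m12_8 (.cons 5 m12_9 (.cons 10 m12_10 (.cons 20 m12_11 (.cons 40 m12_12 .nil)))))))))))))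

theorem ok12 : Net.ok 80 net12 = true :=
  by decide +kernel

noncomputable def m13_0 : ℕ := nat_lit 0x5d1f922400

noncomputable def m13_1 : ℕ := nat_lit 0x322ca000001ff50

noncomputable def m13_2 : ℕ := nat_lit 0x114000dc0025c0030e

noncomputable def m13_3 : ℕ := nat_lit 0x500a04c0806c1c0281e

noncomputable def m13_4 : ℕ := nat_lit 0x20000010a00000000000

noncomputable def m13_5 : ℕ := nat_lit 0x50000529400000002902

noncomputable def m13_6 : ℕ := nat_lit 0x28004214a128000210a4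

noncomputable def m13_7 : ℕ := nat_lit 0x5010a5294a1014852848

noncomputable def m13_8 : ℕ := nat_lit 0x21024210a12800008084

noncomputable def m13_9 : ℕ := nat_lit 0x500a00008020040280c

noncomputable def m13_10 : ℕ := nat_lit 0x114000dc0025c000a0

noncomputable def m13_11 : ℕ := nat_lit 0x322ca000001ff50

noncomputable def m13_12 : ℕ := nat_lit 0x5d1f02a000

noncomputable def net13 : Net := (.cons 40 m13_0 (.cons 20 m13_1 (.cons 10 m13_2 (.cons 5 m13_3 (.cons 1 m13_4 (.cons 1 m13_5 (.cons 1 m13_6 (.cons 1 m13_7 (.cons 1 m13_8 (.cons 5 m13_9 (.cons 10 m13_10 (.cons 20 m13_11 (.cons 40 m13_12 .nil)))))))))))))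

theorem ok13 : Net.ok 80 net13 = true :=
  by decide +kernel

noncomputable def net14 : Net := .nil

theorem ok14 : Net.ok 80 net14 = true :=
  by decide +kernel

noncomputable def m15_0 : ℕ := nat_lit 0x8000000000

noncomputable def m15_1 : ℕ := nat_lit 0x49d400000c0000

noncomputable def m15_2 : ℕ := nat_lit 0x2020039e0030000280

noncomputable def m15_3 : ℕ := nat_lit 0x68140441e0000c01800

noncomputable def m15_4 : ℕ := nat_lit 0x20480000000000500000

noncomputable def m15_5 : ℕ := nat_lit 0x529405000a0000a02800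

noncomputable def m15_6 : ℕ := nat_lit 0x290a02000400025210a0

noncomputable def m15_7 : ℕ := nat_lit 0x529485280a0214a42848

noncomputable def m15_8 : ℕ := nat_lit 0x20481200a400025290a0

noncomputable def m15_9 : ℕ := nat_lit 0x6810040120000c01800

noncomputable def m15_10 : ℕ := nat_lit 0x2020039e0030000280

noncomputable def m15_11 : ℕ := nat_lit 0x49d400000c0000

noncomputable def m15_12 : ℕ := nat_lit 0x8000000000

noncomputable def net15 : Net := (.cons 40 m15_0 (.cons 20 m15_1 (.cons 10 m15_2 (.cons 5 m15_3 (.cons 1 m15_4 (.cons 1 m15_5 (.cons 1 m15_6 (.cons 1 m15_7 (.cons 1 m15_8 (.cons 5 m15_9 (.cons 10 m15_10 (.cons 20 m15_11 (.cons 40 m15_12 .nil)))))))))))))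

theorem ok15 : Net.ok 80 net15 = true :=
  by decide +kernel

noncomputable def net16 : Net := .nil

theorem ok16 : Net.ok 80 net16 = true :=
  by decide +kernel

noncomputable def net17 : Net := .nil

theorem ok17 : Net.ok 80 net17 = true :=
  by decide +kernel

noncomputable def net18 : Net := .nil

theorem ok18 : Net.ok 80 net18 = true :=
  by decide +kernel

noncomputable def net19 : Net := .nil

theorem ok19 : Net.ok 80 net19 = true :=
  by decide +kernel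

noncomputable def net20 : Net := .nil

theorem ok20 : Net.ok 80 net20 = true :=
  by decide +kernel

noncomputable def m21_0 : ℕ := nat_lit 0xf900120000

noncomputable def m21_1 : ℕ := nat_lit 0x32a9000000a057c

noncomputable def m21_2 : ℕ := nat_lit 0x3bb000b80010e0033c

noncomputable def m21_3 : ℕ := nat_lit 0x481d074030500306c08

noncomputable def m21_4 : ℕ := nat_lit 0x90010000129000

noncomputable def m21_5 : ℕ := nat_lit 0x100129020010252840

noncomputable def m21_6 : ℕ := nat_lit 0x4a0214a5010a4294a0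

noncomputable def m21_7 : ℕ := nat_lit 0x409424294a4214852848

noncomputable def m21_8 : ℕ := nat_lit 0x20405284a128425214a1

noncomputable def m21_9 : ℕ := nat_lit 0x501e0201a0201400008

noncomputable def m21_10 : ℕ := nat_lit 0x126000280010e00310

noncomputable def m21_11 : ℕ := nat_lit 0x7631000000a057c

noncomputable def m21_12 : ℕ := nat_lit 0xf900120000

noncomputable def net21 : Net := (.cons 40 m21_0 (.cons 20 m21_1 (.cons 10 m21_2 (.cons 5 m21_3 (.cons 1 m21_4 (.cons 1 m21_5 (.cons 1 m21_6 (.cons 1 m21_7 (.cons 1 m21_8 (.cons 5 m21_9 (.cons 10 m21_10 (.cons 20 m21_11 (.cons 40 m21_12 .nil)))))))))))))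

theorem ok21 : Net.ok 80 net21 = true :=
  by decide +kernel

noncomputable def m22_0 : ℕ := nat_lit 0xba08fcbe20

noncomputable def m22_1 : ℕ := nat_lit 0xd402000000d8130

noncomputable def m22_2 : ℕ := nat_lit 0xa0002f8001b200008

noncomputable def m22_3 : ℕ := nat_lit 0x6800018060580d04011

noncomputable def m22_4 : ℕ := nat_lit 0x20000000000000008001

noncomputable def m22_5 : ℕ := nat_lit 0x50042409400014050102

noncomputable def m22_6 : ℕ := nat_lit 0x280a5210a001080200a4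

noncomputable def m22_7 : ℕ := nat_lit 0x52042521404294850148

noncomputable def m22_8 : ℕ := nat_lit 0x20000010010908009425

noncomputable def m22_9 : ℕ := nat_lit 0x6800040060580c04004

noncomputable def m22_10 : ℕ := nat_lit 0xa0002f0000a200008

noncomputable def m22_11 : ℕ := nat_lit 0xd402000000d8130

noncomputable def m22_12 : ℕ := nat_lit 0xba08fcbe20

noncomputable def net22 : Net := (.cons 40 m22_0 (.cons 20 m22_1 (.cons 10 m22_2 (.cons 5 m22_3 (.cons 1 m22_4 (.cons 1 m22_5 (.cons 1 m22_6 (.cons 1 m22_7 (.cons 1 m22_8 (.cons 5 m22_9 (.cons 10 m22_10 (.cons 20 m22_11 (.cons 40 m22_12 .nil)))))))))))))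

theorem ok22 : Net.ok 80 net22 = true :=
  by decide +kernel

noncomputable def nets : List Net := [net0, net1, net2, net3, net4, net5, net6, net7, net8, net9, net10, net11, net12, net13, net14, net15, net16, net17, net18, net19, net20, net21, net22]

noncomputable def act : Act := netAct' nets
noncomputable def π : ℕ → Equiv.Perm ℕ := netPerm nets

theorem spec : act.Spec 80 π :=
  spec_fast (netAct_spec (AllP.forall (p := fun t => Net.ok 80 t = true) ⟨ok0, ok1, ok2, ok3, ok4, ok5, ok6, ok7, ok8, ok9, ok10, ok11, ok12, ok13, ok14, ok15, ok16, ok17, ok18, ok19, ok20, ok21, ok22, trivial⟩))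

theorem out : ∀ k, 23 ≤ k → π k = 1 :=
  netPerm_out nets

theorem sat_inv_0 : invC Cfsg.Agent.CO2T.TM.act Cfsg.Agent.CO2T.PTM.I 80 7 Cfsg.Agent.CO2T.PTM.inv.length [0, 1, 2, 3, 4, 5, 6] = true :=
  by decide +kernel

theorem sat_inv : ∀ k, Cfsg.Agent.CO2T.TM.π (Cfsg.Agent.CO2T.PTM.I k) * Cfsg.Agent.CO2T.TM.π k = 1 :=
  inv_of_checks Cfsg.Agent.CO2T.TM.spec (K := 7) (by decide) Cfsg.Agent.CO2T.TM.out [[0, 1, 2, 3, 4, 5, 6]] (by decide) ⟨sat_inv_0, trivial⟩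

theorem sat_rel_0_0 : relsC Cfsg.Agent.CO2T.TM.act Cfsg.Agent.CO2T.PTM.I 80 7 [[3, 5, 16], [0, 2, 0, 2], [0, 3, 0, 3], [0, 4, 0, 4], [0, 5, 0, 5], [0, 7, 0, 7], [0, 9, 0, 9], [0, 11, 0, 11], [0, 13, 0, 13], [0, 14, 0, 14], [0, 16, 0, 16], [0, 17, 0, 17], [0, 18, 0, 19], [0, 20, 0, 20], [1, 3, 1, 3], [1, 4, 1, 4], [1, 5, 1, 5], [1, 6, 1, 6], [1, 10, 1, 10], [1, 14, 1, 14], [1, 15, 1, 15], [1, 16, 1, 16], [1, 17, 1, 18], [1, 19, 1, 19], [1, 20, 1, 20], [2, 4, 2, 4], [2, 8, 2, 8], [2, 9, 2, 9], [2, 12, 2, 12], [2, 13, 2, 13], [2, 14, 2, 14], [2, 15, 2, 15], [2, 16, 2, 17], [2, 18, 2, 18], [2, 19, 2, 19], [2, 20, 2, 20], [3, 4, 3, 4], [3, 6, 3, 6], [3, 7, 3, 7], [3, 14, 3, 14], [3, 15, 3, 15], [3, 17, 5, 17], [3, 18, 5, 18], [3, 19, 5, 19], [3, 20, 5, 20], [4, 5, 4, 5], [4, 15, 4, 15], [4, 21, 14, 21], [5, 10, 5, 10], [5, 11, 5, 11], [5, 14, 5, 14], [5, 15, 5, 15], [6, 10, 6, 10], [6, 11, 6, 11], [6, 12, 6, 12],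 [6, 15, 6, 15], [7, 10, 7, 10], [7, 11, 7, 11], [7, 13, 7, 13], [8, 10, 8, 10], [8, 12, 8, 12], [8, 13, 8, 13], [8, 15, 8, 15], [9, 11, 9, 11], [9, 12, 9, 12], [9, 13, 9, 13], [10, 11, 10, 11], [10, 12, 10, 12], [10, 13, 10, 13], [10, 14, 10, 14], [10, 15, 10, 15], [11, 12, 11, 12], [11, 13, 11, 13], [11, 14, 11, 14], [12, 13, 12, 13], [12, 14, 12, 14], [12, 15, 12, 15], [13, 14, 13, 14], [14, 15, 14, 15], [15, 16, 15, 16], [15, 17, 15, 17], [15, 18, 15, 18], [15, 19, 15, 20], [0, 6, 0, 6, 7], [0, 8, 0, 8, 9], [0, 10, 0, 10, 11], [0, 12, 0, 12, 13], [1, 6, 7, 1, 7], [1, 6, 8, 1, 8], [1, 10, 11, 1, 11], [1, 10, 12, 1, 12], [2, 6, 2, 6, 8], [2, 7, 2, 7, 9], [2, 10, 2, 10, 12], [2, 11, 2, 11, 13], [3, 6, 8, 3, 8], [3, 6, 10, 3, 10], [3, 7, 9, 3, 9], [3, 7, 11, 3, 11], [4, 6, 10, 4, 10], [4, 7, 11, 4, 11], [4, 8, 12, 4, 12], [4, 9, 13, 4, 13], [4, 16, 21, 6, 21], [5, 10, 12, 5, 12], [5, 11, 13, 5, 13], [6, 7, 15,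 7, 15], [6, 9, 21, 18, 21], [6, 13, 6, 13, 14], [6, 14, 21, 16, 21], [7, 12, 7, 12, 14], [8, 9, 15, 9, 15], [8, 11, 8, 11, 14], [9, 10, 9, 10, 14], [10, 11, 15, 11, 15], [12, 13, 15, 13, 15], [22, 21, 11, 0, 21], [0, 1, 0, 1, 0, 1], [0, 4, 0, 21, 14, 21], [0, 14, 0, 21, 4, 21], [0, 15, 0, 15, 0, 15], [1, 2, 1, 2, 1, 2], [2, 3, 2, 3, 2, 3], [2, 4, 2, 21, 14, 21], [2, 5, 2, 5, 2, 5], [2, 14, 2, 21, 4, 21], [3, 4, 5, 21, 6, 21], [3, 4, 21, 6, 21, 5], [4, 15, 21, 14, 21, 15], [4, 16, 17, 18, 19, 20], [4, 16, 18, 21, 9, 21], [4, 17, 20, 21, 8, 21], [4, 17, 21, 7, 9, 21], [4, 19, 20, 21, 7, 21], [4, 19, 21, 8, 9, 21], [4, 21, 15, 14, 15, 21], [7, 8, 9, 21, 20, 21], [7, 9, 14, 21, 17, 21], [7, 21, 16, 17, 18, 21], [8, 9, 14, 21, 19, 21], [8, 21, 16, 18, 19, 21], [1, 7, 8, 9, 14, 1, 9], [1, 11, 12, 13, 1, 13, 14], [1, 11, 13, 12, 1, 13, 14], [3, 8, 10, 12, 14, 3, 12], [3, 9, 11, 13, 14, 3, 13], [3, 13, 3, 13, 11, 9,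 14], [10, 11, 12, 15, 12, 11, 15], [0, 1, 13, 1, 0, 12, 11, 14], [0, 2, 10, 11, 2, 0, 12, 10], [1, 2, 11, 12, 2, 1, 13, 14], [2, 10, 11, 2, 15, 13, 11, 15], [1, 3, 18, 17, 6, 21, 3, 21, 15], [1, 3, 18, 17, 14, 21, 5, 21, 15], [1, 10, 11, 13, 15, 1, 13, 14, 15], [3, 9, 6, 10, 11, 13, 3, 13, 10], [0, 1, 15, 0, 21, 1, 21, 14, 17, 19, 3], [0, 21, 14, 16, 18, 2, 3, 1, 2, 15, 21], [2, 3, 12, 13, 3, 2, 11, 10, 8, 9, 14], [10, 1, 21, 10, 1, 21, 10, 1, 21, 10, 1, 21], [0, 1, 15, 0, 15, 21, 15, 21, 7, 18, 19, 3, 15], [0, 1, 0, 15, 2, 1, 0, 3, 2, 1, 0, 18, 16, 14, 21, 2, 21], [7, 10, 2, 21, 7, 10, 2, 21, 7, 10, 2, 21, 7, 10, 2, 21, 7, 10, 2, 21]] [0, 1, 2, 3, 4, 5, 6] = true :=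
  by decide +kernel

theorem sat_rel_0 : ∀ r ∈ ([[3, 5, 16], [0, 2, 0, 2], [0, 3, 0, 3], [0, 4, 0, 4], [0, 5, 0, 5], [0, 7, 0, 7], [0, 9, 0, 9], [0, 11, 0, 11], [0, 13, 0, 13], [0, 14, 0, 14], [0, 16, 0, 16], [0, 17, 0, 17], [0, 18, 0, 19], [0, 20, 0, 20], [1, 3, 1, 3], [1, 4, 1, 4], [1, 5, 1, 5], [1, 6, 1, 6], [1, 10, 1, 10], [1, 14, 1, 14], [1, 15, 1, 15], [1, 16, 1, 16], [1, 17, 1, 18], [1, 19, 1, 19], [1, 20, 1, 20], [2, 4, 2, 4], [2, 8, 2, 8], [2, 9, 2, 9], [2, 12, 2, 12], [2, 13, 2, 13], [2, 14, 2, 14], [2, 15, 2, 15], [2, 16, 2, 17], [2, 18, 2, 18], [2, 19, 2, 19], [2, 20, 2, 20], [3, 4, 3, 4], [3, 6, 3, 6], [3, 7, 3, 7], [3, 14, 3, 14], [3, 15, 3, 15], [3, 17, 5, 17], [3, 18, 5, 18], [3, 19, 5, 19], [3, 20, 5, 20], [4, 5, 4, 5], [4, 15, 4, 15], [4, 21, 14, 21], [5, 10, 5, 10], [5, 11, 5, 11], [5, 14, 5, 14], [5, 15, 5, 15], [6, 10, 6, 10], [6, 11, 6, 11], [6, 12, 6, 12], [6, 15, 6, 15], [7, 10, 7, 10],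 [7, 11, 7, 11], [7, 13, 7, 13], [8, 10, 8, 10], [8, 12, 8, 12], [8, 13, 8, 13], [8, 15, 8, 15], [9, 11, 9, 11], [9, 12, 9, 12], [9, 13, 9, 13], [10, 11, 10, 11], [10, 12, 10, 12], [10, 13, 10, 13], [10, 14, 10, 14], [10, 15, 10, 15], [11, 12, 11, 12], [11, 13, 11, 13], [11, 14, 11, 14], [12, 13, 12, 13], [12, 14, 12, 14], [12, 15, 12, 15], [13, 14, 13, 14], [14, 15, 14, 15], [15, 16, 15, 16], [15, 17, 15, 17], [15, 18, 15, 18], [15, 19, 15, 20], [0, 6, 0, 6, 7], [0, 8, 0, 8, 9], [0, 10, 0, 10, 11], [0, 12, 0, 12, 13], [1, 6, 7, 1, 7], [1, 6, 8, 1, 8], [1, 10, 11, 1, 11], [1, 10, 12, 1, 12], [2, 6, 2, 6, 8], [2, 7, 2, 7, 9], [2, 10, 2, 10, 12], [2, 11, 2, 11, 13], [3, 6, 8, 3, 8], [3, 6, 10, 3, 10], [3, 7, 9, 3, 9], [3, 7, 11, 3, 11], [4, 6, 10, 4, 10], [4, 7, 11, 4, 11], [4, 8, 12, 4, 12], [4, 9, 13, 4, 13], [4, 16, 21, 6, 21], [5, 10, 12, 5, 12], [5, 11, 13, 5, 13], [6, 7, 15, 7, 15], [6, 9, 21, 18, 21], [6,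 13, 6, 13, 14], [6, 14, 21, 16, 21], [7, 12, 7, 12, 14], [8, 9, 15, 9, 15], [8, 11, 8, 11, 14], [9, 10, 9, 10, 14], [10, 11, 15, 11, 15], [12, 13, 15, 13, 15], [22, 21, 11, 0, 21], [0, 1, 0, 1, 0, 1], [0, 4, 0, 21, 14, 21], [0, 14, 0, 21, 4, 21], [0, 15, 0, 15, 0, 15], [1, 2, 1, 2, 1, 2], [2, 3, 2, 3, 2, 3], [2, 4, 2, 21, 14, 21], [2, 5, 2, 5, 2, 5], [2, 14, 2, 21, 4, 21], [3, 4, 5, 21, 6, 21], [3, 4, 21, 6, 21, 5], [4, 15, 21, 14, 21, 15], [4, 16, 17, 18, 19, 20], [4, 16, 18, 21, 9, 21], [4, 17, 20, 21, 8, 21], [4, 17, 21, 7, 9, 21], [4, 19, 20, 21, 7, 21], [4, 19, 21, 8, 9, 21], [4, 21, 15, 14, 15, 21], [7, 8, 9, 21, 20, 21], [7, 9, 14, 21, 17, 21], [7, 21, 16, 17, 18, 21], [8, 9, 14, 21, 19, 21], [8, 21, 16, 18, 19, 21], [1, 7, 8, 9, 14, 1, 9], [1, 11, 12, 13, 1, 13, 14], [1, 11, 13, 12, 1, 13, 14], [3, 8, 10, 12, 14, 3, 12], [3, 9, 11, 13, 14, 3, 13], [3, 13, 3, 13, 11, 9, 14], [10, 11, 12, 15, 12, 11, 15],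 [0, 1, 13, 1, 0, 12, 11, 14], [0, 2, 10, 11, 2, 0, 12, 10], [1, 2, 11, 12, 2, 1, 13, 14], [2, 10, 11, 2, 15, 13, 11, 15], [1, 3, 18, 17, 6, 21, 3, 21, 15], [1, 3, 18, 17, 14, 21, 5, 21, 15], [1, 10, 11, 13, 15, 1, 13, 14, 15], [3, 9, 6, 10, 11, 13, 3, 13, 10], [0, 1, 15, 0, 21, 1, 21, 14, 17, 19, 3], [0, 21, 14, 16, 18, 2, 3, 1, 2, 15, 21], [2, 3, 12, 13, 3, 2, 11, 10, 8, 9, 14], [10, 1, 21, 10, 1, 21, 10, 1, 21, 10, 1, 21], [0, 1, 15, 0, 15, 21, 15, 21, 7, 18, 19, 3, 15], [0, 1, 0, 15, 2, 1, 0, 3, 2, 1, 0, 18, 16, 14, 21, 2, 21], [7, 10, 2, 21, 7, 10, 2, 21, 7, 10, 2, 21, 7, 10, 2, 21, 7, 10, 2, 21]] : List (List ℕ)), ev Cfsg.Agent.CO2T.TM.π r = 1 :=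
  rels_of_checks Cfsg.Agent.CO2T.TM.spec (K := 7) (by decide) sat_inv _ [[0, 1, 2, 3, 4, 5, 6]] (by decide) ⟨sat_rel_0_0, trivial⟩

theorem sat_rel : ∀ r ∈ ([[3, 5, 16], [0, 2, 0, 2], [0, 3, 0, 3], [0, 4, 0, 4], [0, 5, 0, 5], [0, 7, 0, 7], [0, 9, 0, 9], [0, 11, 0, 11], [0, 13, 0, 13], [0, 14, 0, 14], [0, 16, 0, 16], [0, 17, 0, 17], [0, 18, 0, 19], [0, 20, 0, 20], [1, 3, 1, 3], [1, 4, 1, 4], [1, 5, 1, 5], [1, 6, 1, 6], [1, 10, 1, 10], [1, 14, 1, 14], [1, 15, 1, 15], [1, 16, 1, 16], [1, 17, 1, 18], [1, 19, 1, 19], [1, 20, 1, 20], [2, 4, 2, 4], [2, 8, 2, 8], [2, 9, 2, 9], [2, 12, 2, 12], [2, 13, 2, 13], [2, 14, 2, 14], [2, 15, 2, 15], [2, 16, 2, 17], [2, 18, 2, 18], [2, 19, 2, 19], [2, 20, 2, 20], [3, 4, 3, 4], [3, 6, 3, 6], [3, 7, 3, 7], [3, 14, 3, 14], [3, 15, 3, 15], [3, 17, 5, 17], [3, 18, 5, 18], [3, 19, 5, 19], [3, 20, 5, 20], [4, 5, 4, 5], [4, 15, 4, 15], [4, 21, 14, 21], [5, 10, 5, 10], [5, 11, 5, 11],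 [5, 14, 5, 14], [5, 15, 5, 15], [6, 10, 6, 10], [6, 11, 6, 11], [6, 12, 6, 12], [6, 15, 6, 15], [7, 10, 7, 10], [7, 11, 7, 11], [7, 13, 7, 13], [8, 10, 8, 10], [8, 12, 8, 12], [8, 13, 8, 13], [8, 15, 8, 15], [9, 11, 9, 11], [9, 12, 9, 12], [9, 13, 9, 13], [10, 11, 10, 11], [10, 12, 10, 12], [10, 13, 10, 13], [10, 14, 10, 14], [10, 15, 10, 15], [11, 12, 11, 12], [11, 13, 11, 13], [11, 14, 11, 14], [12, 13, 12, 13], [12, 14, 12, 14], [12, 15, 12, 15], [13, 14, 13, 14], [14, 15, 14, 15], [15, 16, 15, 16], [15, 17, 15, 17], [15, 18, 15, 18], [15, 19, 15, 20], [0, 6, 0, 6, 7], [0, 8, 0, 8, 9], [0, 10, 0, 10, 11], [0, 12, 0, 12, 13], [1, 6, 7, 1, 7], [1, 6, 8, 1, 8], [1, 10, 11, 1, 11], [1, 10, 12, 1, 12], [2, 6, 2, 6, 8], [2, 7, 2, 7, 9], [2, 10, 2, 10, 12], [2, 11, 2, 11, 13], [3, 6, 8, 3, 8], [3, 6, 10, 3, 10], [3, 7, 9, 3, 9], [3, 7, 11, 3, 11], [4, 6, 10, 4, 10], [4, 7, 11, 4, 11], [4, 8, 12, 4, 12], [4, 9, 13,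 4, 13], [4, 16, 21, 6, 21], [5, 10, 12, 5, 12], [5, 11, 13, 5, 13], [6, 7, 15, 7, 15], [6, 9, 21, 18, 21], [6, 13, 6, 13, 14], [6, 14, 21, 16, 21], [7, 12, 7, 12, 14], [8, 9, 15, 9, 15], [8, 11, 8, 11, 14], [9, 10, 9, 10, 14], [10, 11, 15, 11, 15], [12, 13, 15, 13, 15], [22, 21, 11, 0, 21], [0, 1, 0, 1, 0, 1], [0, 4, 0, 21, 14, 21], [0, 14, 0, 21, 4, 21], [0, 15, 0, 15, 0, 15], [1, 2, 1, 2, 1, 2], [2, 3, 2, 3, 2, 3], [2, 4, 2, 21, 14, 21], [2, 5, 2, 5, 2, 5], [2, 14, 2, 21, 4, 21], [3, 4, 5, 21, 6, 21], [3, 4, 21, 6, 21, 5], [4, 15, 21, 14, 21, 15], [4, 16, 17, 18, 19, 20], [4, 16, 18, 21, 9, 21], [4, 17, 20, 21, 8, 21], [4, 17, 21, 7, 9, 21], [4, 19, 20, 21, 7, 21], [4, 19, 21, 8, 9, 21], [4, 21, 15, 14, 15, 21], [7, 8, 9, 21, 20, 21], [7, 9, 14, 21, 17, 21], [7, 21, 16, 17, 18, 21], [8, 9, 14, 21, 19, 21], [8, 21, 16, 18, 19, 21], [1, 7, 8, 9, 14, 1, 9], [1, 11, 12, 13, 1, 13, 14], [1, 11, 13, 12, 1, 13, 14],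 [3, 8, 10, 12, 14, 3, 12], [3, 9, 11, 13, 14, 3, 13], [3, 13, 3, 13, 11, 9, 14], [10, 11, 12, 15, 12, 11, 15], [0, 1, 13, 1, 0, 12, 11, 14], [0, 2, 10, 11, 2, 0, 12, 10], [1, 2, 11, 12, 2, 1, 13, 14], [2, 10, 11, 2, 15, 13, 11, 15], [1, 3, 18, 17, 6, 21, 3, 21, 15], [1, 3, 18, 17, 14, 21, 5, 21, 15], [1, 10, 11, 13, 15, 1, 13, 14, 15], [3, 9, 6, 10, 11, 13, 3, 13, 10], [0, 1, 15, 0, 21, 1, 21, 14, 17, 19, 3], [0, 21, 14, 16, 18, 2, 3, 1, 2, 15, 21], [2, 3, 12, 13, 3, 2, 11, 10, 8, 9, 14], [10, 1, 21, 10, 1, 21, 10, 1, 21, 10, 1, 21], [0, 1, 15, 0, 15, 21, 15, 21, 7, 18, 19, 3, 15], [0, 1, 0, 15, 2, 1, 0, 3, 2, 1, 0, 18, 16, 14, 21, 2, 21], [7, 10, 2, 21, 7, 10, 2, 21, 7, 10, 2, 21, 7, 10, 2, 21, 7, 10, 2, 21]] : List (List ℕ)), ev Cfsg.Agent.CO2T.TM.π r = 1 :=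
  rels_join [[[3, 5, 16], [0, 2, 0, 2], [0, 3, 0, 3], [0, 4, 0, 4], [0, 5, 0, 5], [0, 7, 0, 7], [0, 9, 0, 9], [0, 11, 0, 11], [0, 13, 0, 13], [0, 14, 0, 14], [0, 16, 0, 16], [0, 17, 0, 17], [0, 18, 0, 19], [0, 20, 0, 20], [1, 3, 1, 3], [1, 4, 1, 4], [1, 5, 1, 5], [1, 6, 1, 6], [1, 10, 1, 10], [1, 14, 1, 14], [1, 15, 1, 15], [1, 16, 1, 16], [1, 17, 1, 18], [1, 19, 1, 19], [1, 20, 1, 20], [2, 4, 2, 4], [2, 8, 2, 8], [2, 9, 2, 9], [2, 12, 2, 12], [2, 13, 2, 13], [2, 14, 2, 14], [2, 15, 2, 15], [2, 16, 2, 17], [2, 18, 2, 18], [2, 19, 2, 19], [2, 20, 2, 20], [3, 4, 3, 4], [3, 6, 3, 6], [3, 7, 3, 7], [3, 14, 3, 14], [3, 15, 3, 15], [3, 17, 5, 17], [3, 18, 5, 18], [3, 19, 5, 19], [3, 20, 5, 20], [4, 5, 4, 5], [4, 15, 4, 15], [4, 21, 14, 21], [5, 10, 5, 10], [5, 11, 5, 11], [5, 14, 5, 14], [5, 15, 5, 15], [6, 10, 6, 10], [6, 11, 6, 11], [6, 12, 6, 12], [6, 15, 6, 15], [7, 10, 7, 10], [7, 11, 7, 11], [7, 13, 7, 13],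 [8, 10, 8, 10], [8, 12, 8, 12], [8, 13, 8, 13], [8, 15, 8, 15], [9, 11, 9, 11], [9, 12, 9, 12], [9, 13, 9, 13], [10, 11, 10, 11], [10, 12, 10, 12], [10, 13, 10, 13], [10, 14, 10, 14], [10, 15, 10, 15], [11, 12, 11, 12], [11, 13, 11, 13], [11, 14, 11, 14], [12, 13, 12, 13], [12, 14, 12, 14], [12, 15, 12, 15], [13, 14, 13, 14], [14, 15, 14, 15], [15, 16, 15, 16], [15, 17, 15, 17], [15, 18, 15, 18], [15, 19, 15, 20], [0, 6, 0, 6, 7], [0, 8, 0, 8, 9], [0, 10, 0, 10, 11], [0, 12, 0, 12, 13], [1, 6, 7, 1, 7], [1, 6, 8, 1, 8], [1, 10, 11, 1, 11], [1, 10, 12, 1, 12], [2, 6, 2, 6, 8], [2, 7, 2, 7, 9], [2, 10, 2, 10, 12], [2, 11, 2, 11, 13], [3, 6, 8, 3, 8], [3, 6, 10, 3, 10], [3, 7, 9, 3, 9], [3, 7, 11, 3, 11], [4, 6, 10, 4, 10], [4, 7, 11, 4, 11], [4, 8, 12, 4, 12], [4, 9, 13, 4, 13], [4, 16, 21, 6, 21], [5, 10, 12, 5, 12], [5, 11, 13, 5, 13], [6, 7, 15, 7, 15], [6, 9, 21, 18, 21], [6, 13, 6, 13, 14], [6, 14, 21, 16,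 21], [7, 12, 7, 12, 14], [8, 9, 15, 9, 15], [8, 11, 8, 11, 14], [9, 10, 9, 10, 14], [10, 11, 15, 11, 15], [12, 13, 15, 13, 15], [22, 21, 11, 0, 21], [0, 1, 0, 1, 0, 1], [0, 4, 0, 21, 14, 21], [0, 14, 0, 21, 4, 21], [0, 15, 0, 15, 0, 15], [1, 2, 1, 2, 1, 2], [2, 3, 2, 3, 2, 3], [2, 4, 2, 21, 14, 21], [2, 5, 2, 5, 2, 5], [2, 14, 2, 21, 4, 21], [3, 4, 5, 21, 6, 21], [3, 4, 21, 6, 21, 5], [4, 15, 21, 14, 21, 15], [4, 16, 17, 18, 19, 20], [4, 16, 18, 21, 9, 21], [4, 17, 20, 21, 8, 21], [4, 17, 21, 7, 9, 21], [4, 19, 20, 21, 7, 21], [4, 19, 21, 8, 9, 21], [4, 21, 15, 14, 15, 21], [7, 8, 9, 21, 20, 21], [7, 9, 14, 21, 17, 21], [7, 21, 16, 17, 18, 21], [8, 9, 14, 21, 19, 21], [8, 21, 16, 18, 19, 21], [1, 7, 8, 9, 14, 1, 9], [1, 11, 12, 13, 1, 13, 14], [1, 11, 13, 12, 1, 13, 14], [3, 8, 10, 12, 14, 3, 12], [3, 9, 11, 13, 14, 3, 13], [3, 13, 3, 13, 11, 9, 14], [10, 11, 12, 15, 12, 11, 15], [0, 1, 13, 1, 0, 12, 11, 14],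 [0, 2, 10, 11, 2, 0, 12, 10], [1, 2, 11, 12, 2, 1, 13, 14], [2, 10, 11, 2, 15, 13, 11, 15], [1, 3, 18, 17, 6, 21, 3, 21, 15], [1, 3, 18, 17, 14, 21, 5, 21, 15], [1, 10, 11, 13, 15, 1, 13, 14, 15], [3, 9, 6, 10, 11, 13, 3, 13, 10], [0, 1, 15, 0, 21, 1, 21, 14, 17, 19, 3], [0, 21, 14, 16, 18, 2, 3, 1, 2, 15, 21], [2, 3, 12, 13, 3, 2, 11, 10, 8, 9, 14], [10, 1, 21, 10, 1, 21, 10, 1, 21, 10, 1, 21], [0, 1, 15, 0, 15, 21, 15, 21, 7, 18, 19, 3, 15], [0, 1, 0, 15, 2, 1, 0, 3, 2, 1, 0, 18, 16, 14, 21, 2, 21], [7, 10, 2, 21, 7, 10, 2, 21, 7, 10, 2, 21, 7, 10, 2, 21, 7, 10, 2, 21]]] ⟨sat_rel_0, trivial⟩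

theorem sat : Sat Cfsg.Agent.CO2T.PTM Cfsg.Agent.CO2T.TM.π :=
  ⟨Cfsg.Agent.CO2T.TM.out, sat_inv, sat_rel⟩

noncomputable def done_tr0 : ℕ := nat_lit 0x30428ed03d59c047424

noncomputable def done_tr1 : ℕ := nat_lit 0xcbe2bba4459e03b0e3e

noncomputable def done_tr2 : ℕ := nat_lit 0x14488750ffa26079face

noncomputable def done_tr3 : ℕ := nat_lit 0x1000a7f8fbc30001fac0

noncomputable def done_tr4 : ℕ := nat_lit 0x4095000000063b8010e

noncomputable def done_t0_0 : ℕ := nat_lit 0xc3582ca1b1b83d2e0f5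

noncomputable def done_t0_1 : ℕ := nat_lit 0x1cefb7c2220ae06bff02

noncomputable def done_t0_2 : ℕ := nat_lit 0x800085286280003fff8

noncomputable def done_t0_3 : ℕ := nat_lit 0x8008ad2862ae0780000

noncomputable def done_t0_4 : ℕ := nat_lit 0x4ef752841c000000000

noncomputable def done_t1_0 : ℕ := nat_lit 0x124d492cdde7897cd4ed

noncomputable def done_t1_1 : ℕ := nat_lit 0x10489f10e010897dab26

noncomputable def done_t1_2 : ℕ := nat_lit 0x50020a4dcf47681fbe0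

noncomputable def done_t1_3 : ℕ := nat_lit 0x20a4dcf4fffc0004

noncomputable def done_t1_4 : ℕ := nat_lit 0x15489f51230000000000

noncomputable def done_t2_0 : ℕ := nat_lit 0x92ae53ef8ab2e1c01d9

noncomputable def done_t2_1 : ℕ := nat_lit 0xbf952aaa82e4fe7fa06

noncomputable def done_t2_2 : ℕ := nat_lit 0x1c0220028a2a1003fb90

noncomputable def done_t2_3 : ℕ := nat_lit 0x802602a8a2a5ffc0004

noncomputable def done_t2_4 : ℕ := nat_lit 0x15f917d5754000000000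

noncomputable def done_t3_0 : ℕ := nat_lit 0x1a0d000949819c1fdef1

noncomputable def done_t3_1 : ℕ := nat_lit 0x1a07df1a5858ffa7f506

noncomputable def done_t3_2 : ℕ := nat_lit 0xfb00022fe5e0003fff8

noncomputable def done_t3_3 : ℕ := nat_lit 0x1a8030aafe5ee9340004

noncomputable def done_t3_4 : ℕ := nat_lit 0x537cf55018000000000

noncomputable def done_t4_0 : ℕ := nat_lit 0x17c73215834378c680f5

noncomputable def done_t4_1 : ℕ := nat_lit 0x1df806485803c0ebff02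

noncomputable def done_t4_2 : ℕ := nat_lit 0x137cd73efc1e0effffc

noncomputable def done_t4_3 : ℕ := nat_lit 0x1ffffffffffe1f100000

noncomputable def done_t4_4 : ℕ := nat_lit 0

noncomputable def done_t5_0 : ℕ := nat_lit 0x1f050029cb869c5e94f1

noncomputable def done_t5_1 : ℕ := nat_lit 0x1a4fdf1a5858e96fff06

noncomputable def done_t5_2 : ℕ := nat_lit 0xff80002f87d004bfff8

noncomputable def done_t5_3 : ℕ := nat_lit 0x1ac830aafa7dffb40004

noncomputable def done_t5_4 : ℕ := nat_lit 0x537cf55018000000000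

noncomputable def done_t6_0 : ℕ := nat_lit 0xc8df05490d3db0e80f5

noncomputable def done_t6_1 : ℕ := nat_lit 0x1bab05694a03e80fff02

noncomputable def done_t6_2 : ℕ := nat_lit 0x1f3c0c107d57740bfffc

noncomputable def done_t6_3 : ℕ := nat_lit 0xfbffffffffc9ff40000

noncomputable def done_t6_4 : ℕ := nat_lit 0x400000000000000000

noncomputable def done_t7_0 : ℕ := nat_lit 0x1a1603b9924398d680f1

noncomputable def done_t7_1 : ℕ := nat_lit 0x196817c84803e9efff06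

noncomputable def done_t7_2 : ℕ := nat_lit 0xfb7ec77fffc1603fff8

noncomputable def done_t7_3 : ℕ := nat_lit 0x1bb7fffffffffffc0004

noncomputable def done_t7_4 : ℕ := nat_lit 0x4480000000000000000

noncomputable def done_t8_0 : ℕ := nat_lit 0x9cf1293935cb1e680f5

noncomputable def done_t8_1 : ℕ := nat_lit 0xb7816c04800e1ffff06

noncomputable def done_t8_2 : ℕ := nat_lit 0x1fb7ed7fffff1e03fff8

noncomputable def done_t8_3 : ℕ := nat_lit 0x1bb7fffffffffffc0004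

noncomputable def done_t8_4 : ℕ := nat_lit 0x4480000000000000000

noncomputable def done_t9_0 : ℕ := nat_lit 0x1b8702b3934b91d680f1

noncomputable def done_t9_1 : ℕ := nat_lit 0x197816c04803e1efff06

noncomputable def done_t9_2 : ℕ := nat_lit 0xbb7ed7ffffc1e03fff8

noncomputable def done_t9_3 : ℕ := nat_lit 0x1bb7fffffffffffc0004

noncomputable def done_t9_4 : ℕ := nat_lit 0x4480000000000000000

noncomputable def done_t10_0 : ℕ := nat_lit 0x1e35000259ae75d80aa5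

noncomputable def done_t10_1 : ℕ := nat_lit 0x1a359f1470364007f504

noncomputable def done_t10_2 : ℕ := nat_lit 0xfca4002dc189023fffa

noncomputable def done_t10_3 : ℕ := nat_lit 0xa824002dc3ed0200000

noncomputable def done_t10_4 : ℕ := nat_lit 0x157d8f5123000a040004

noncomputable def done_t11_0 : ℕ := nat_lit 0xac37b904665f67f013f

noncomputable def done_t11_1 : ℕ := nat_lit 0xa450043461d44037e0a

noncomputable def done_t11_2 : ℕ := nat_lit 0xf380000401084034400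

noncomputable def done_t11_3 : ℕ := nat_lit 0xa0000004415c4000000

noncomputable def done_t11_4 : ℕ := nat_lit 0x5ff7b2c018009f80000

noncomputable def done_t12_0 : ℕ := nat_lit 0x1be88babac51afe98cfd

noncomputable def done_t12_1 : ℕ := nat_lit 0x1bfd5c36ac6e55368b06

noncomputable def done_t12_2 : ℕ := nat_lit 0xe0220028c7ff4038f4a

noncomputable def done_t12_3 : ℕ := nat_lit 0xa0228028c7ff5000000

noncomputable def done_t12_4 : ℕ := nat_lit 0x15fd97987000003c0004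

noncomputable def done_t13_0 : ℕ := nat_lit 0xf7aca8b7e04f2e3051

noncomputable def done_t13_1 : ℕ := nat_lit 0xb651002be3ff612e504

noncomputable def done_t13_2 : ℕ := nat_lit 0x1e0800029e3ff602e5aa

noncomputable def done_t13_3 : ℕ := nat_lit 0xa0000029e3ff6000000

noncomputable def done_t13_4 : ℕ := nat_lit 0x15fffced208008f40004

noncomputable def done_t14_0 : ℕ := nat_lit 0x8561bbb167c78c680f5

noncomputable def done_t14_1 : ℕ := nat_lit 0x10f902d26d3fc0ebff02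

noncomputable def done_t14_2 : ℕ := nat_lit 0x15480682243fe0effffc

noncomputable def done_t14_3 : ℕ := nat_lit 0xffffd7ddbc01f100000

noncomputable def done_t14_4 : ℕ := nat_lit 0

noncomputable def done_t15_0 : ℕ := nat_lit 0x1a02a3e90398a47e20fd

noncomputable def done_t15_1 : ℕ := nat_lit 0x1a840c962900ec27de06

noncomputable def done_t15_2 : ℕ := nat_lit 0xf7800028c7f1003fed8

noncomputable def done_t15_3 : ℕ := nat_lit 0xa0000028d7ffc240004

noncomputable def done_t15_4 : ℕ := nat_lit 0x15feae71708000000000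

noncomputable def done_t16_0 : ℕ := nat_lit 0x1c739a03e33c7283b0d

noncomputable def done_t16_1 : ℕ := nat_lit 0x4f5f1699dcf82c3bf2

noncomputable def done_t16_2 : ℕ := nat_lit 0x15fac02aaeffe02c3bfc

noncomputable def done_t16_3 : ℕ := nat_lit 0x14caf0aebeff1fd3c400

noncomputable def done_t16_4 : ℕ := nat_lit 0xb350f51410000000000

noncomputable def done_t17_0 : ℕ := nat_lit 0x13c558e15546c7281fcd

noncomputable def done_t17_1 : ℕ := nat_lit 0x6cbdf0c0290f82c05aa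

noncomputable def done_t17_2 : ℕ := nat_lit 0x177e58282210e02c05ac

noncomputable def done_t17_3 : ℕ := nat_lit 0x64e582802101fd3fa50

noncomputable def done_t17_4 : ℕ := nat_lit 0x19b1a7d7fdef00000000

noncomputable def done_t18_0 : ℕ := nat_lit 0x13c57d25607ec729472d

noncomputable def done_t18_1 : ℕ := nat_lit 0x4eddfdebd90f82c20c2

noncomputable def done_t18_2 : ℕ := nat_lit 0x15f848000090e02c0004

noncomputable def done_t18_3 : ℕ := nat_lit 0x4e8480000901fd3fff8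

noncomputable def done_t18_4 : ℕ := nat_lit 0x1b17b7ffff6f00000000

noncomputable def done_t19_0 : ℕ := nat_lit 0x9d0efcf552cc72b62d5

noncomputable def done_t19_1 : ℕ := nat_lit 0x4caafef9ff3f82e9dba

noncomputable def done_t19_2 : ℕ := nat_lit 0x157d10002000e02c0004

noncomputable def done_t19_3 : ℕ := nat_lit 0x448000000001fd3fff8

noncomputable def done_t19_4 : ℕ := nat_lit 0x1bb7ffffffff00000000

noncomputable def done_t20_0 : ℕ := nat_lit 0x19d2a7378cd1c72aad3d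

noncomputable def done_t20_1 : ℕ := nat_lit 0x6cae737dedff82ffffa

noncomputable def done_t20_2 : ℕ := nat_lit 0x157d18c82120e02c0004

noncomputable def done_t20_3 : ℕ := nat_lit 0x448000000001fd3fff8

noncomputable def done_t20_4 : ℕ := nat_lit 0x1bb7ffffffff00000000

noncomputable def done_t21_0 : ℕ := nat_lit 0x18d20e4c46450a82a735

noncomputable def done_t21_1 : ℕ := nat_lit 0x22f0c00048bc5f050

noncomputable def done_t21_2 : ℕ := nat_lit 0x1b35d0f3ffba14000880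

noncomputable def done_t21_3 : ℕ := nat_lit 0x9fc5f8d0

noncomputable def done_t21_4 : ℕ := nat_lit 0x1b77ffffffbf00000000

noncomputable def done_t22_0 : ℕ := nat_lit 0x721f1b3b97af45d38a9

noncomputable def done_t22_1 : ℕ := nat_lit 0x1cd401404680c05ec642

noncomputable def done_t22_2 : ℕ := nat_lit 0x1bbffeffffff7fa1fbf8

noncomputable def done_t22_3 : ℕ := nat_lit 0xbffc0040

noncomputable def done_t22_4 : ℕ := nat_lit 0x1fffffffffff0003ffb8

noncomputable def doneC : TC := ⟨Cfsg.Agent.CO2T.PTM, [[0], [1], [2], [3], [4], [5], [6], [7], [8], [9], [10], [11], [12], [13], [14], [15], [16], [17], [18], [19], [20]], 77, 80, 7, 5, [done_tr0, done_tr1, done_tr2, done_tr3, done_tr4],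
  [[done_t0_0, done_t0_1, done_t0_2, done_t0_3, done_t0_4],
   [done_t1_0, done_t1_1, done_t1_2, done_t1_3, done_t1_4],
   [done_t2_0, done_t2_1, done_t2_2, done_t2_3, done_t2_4],
   [done_t3_0, done_t3_1, done_t3_2, done_t3_3, done_t3_4],
   [done_t4_0, done_t4_1, done_t4_2, done_t4_3, done_t4_4],
   [done_t5_0, done_t5_1, done_t5_2, done_t5_3, done_t5_4],
   [done_t6_0, done_t6_1, done_t6_2, done_t6_3, done_t6_4],
   [done_t7_0, done_t7_1, done_t7_2, done_t7_3, done_t7_4],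
   [done_t8_0, done_t8_1, done_t8_2, done_t8_3, done_t8_4],
   [done_t9_0, done_t9_1, done_t9_2, done_t9_3, done_t9_4],
   [done_t10_0, done_t10_1, done_t10_2, done_t10_3, done_t10_4],
   [done_t11_0, done_t11_1, done_t11_2, done_t11_3, done_t11_4],
   [done_t12_0, done_t12_1, done_t12_2, done_t12_3, done_t12_4],
   [done_t13_0, done_t13_1, done_t13_2, done_t13_3, done_t13_4],
   [done_t14_0, done_t14_1, done_t14_2, done_t14_3, done_t14_4],
   [done_t15_0, done_t15_1, done_t15_2, done_t15_3, done_t15_4],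
   [done_t16_0, done_t16_1, done_t16_2, done_t16_3, done_t16_4],
   [done_t17_0, done_t17_1, done_t17_2, done_t17_3, done_t17_4],
   [done_t18_0, done_t18_1, done_t18_2, done_t18_3, done_t18_4],
   [done_t19_0, done_t19_1, done_t19_2, done_t19_3, done_t19_4],
   [done_t20_0, done_t20_1, done_t20_2, done_t20_3, done_t20_4],
   [done_t21_0, done_t21_1, done_t21_2, done_t21_3, done_t21_4],
   [done_t22_0, done_t22_1, done_t22_2, done_t22_3, done_t22_4]]⟩

theorem done_s : doneC.structC Cfsg.Agent.CO2T.TM.act = true :=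
  by decide +kernel

theorem done_c0_0 : doneC.coverC Cfsg.Agent.CO2T.TM.act 0 true [(3, 0)] [(true, 0, 0, 0), (false, 2, 0, 18), (false, 2, 0, 26), (false, 2, 0, 27), (false, 2, 0, 28), (false, 2, 0, 34), (false, 2, 0, 73), (false, 2, 0, 48), (false, 2, 0, 50), (false, 2, 0, 72), (false, 6, 0, 22), (false, 6, 0, 53), (false, 6, 0, 38), (false, 12, 0, 42), (false, 21, 0, 3), (false, 21, 0, 33), (false, 21, 0, 76), (false, 21, 0, 45), (false, 24, 0, 7), (false, 24, 0, 11), (false, 24, 0, 9), (false, 24, 0, 57), (false, 24, 0, 75), (false, 255, 0, 6), (false, 255, 0, 4), (false, 255, 0, 13), (false, 255, 0, 47), (false, 255, 0, 63), (false, 255, 0, 60), (false, 255, 0, 65), (false, 255, 0, 61), (false, 255, 0, 71), (false, 255, 2, 8), (false, 256, 4, 47), (false, 256, 4, 63), (false, 258, 0, 16), (false, 258, 0, 12), (false, 258, 0, 46), (false, 258, 0, 35), (false, 258, 0, 52), (false, 258, 2, 28), (false, 259,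 4, 46), (false, 259, 4, 52), (false, 360, 0, 62), (false, 444, 0, 54), (false, 444, 4, 25), (false, 471, 0, 1), (false, 471, 0, 20), (false, 471, 0, 21), (false, 471, 0, 29), (false, 471, 0, 30), (false, 471, 0, 67), (false, 471, 0, 70), (false, 483, 10, 32), (false, 484, 6, 32)] 0 (ones 77) = true :=
  by decide +kernel

theorem done_j0 : doneC.JustS Cfsg.Agent.CO2T.TM.π 0 (ones 77) :=
  TC.cover_step Cfsg.Agent.CO2T.TM.spec done_s (TC.justS_zero 0) done_c0_0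

theorem done_c1_0 : doneC.coverC Cfsg.Agent.CO2T.TM.act 1 true [] [(true, 1, 0, 0), (false, 5, 0, 4), (false, 5, 0, 17), (false, 5, 0, 35), (false, 5, 0, 49), (false, 5, 0, 71), (false, 5, 0, 65), (false, 5, 0, 68), (false, 5, 0, 69), (false, 5, 0, 75), (false, 54, 0, 15), (false, 54, 0, 6), (false, 54, 0, 5), (false, 54, 0, 38), (false, 54, 0, 37), (false, 54, 0, 50), (false, 54, 0, 55), (false, 54, 0, 61), (false, 60, 0, 23), (false, 60, 0, 25), (false, 60, 0, 63), (false, 60, 0, 57), (false, 267, 0, 13), (false, 267, 0, 43), (false, 267, 0, 45), (false, 267, 3, 12), (false, 267, 3, 27), (false, 267, 3, 30), (false, 267, 3, 28), (false, 267, 3, 18), (false, 268, 1, 30), (false, 270, 0, 39), (false, 270, 3, 4), (false, 270, 3, 3), (false, 270, 3, 31), (false, 270, 3, 23), (false, 351, 1, 43), (false, 351, 1, 35), (false, 351, 1, 49), (false, 351, 1, 69), (false, 351, 1, 68), (false, 351, 1, 45), (false, 363,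 0, 52), (false, 363, 0, 58), (false, 363, 0, 70), (false, 363, 0, 59), (false, 429, 4, 1), (false, 430, 2, 1), (false, 444, 3, 47), (false, 445, 4, 47), (false, 456, 0, 24), (false, 457, 8, 24), (false, 462, 0, 8), (false, 463, 3, 6), (false, 468, 1, 30), (false, 468, 1, 24), (false, 468, 1, 25), (false, 468, 1, 23), (false, 468, 5, 0), (false, 468, 5, 3), (false, 468, 5, 16), (false, 468, 5, 13), (false, 468, 5, 15), (false, 468, 5, 6), (false, 468, 5, 35), (false, 469, 5, 16), (false, 469, 5, 35), (false, 469, 9, 25)] 0 (ones 77) = true :=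
  by decide +kernel

theorem done_j1 : doneC.JustS Cfsg.Agent.CO2T.TM.π 1 (ones 77) :=
  TC.cover_step Cfsg.Agent.CO2T.TM.spec done_s (TC.justS_zero 1) done_c1_0

theorem done_c2_0 : doneC.coverC Cfsg.Agent.CO2T.TM.act 2 true [(3, 1)] [(true, 2, 0, 0), (false, 8, 0, 5), (false, 8, 0, 10), (false, 8, 0, 31), (false, 8, 0, 36), (false, 8, 0, 59), (false, 8, 0, 66), (false, 84, 0, 16), (false, 84, 0, 13), (false, 84, 0, 12), (false, 84, 0, 40), (false, 84, 0, 38), (false, 84, 0, 41), (false, 84, 0, 62), (false, 87, 0, 7), (false, 87, 0, 75), (false, 87, 0, 35), (false, 87, 0, 56), (false, 87, 0, 50), (false, 87, 0, 68), (false, 87, 0, 33), (false, 93, 0, 24), (false, 93, 0, 23), (false, 93, 0, 25), (false, 93, 0, 42), (false, 93, 0, 64), (false, 93, 0, 60), (false, 93, 0, 57), (false, 93, 0, 55), (false, 279, 0, 14), (false, 279, 0, 37), (false, 279, 0, 53), (false, 279, 0, 65), (false, 279, 0, 61), (false, 279,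 2, 23), (false, 280, 4, 14), (false, 282, 0, 11), (false, 282, 0, 49), (false, 282, 2, 4), (false, 282, 2, 28), (false, 282, 2, 40), (false, 283, 2, 40), (false, 363, 1, 10), (false, 363, 1, 66), (false, 363, 1, 60), (false, 366, 0, 22), (false, 366, 0, 67), (false, 447, 1, 37), (false, 453, 0, 8), (false, 453, 3, 1), (false, 483, 15, 0), (false, 483, 15, 3), (false, 483, 15, 8), (false, 483, 15, 10), (false, 483, 15, 9), (false, 484, 1, 8), (false, 486, 2, 21), (false, 487, 1, 32)] 0 (ones 77) = true :=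
  by decide +kernel

theorem done_j2 : doneC.JustS Cfsg.Agent.CO2T.TM.π 2 (ones 77) :=
  TC.cover_step Cfsg.Agent.CO2T.TM.spec done_s (TC.justS_zero 2) done_c2_0

theorem done_c3_0 : doneC.coverC Cfsg.Agent.CO2T.TM.act 3 true [(120, 0)] [(true, 3, 0, 0), (false, 11, 0, 22), (false, 11, 0, 37), (false, 11, 0, 70), (false, 6, 1, 2), (false, 6, 1, 25), (false, 6, 1, 24), (false, 6, 1, 23), (false, 6, 1, 43), (false, 6, 1, 76), (false, 6, 1, 46), (false, 6, 1, 49), (false, 6, 1, 44), (false, 6, 1, 36), (false, 42, 1, 3), (false, 42, 1, 37), (false, 42, 1, 32), (false, 42, 1, 33), (false, 42, 1, 42), (false, 42, 1, 66), (false, 42, 1, 64), (false, 42, 1, 51), (false, 288, 0, 60), (false, 288, 3, 1), (false, 288, 3, 22), (false, 289, 1, 22), (false, 294, 0, 42), (false, 294, 0, 40), (false, 294, 3, 1), (false, 294, 3, 30), (false, 294, 3, 37), (false, 294, 3, 2), (false, 295, 1, 37), (false, 366, 1, 29), (false, 366,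 1, 44), (false, 366, 1, 39), (false, 366, 1, 46), (false, 366, 1, 50), (false, 432, 0, 17), (false, 432, 0, 16), (false, 432, 0, 14), (false, 432, 5, 1), (false, 432, 5, 31), (false, 432, 5, 25), (false, 433, 1, 25), (false, 435, 0, 46), (false, 435, 5, 38), (false, 435, 5, 31), (false, 438, 2, 1), (false, 438, 2, 3), (false, 456, 6, 0), (false, 456, 6, 4), (false, 456, 6, 17), (false, 456, 6, 10), (false, 456, 6, 8), (false, 456, 6, 12), (false, 465, 6, 3), (false, 465, 6, 1), (false, 468, 10, 72), (false, 469, 0, 72)] 0 (ones 77) = true :=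
  by decide +kernel

theorem done_j3 : doneC.JustS Cfsg.Agent.CO2T.TM.π 3 (ones 77) :=
  TC.cover_step Cfsg.Agent.CO2T.TM.spec done_s (TC.justS_zero 3) done_c3_0

theorem done_c4_0 : doneC.coverC Cfsg.Agent.CO2T.TM.act 4 true [(9, 1)] [(true, 4, 0, 0), (false, 45, 1, 3), (false, 45, 1, 7), (false, 45, 1, 10), (false, 45, 1, 32), (false, 45, 1, 33), (false, 45, 1, 62), (false, 45, 1, 64), (false, 45, 1, 66), (false, 45, 1, 51), (false, 45, 1, 73), (false, 75, 1, 3), (false, 75, 1, 4), (false, 75, 1, 6), (false, 75, 1, 11), (false, 75, 1, 29), (false, 75, 1, 32), (false, 75, 1, 51), (false, 75, 1, 63), (false, 108, 1, 19), (false, 108, 1, 23), (false, 108, 1, 32), (false, 108, 1, 53), (false, 108, 1, 55), (false, 108, 1, 67), (false, 135, 0, 42), (false, 138, 0, 13), (false, 138, 0, 23), (false, 138, 0, 50), (false, 138, 0, 51), (false, 138, 0, 64), (false, 141, 0, 1), (false, 141, 0, 2), (false, 141, 0, 20),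 (false, 141, 0, 30), (false, 141, 0, 67), (false, 141, 0, 74), (false, 297, 3, 1), (false, 297, 3, 5), (false, 297, 3, 7), (false, 297, 3, 29), (false, 297, 3, 26), (false, 297, 3, 19), (false, 297, 3, 20), (false, 300, 3, 1), (false, 300, 3, 29), (false, 300, 3, 25), (false, 300, 3, 41), (false, 300, 3, 52), (false, 300, 3, 2), (false, 303, 3, 4), (false, 303, 3, 3), (false, 303, 3, 23), (false, 303, 3, 27), (false, 303, 3, 24), (false, 303, 3, 22), (false, 306, 3, 1), (false, 306, 3, 38), (false, 306, 3, 24), (false, 306, 3, 19), (false, 354, 1, 2), (false, 375, 4, 8), (false, 375, 4, 10), (false, 375, 4, 5), (false, 384, 0, 24)] 0 (ones 77) = true :=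
  by decide +kernel

theorem done_j4 : doneC.JustS Cfsg.Agent.CO2T.TM.π 4 (ones 77) :=
  TC.cover_step Cfsg.Agent.CO2T.TM.spec done_s (TC.justS_zero 4) done_c4_0

theorem done_c5_0 : doneC.coverC Cfsg.Agent.CO2T.TM.act 5 true [(12, 1), (144, 0)] [(true, 5, 0, 0), (false, 17, 0, 42), (false, 0, 1, 74), (false, 1, 1, 74), (false, 48, 1, 3), (false, 48, 1, 37), (false, 48, 1, 32), (false, 48, 1, 33), (false, 48, 1, 42), (false, 48, 1, 66), (false, 48, 1, 64), (false, 48, 1, 51), (false, 147, 0, 3), (false, 147, 0, 40), (false, 147, 0, 62), (false, 147, 0, 57), (false, 147, 0, 65), (false, 147, 0, 63), (false, 147, 0, 76), (false, 153, 0, 13), (false, 153, 0, 8), (false, 153, 0, 25), (false, 153, 0, 24), (false, 153, 0, 23), (false, 153, 0, 66), (false, 153, 0, 64), (false, 312, 0, 17), (false, 312, 0, 10), (false, 312, 0, 41), (false, 312, 3, 4), (false, 312, 3, 3), (false, 312, 3, 31), (false, 312, 3, 25), (false,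 312, 3, 51), (false, 312, 3, 24), (false, 315, 0, 7), (false, 315, 0, 5), (false, 315, 0, 46), (false, 315, 0, 58), (false, 315, 0, 52), (false, 315, 3, 38), (false, 315, 3, 31), (false, 372, 1, 29), (false, 378, 2, 67), (false, 379, 3, 67), (false, 381, 5, 22), (false, 382, 0, 22), (false, 459, 6, 0), (false, 459, 6, 4), (false, 459, 6, 17), (false, 459, 6, 10), (false, 459, 6, 8), (false, 459, 6, 12)] 0 (ones 77) = true :=
  by decide +kernel

theorem done_j5 : doneC.JustS Cfsg.Agent.CO2T.TM.π 5 (ones 77) :=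
  TC.cover_step Cfsg.Agent.CO2T.TM.spec done_s (TC.justS_zero 5) done_c5_0

theorem done_c6_0 : doneC.coverC Cfsg.Agent.CO2T.TM.act 6 true [(51, 1), (156, 0)] [(true, 6, 0, 0), (false, 111, 1, 19), (false, 111, 1, 23), (false, 111, 1, 32), (false, 111, 1, 55), (false, 111, 1, 67), (false, 159, 0, 3), (false, 159, 0, 33), (false, 159, 0, 42), (false, 159, 0, 45), (false, 159, 0, 47), (false, 159, 0, 48), (false, 159, 0, 54), (false, 159, 0, 58), (false, 159, 0, 63), (false, 159, 0, 76), (false, 162, 0, 10), (false, 162, 0, 13), (false, 162, 0, 14), (false, 162, 0, 16), (false, 162, 0, 39), (false, 162, 0, 40), (false, 162, 0, 41), (false, 162, 0, 59), (false, 162, 0, 62), (false, 165, 0, 8), (false, 165, 0, 23), (false, 165, 0, 24), (false, 165, 0, 64), (false, 249, 1, 2), (false, 249, 1, 23), (false, 249, 1, 24), (false, 249, 1, 50), (false, 249, 1, 59), (false, 249, 1, 68), (false, 249, 1, 36), (false, 273,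 1, 3), (false, 273, 1, 32), (false, 273, 1, 63), (false, 309, 3, 0), (false, 309, 3, 6), (false, 309, 3, 38), (false, 324, 0, 46), (false, 324, 0, 56), (false, 324, 0, 57), (false, 324, 2, 1), (false, 378, 4, 3), (false, 378, 4, 8), (false, 378, 4, 17), (false, 378, 4, 10), (false, 378, 4, 5), (false, 378, 4, 9), (false, 378, 4, 71)] 0 (ones 77) = true :=
  by decide +kernel

theorem done_j6 : doneC.JustS Cfsg.Agent.CO2T.TM.π 6 (ones 77) :=
  TC.cover_step Cfsg.Agent.CO2T.TM.spec done_s (TC.justS_zero 6) done_c6_0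

theorem done_c7_0 : doneC.coverC Cfsg.Agent.CO2T.TM.act 7 true [(15, 1), (168, 0)] [(true, 7, 0, 0), (false, 114, 1, 19), (false, 114, 1, 23), (false, 114, 1, 32), (false, 114, 1, 55), (false, 171, 0, 3), (false, 171, 0, 33), (false, 171, 0, 42), (false, 171, 0, 48), (false, 171, 0, 54), (false, 171, 0, 58), (false, 171, 0, 76), (false, 174, 0, 5), (false, 174, 0, 7), (false, 174, 0, 46), (false, 174, 0, 56), (false, 174, 0, 57), (false, 174, 0, 75), (false, 261, 2, 32), (false, 261, 2, 33), (false, 261, 2, 64), (false, 261, 2, 51), (false, 261, 4, 12), (false, 261, 4, 69), (false, 276, 1, 4), (false, 276, 1, 6), (false, 276, 1, 20), (false, 276, 1, 29), (false, 276, 1, 32), (false, 276, 1, 63), (false, 318, 1, 23), (false, 318, 1, 24), (false, 318, 1, 41), (false, 318, 1, 64), (false, 318, 3, 7), (false, 330, 0, 39), (false, 330, 0, 40), (false, 330, 0, 59), (false, 330, 0, 62), (false, 330, 2, 4), (false,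 330, 2, 3), (false, 399, 4, 0), (false, 414, 0, 2), (false, 414, 0, 20), (false, 414, 0, 21), (false, 414, 0, 29), (false, 414, 0, 30), (false, 414, 0, 67), (false, 414, 0, 70)] 0 (ones 77) = true :=
  by decide +kernel

theorem done_j7 : doneC.JustS Cfsg.Agent.CO2T.TM.π 7 (ones 77) :=
  TC.cover_step Cfsg.Agent.CO2T.TM.spec done_s (TC.justS_zero 7) done_c7_0

theorem done_c8_0 : doneC.coverC Cfsg.Agent.CO2T.TM.act 8 true [(177, 0)] [(true, 8, 0, 0), (false, 78, 1, 3), (false, 78, 1, 4), (false, 78, 1, 6), (false, 78, 1, 11), (false, 78, 1, 32), (false, 78, 1, 63), (false, 78, 1, 71), (false, 78, 1, 34), (false, 180, 0, 12), (false, 180, 0, 13), (false, 180, 0, 14), (false, 180, 0, 16), (false, 180, 0, 39), (false, 180, 0, 40), (false, 180, 0, 41), (false, 180, 0, 54), (false, 180, 0, 59), (false, 180, 0, 62), (false, 183, 0, 7), (false, 183, 0, 46), (false, 183, 0, 56), (false, 183, 0, 57), (false, 183, 0,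 75), (false, 186, 0, 23), (false, 186, 0, 24), (false, 186, 0, 25), (false, 186, 0, 64), (false, 252, 1, 23), (false, 252, 1, 24), (false, 252, 1, 25), (false, 252, 1, 50), (false, 252, 1, 59), (false, 252, 1, 55), (false, 252, 1, 68), (false, 252, 1, 69), (false, 264, 2, 32), (false, 264, 2, 33), (false, 264, 2, 64), (false, 264, 4, 69), (false, 273, 4, 2), (false, 273, 4, 19), (false, 273, 4, 20), (false, 273, 4, 21), (false, 273, 4, 22), (false, 273, 4, 53), (false, 285, 2, 30), (false, 336, 0, 33), (false, 336, 0, 42), (false, 336, 0, 45), (false, 336, 0, 48), (false, 336, 0, 58), (false, 336, 0, 76), (false, 336, 2, 1), (false, 393, 4, 0), (false, 393, 4, 14), (false, 393, 4, 6), (false, 402, 3, 38), (false, 420, 0, 30)] 0 (ones 77) = true :=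
  by decide +kernel

theorem done_j8 : doneC.JustS Cfsg.Agent.CO2T.TM.π 8 (ones 77) :=
  TC.cover_step Cfsg.Agent.CO2T.TM.spec done_s (TC.justS_zero 8) done_c8_0

theorem done_c9_0 : doneC.coverC Cfsg.Agent.CO2T.TM.act 9 true [(18, 1), (192, 0)] [(true, 9, 0, 0), (false, 81, 1, 3), (false, 81, 1, 4), (false, 81, 1, 6), (false, 81, 1, 11), (false, 81, 1, 20), (false, 81, 1, 29), (false, 81, 1, 32), (false, 81, 1, 51), (false, 81, 1, 63), (false, 189, 0, 3), (false, 189, 0, 33), (false, 189, 0, 42), (false, 189, 0, 48), (false, 189, 0, 54), (false, 189, 0, 58), (false, 189, 0, 76), (false, 195, 0, 7), (false, 195, 0, 9), (false, 195, 0, 11), (false, 195, 0, 46), (false, 195, 0, 56), (false, 195, 0, 57), (false, 195, 0, 75), (false, 291, 4, 22), (false, 291, 4, 25), (false, 291, 4, 37), (false, 291, 4, 61), (false, 321, 1, 2), (false, 321, 1, 20), (false, 321, 1, 21), (false, 321, 1, 24), (false, 321, 1, 29), (false,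 321, 1, 30), (false, 321, 1, 67), (false, 321, 1, 70), (false, 321, 1, 74), (false, 333, 3, 19), (false, 333, 3, 55), (false, 333, 3, 60), (false, 333, 3, 56), (false, 339, 0, 32), (false, 339, 0, 38), (false, 339, 0, 55), (false, 339, 0, 60), (false, 339, 0, 71), (false, 339, 2, 3), (false, 339, 2, 1), (false, 390, 4, 0), (false, 423, 6, 35), (false, 423, 6, 49), (false, 423, 6, 68), (false, 423, 6, 69)] 0 (ones 77) = true :=
  by decide +kernel

theorem done_j9 : doneC.JustS Cfsg.Agent.CO2T.TM.π 9 (ones 77) :=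
  TC.cover_step Cfsg.Agent.CO2T.TM.spec done_s (TC.justS_zero 9) done_c9_0

theorem done_c10_0 : doneC.coverC Cfsg.Agent.CO2T.TM.act 10 true [] [(true, 10, 0, 0), (false, 32, 0, 55), (false, 32, 0, 61), (false, 32, 0, 51), (false, 32, 0, 38), (false, 32, 0, 32), (false, 32, 0, 53), (false, 32, 0, 23), (false, 32, 0, 20), (false, 54, 1, 51), (false, 54, 1, 32), (false, 54, 1, 29), (false, 54, 1, 59), (false, 54, 1, 56), (false, 54, 1, 24), (false, 54, 1, 72), (false, 198, 0, 40), (false, 198, 0, 47), (false, 198, 0, 42), (false, 198, 0, 63), (false, 198, 0, 57), (false, 201, 0, 16), (false, 201, 0, 14), (false, 201, 0, 36), (false, 201, 0, 59), (false, 201, 0, 56), (false, 201, 0, 66), (false, 201, 0, 64), (false, 204, 0, 9), (false, 204, 0, 11), (false, 204, 0, 5), (false, 204, 0, 7), (false, 204, 0, 52), (false, 204, 0, 58), (false, 204, 0, 72), (false, 204, 0, 73), (false, 204, 0, 75), (false, 210, 0, 60),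 (false, 255, 1, 18), (false, 255, 1, 44), (false, 255, 1, 49), (false, 255, 1, 43), (false, 255, 1, 35), (false, 255, 1, 28), (false, 255, 1, 45), (false, 255, 3, 29), (false, 256, 1, 29), (false, 267, 1, 3), (false, 267, 1, 1), (false, 267, 1, 33), (false, 267, 1, 20), (false, 268, 3, 1), (false, 268, 3, 3), (false, 268, 3, 20), (false, 268, 3, 33), (false, 270, 1, 10), (false, 270, 1, 62), (false, 270, 1, 66), (false, 271, 3, 10), (false, 271, 3, 62), (false, 271, 3, 66), (false, 279, 1, 26), (false, 279, 3, 5), (false, 280, 1, 5), (false, 288, 2, 32), (false, 288, 2, 29), (false, 342, 0, 13), (false, 343, 4, 13), (false, 465, 8, 44), (false, 466, 0, 44), (false, 477, 0, 31)] 0 (ones 77) = true :=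
  by decide +kernel

theorem done_j10 : doneC.JustS Cfsg.Agent.CO2T.TM.π 10 (ones 77) :=
  TC.cover_step Cfsg.Agent.CO2T.TM.spec done_s (TC.justS_zero 10) done_c10_0

theorem done_c11_0 : doneC.coverC Cfsg.Agent.CO2T.TM.act 11 true [(35, 0)] [(true, 11, 0, 0), (false, 21, 1, 43), (false, 21, 1, 36), (false, 147, 1, 33), (false, 147, 1, 29), (false, 147, 1, 70), (false, 198, 1, 10), (false, 198, 1, 14), (false, 213, 0, 14), (false, 213, 0, 13), (false, 213, 0, 12), (false, 213, 0, 10), (false, 213, 0, 36), (false, 213, 0, 41), (false, 213, 0, 64), (false, 213, 0, 69), (false, 213, 0, 68), (false, 216, 0, 11), (false, 216, 0, 9), (false, 216, 0, 75), (false, 255, 4, 31), (false, 255, 4, 34), (false, 256, 0, 34), (false, 267, 2, 51), (false, 267, 2, 24), (false, 267, 4, 35), (false, 268, 0, 35), (false, 282, 1, 63), (false, 282, 1, 71), (false, 282, 3, 24), (false, 283, 1, 24), (false, 315, 1, 28), (false, 315,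 1, 22), (false, 316, 3, 22), (false, 316, 3, 28), (false, 342, 1, 60), (false, 342, 1, 20), (false, 342, 3, 25), (false, 342, 3, 41), (false, 348, 2, 0), (false, 349, 2, 0), (false, 444, 6, 23), (false, 444, 6, 50), (false, 444, 6, 74), (false, 445, 1, 23), (false, 445, 1, 50), (false, 445, 1, 74), (false, 447, 3, 26), (false, 448, 4, 26), (false, 450, 2, 30), (false, 450, 2, 62), (false, 451, 5, 30), (false, 451, 5, 62)] 0 (ones 77) = true :=
  by decide +kernel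

theorem done_j11 : doneC.JustS Cfsg.Agent.CO2T.TM.π 11 (ones 77) :=
  TC.cover_step Cfsg.Agent.CO2T.TM.spec done_s (TC.justS_zero 11) done_c11_0

theorem done_c12_0 : doneC.coverC Cfsg.Agent.CO2T.TM.act 12 true [] [(true, 12, 0, 0), (false, 38, 0, 14), (false, 38, 0, 12), (false, 38, 0, 13), (false, 38, 0, 39), (false, 38, 0, 41), (false, 38, 0, 40), (false, 38, 0, 54), (false, 38, 0, 50), (false, 38, 0, 22), (false, 84, 1, 63), (false, 84, 1, 39), (false, 84, 1, 44), (false, 84, 1, 46), (false, 84, 1, 23), (false, 84, 1, 19), (false, 201, 1, 13), (false, 201, 1, 7), (false, 201, 1, 39), (false, 213, 1, 32), (false, 213, 1, 29), (false, 213, 1, 30), (false, 213, 1, 28), (false, 213, 1, 26), (false, 213, 1, 38), (false, 213, 1, 37), (false, 213, 1, 35), (false, 222, 0, 16), (false, 222, 0, 3), (false, 222, 0, 75), (false, 222, 0, 73), (false, 228, 0, 62), (false, 228, 0, 64), (false, 228, 0, 60), (false, 258,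 1, 18), (false, 258, 1, 68), (false, 258, 1, 69), (false, 270, 2, 6), (false, 270, 2, 30), (false, 270, 2, 32), (false, 270, 2, 29), (false, 270, 2, 37), (false, 270, 2, 22), (false, 270, 2, 20), (false, 270, 4, 1), (false, 270, 4, 45), (false, 271, 2, 22), (false, 279, 4, 8), (false, 279, 4, 10), (false, 279, 4, 29), (false, 279, 4, 36), (false, 279, 4, 70), (false, 280, 0, 10), (false, 280, 0, 8), (false, 280, 0, 36), (false, 280, 0, 29), (false, 280, 0, 70), (false, 312, 2, 32), (false, 312, 2, 29), (false, 345, 0, 55), (false, 345, 0, 18), (false, 346, 4, 18), (false, 346, 4, 55), (false, 441, 2, 19), (false, 441, 4, 50), (false, 444, 5, 2), (false, 474, 2, 71), (false, 474, 2, 53), (false, 475, 8, 53), (false, 475, 8, 71)] 0 (ones 77) = true :=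
  by decide +kernel

theorem done_j12 : doneC.JustS Cfsg.Agent.CO2T.TM.π 12 (ones 77) :=
  TC.cover_step Cfsg.Agent.CO2T.TM.spec done_s (TC.justS_zero 12) done_c12_0

theorem done_c13_0 : doneC.coverC Cfsg.Agent.CO2T.TM.act 13 true [] [(true, 13, 0, 0), (false, 41, 0, 9), (false, 41, 0, 11), (false, 41, 0, 16), (false, 41, 0, 57), (false, 41, 0, 56), (false, 41, 0, 46), (false, 41, 0, 52), (false, 24, 1, 68), (false, 24, 1, 44), (false, 24, 1, 38), (false, 24, 1, 49), (false, 24, 1, 26), (false, 24, 1, 46), (false, 24, 1, 43), (false, 24, 1, 18), (false, 24, 1, 45), (false, 24, 1, 69), (false, 87, 1, 63), (false, 87, 1, 55), (false, 87, 1, 71), (false, 204, 1, 10), (false, 204, 1, 15), (false, 204, 1, 22), (false, 204, 1, 62), (false, 216, 1, 52), (false, 216, 1, 40), (false, 222, 1, 21), (false, 258, 4, 25), (false, 258, 4, 30), (false, 258, 4, 34), (false, 258, 4, 73), (false, 259, 0, 34), (false, 259, 0,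 73), (false, 259, 0, 25), (false, 282, 4, 1), (false, 282, 4, 5), (false, 282, 4, 10), (false, 282, 4, 29), (false, 282, 4, 59), (false, 283, 0, 5), (false, 283, 0, 1), (false, 283, 0, 10), (false, 283, 0, 29), (false, 283, 0, 59), (false, 315, 2, 35), (false, 315, 2, 34), (false, 315, 2, 29), (false, 315, 2, 32), (false, 315, 4, 44), (false, 345, 1, 4), (false, 345, 1, 62), (false, 345, 1, 22), (false, 345, 3, 24), (false, 345, 3, 51), (false, 346, 3, 4), (false, 426, 5, 69), (false, 427, 1, 69), (false, 444, 2, 27), (false, 444, 2, 34), (false, 444, 2, 33), (false, 444, 2, 31), (false, 445, 5, 31), (false, 445, 5, 34), (false, 445, 5, 33), (false, 450, 6, 71), (false, 462, 3, 19), (false, 462, 6, 21), (false, 463, 2, 21), (false, 463, 5, 19)] 0 (ones 77) = true :=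
  by decide +kernel

theorem done_j13 : doneC.JustS Cfsg.Agent.CO2T.TM.π 13 (ones 77) :=
  TC.cover_step Cfsg.Agent.CO2T.TM.spec done_s (TC.justS_zero 13) done_c13_0

theorem done_c14_0 : doneC.coverC Cfsg.Agent.CO2T.TM.act 14 true [(207, 1)] [(true, 14, 0, 0), (false, 27, 1, 23), (false, 27, 1, 24), (false, 27, 1, 25), (false, 27, 1, 32), (false, 27, 1, 48), (false, 27, 1, 50), (false, 27, 1, 68), (false, 27, 1, 36), (false, 57, 1, 3), (false, 57, 1, 7), (false, 57, 1, 10), (false, 57, 1, 32), (false, 57, 1, 33), (false, 57, 1, 62), (false, 57, 1, 64), (false, 57, 1, 66), (false, 57, 1, 51), (false, 57, 1, 73), (false, 90, 1, 3), (false, 90, 1, 4), (false, 90, 1, 6), (false, 90, 1, 11), (false, 90, 1, 29), (false, 90, 1, 32), (false, 90, 1, 39), (false, 90, 1, 63), (false, 117, 1, 19), (false, 117, 1, 23), (false, 117, 1, 32), (false, 117, 1, 67), (false, 141, 2, 0), (false, 141, 2, 3), (false, 141, 2, 17),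 (false, 141, 2, 9), (false, 141, 2, 38), (false, 141, 2, 71), (false, 150, 1, 33), (false, 219, 1, 1), (false, 219, 1, 29), (false, 219, 1, 18), (false, 219, 1, 37), (false, 219, 1, 25), (false, 219, 1, 41), (false, 219, 1, 52), (false, 219, 1, 55), (false, 219, 1, 2), (false, 225, 1, 7), (false, 225, 1, 4), (false, 225, 1, 3), (false, 225, 1, 23), (false, 225, 1, 27), (false, 225, 1, 25), (false, 225, 1, 22), (false, 231, 1, 1), (false, 231, 1, 38), (false, 231, 1, 40), (false, 231, 1, 24), (false, 231, 1, 19), (false, 234, 0, 23), (false, 234, 0, 64), (false, 357, 1, 2), (false, 369, 4, 8), (false, 369, 4, 10), (false, 369, 4, 5), (false, 405, 3, 17)] 0 (ones 77) = true :=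
  by decide +kernel

theorem done_j14 : doneC.JustS Cfsg.Agent.CO2T.TM.π 14 (ones 77) :=
  TC.cover_step Cfsg.Agent.CO2T.TM.spec done_s (TC.justS_zero 14) done_c14_0

theorem done_c15_0 : doneC.coverC Cfsg.Agent.CO2T.TM.act 15 true [(60, 1)] [(true, 15, 0, 0), (false, 47, 0, 8), (false, 47, 0, 23), (false, 47, 0, 24), (false, 47, 0, 25), (false, 47, 0, 62), (false, 47, 0, 60), (false, 47, 0, 50), (false, 47, 0, 64), (false, 93, 1, 6), (false, 93, 1, 32), (false, 93, 1, 44), (false, 93, 1, 46), (false, 93, 1, 63), (false, 93, 1, 39), (false, 120, 1, 26), (false, 120, 1, 30), (false, 120, 1, 55), (false, 120, 1, 50), (false, 210, 1, 1), (false, 210, 1, 29), (false, 210, 1, 30), (false, 210, 1, 26), (false, 210, 1, 19), (false, 228, 1, 3), (false, 228, 1, 4), (false, 228, 1, 27), (false, 342, 2, 1), (false, 342, 2, 7), (false, 342, 2, 5), (false, 342, 2, 29), (false, 342, 2, 19), (false, 342, 2, 30), (false, 342,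 2, 21), (false, 342, 2, 50), (false, 342, 4, 4), (false, 342, 4, 9), (false, 342, 4, 11), (false, 342, 4, 34), (false, 342, 4, 71), (false, 343, 2, 30), (false, 345, 2, 2), (false, 345, 2, 36), (false, 345, 2, 31), (false, 345, 4, 13), (false, 345, 4, 53), (false, 346, 0, 13), (false, 346, 0, 53), (false, 360, 1, 23), (false, 360, 1, 24), (false, 360, 1, 45), (false, 480, 6, 0), (false, 480, 6, 4), (false, 480, 6, 14), (false, 480, 6, 17), (false, 480, 6, 15), (false, 480, 6, 6), (false, 480, 6, 45)] 0 (ones 77) = true :=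
  by decide +kernel

theorem done_j15 : doneC.JustS Cfsg.Agent.CO2T.TM.π 15 (ones 77) :=
  TC.cover_step Cfsg.Agent.CO2T.TM.spec done_s (TC.justS_zero 15) done_c15_0

theorem done_c16_0 : doneC.coverC Cfsg.Agent.CO2T.TM.act 16 true [(0, 2)] [(true, 16, 0, 0), (false, 30, 1, 2), (false, 30, 1, 23), (false, 30, 1, 24), (false, 30, 1, 50), (false, 30, 1, 43), (false, 30, 1, 49), (false, 30, 1, 55), (false, 30, 1, 74), (false, 30, 1, 68), (false, 63, 1, 7), (false, 63, 1, 32), (false, 63, 1, 37), (false, 63, 1, 53), (false, 63, 1, 34), (false, 63, 1, 33), (false, 63, 1, 62), (false, 63, 1, 64), (false, 96, 1, 29), (false, 96, 1, 46), (false, 96, 1, 44), (false, 96, 1, 55), (false, 96, 1, 63), (false, 237, 1, 19), (false, 237, 1, 20), (false, 237, 1, 55), (false, 237, 1, 53), (false, 237, 1, 41), (false, 309, 1, 19), (false, 309, 1, 21), (false, 309, 1, 29), (false, 309, 1, 67), (false, 309, 1, 74), (false, 327,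 3, 0), (false, 327, 3, 3), (false, 327, 3, 17), (false, 327, 3, 9)] 0 (ones 77) = true :=
  by decide +kernel

theorem done_j16 : doneC.JustS Cfsg.Agent.CO2T.TM.π 16 (ones 77) :=
  TC.cover_step Cfsg.Agent.CO2T.TM.spec done_s (TC.justS_zero 16) done_c16_0

theorem done_c17_0 : doneC.coverC Cfsg.Agent.CO2T.TM.act 17 true [(33, 1), (96, 3)] [(true, 17, 0, 0), (false, 66, 1, 60), (false, 66, 1, 64), (false, 66, 1, 51), (false, 123, 1, 10), (false, 123, 1, 19), (false, 123, 1, 23), (false, 123, 1, 49), (false, 123, 1, 43), (false, 123, 1, 61), (false, 123, 1, 67), (false, 240, 1, 19), (false, 240, 1, 20), (false, 240, 1, 53), (false, 240, 1, 51), (false, 396, 1, 19), (false, 396, 1, 21), (false, 396, 1, 29), (false, 396, 1, 67), (false, 396, 1, 74), (false, 411, 4, 0), (false, 411, 4, 3), (false, 411, 4, 17), (false, 411, 4, 9)] 0 (ones 77) = true :=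
  by decide +kernel

theorem done_j17 : doneC.JustS Cfsg.Agent.CO2T.TM.π 17 (ones 77) :=
  TC.cover_step Cfsg.Agent.CO2T.TM.spec done_s (TC.justS_zero 17) done_c17_0

theorem done_c18_0 : doneC.coverC Cfsg.Agent.CO2T.TM.act 18 true [(66, 3)] [(true, 18, 0, 0), (false, 36, 1, 2), (false, 36, 1, 23), (false, 36, 1, 24), (false, 36, 1, 25), (false, 36, 1, 45), (false, 99, 1, 4), (false, 99, 1, 29), (false, 99, 1, 36), (false, 99, 1, 53), (false, 99, 1, 46), (false, 99, 1, 39), (false, 99, 1, 57), (false, 99, 1, 55), (false, 99, 1, 63), (false, 126, 1, 19), (false, 126, 1, 23), (false, 126, 1, 32), (false, 126, 1, 41), (false, 126, 1, 59), (false, 126, 1, 67), (false, 243, 1, 19), (false, 243, 1, 20), (false, 243, 1, 62), (false, 243, 1, 53), (false, 243, 1, 39), (false, 321, 3, 0), (false, 321, 3, 3), (false, 321, 3, 8), (false, 321, 3, 17), (false, 321, 3, 10), (false, 321, 3, 5), (false, 321, 3, 9), (false, 321,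 3, 38), (false, 321, 3, 71)] 0 (ones 77) = true :=
  by decide +kernel

theorem done_j18 : doneC.JustS Cfsg.Agent.CO2T.TM.π 18 (ones 77) :=
  TC.cover_step Cfsg.Agent.CO2T.TM.spec done_s (TC.justS_zero 18) done_c18_0

theorem done_c19_0 : doneC.coverC Cfsg.Agent.CO2T.TM.act 19 true [(36, 3)] [(true, 19, 0, 0), (false, 69, 1, 62), (false, 69, 1, 64), (false, 102, 1, 29), (false, 129, 1, 19), (false, 129, 1, 23), (false, 129, 1, 52), (false, 129, 1, 67), (false, 246, 1, 19), (false, 246, 1, 20), (false, 246, 1, 46), (false, 246, 1, 71), (false, 402, 1, 19), (false, 402, 1, 21), (false, 402, 1, 29), (false, 402, 1, 56), (false, 402, 1, 67), (false, 402, 1, 74), (false, 417, 4, 0), (false, 417, 4, 3), (false, 417, 4, 17), (false, 417, 4, 9)] 0 (ones 77) = true :=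
  by decide +kernel

theorem done_j19 : doneC.JustS Cfsg.Agent.CO2T.TM.π 19 (ones 77) :=
  TC.cover_step Cfsg.Agent.CO2T.TM.spec done_s (TC.justS_zero 19) done_c19_0

theorem done_c20_0 : doneC.coverC Cfsg.Agent.CO2T.TM.act 20 true [(39, 1), (72, 1), (246, 3)] [(true, 20, 0, 0), (false, 105, 1, 6), (false, 105, 1, 29), (false, 105, 1, 75), (false, 105, 1, 38), (false, 105, 1, 46), (false, 105, 1, 44), (false, 105, 1, 57), (false, 105, 1, 63), (false, 105, 1, 70), (false, 132, 1, 7), (false, 132, 1, 19), (false, 132, 1, 23), (false, 132, 1, 35), (false, 132, 1, 41), (false, 132, 1, 62), (false, 132, 1, 67), (false, 387, 5, 3), (false, 387, 5, 9), (false, 387, 5, 34), (false, 387, 5, 46), (false, 387, 5, 62), (false, 393, 2, 17), (false, 393, 2, 56), (false, 393, 2, 61), (false, 408, 4, 0), (false, 408, 4, 3), (false, 408, 4, 8), (false, 408, 4, 17), (false, 408, 4, 10), (false, 408, 4, 5), (false, 408, 4, 9),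 (false, 408, 4, 38), (false, 408, 4, 71)] 0 (ones 77) = true :=
  by decide +kernel

theorem done_j20 : doneC.JustS Cfsg.Agent.CO2T.TM.π 20 (ones 77) :=
  TC.cover_step Cfsg.Agent.CO2T.TM.spec done_s (TC.justS_zero 20) done_c20_0

theorem done_c21_0 : doneC.coverC Cfsg.Agent.CO2T.TM.act 21 true [] [(false, 65, 0, 1), (false, 65, 0, 3), (false, 65, 0, 29), (false, 65, 0, 19), (false, 65, 0, 30), (false, 65, 0, 21), (false, 65, 0, 20), (false, 65, 0, 67), (false, 65, 0, 74), (false, 456, 5, 5), (false, 456, 5, 39), (false, 456, 5, 34), (false, 456, 5, 49), (false, 456, 5, 53), (false, 456, 5, 66), (false, 456, 5, 33), (false, 456, 5, 48), (false, 456, 5, 50), (false, 456, 5, 38), (false, 456, 7, 9), (false, 456, 7, 46), (false, 456, 7, 71), (false, 456, 7, 65), (false, 456, 7, 55), (false, 456, 7, 57), (false, 456, 7, 56), (false, 456, 7, 59), (false, 457, 1, 59), (false, 457, 1, 56), (false, 457, 1, 71), (false,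 457, 1, 55), (false, 457, 3, 38), (false, 468, 4, 19), (false, 468, 4, 22), (false, 468, 4, 62), (false, 468, 4, 40), (false, 469, 6, 19), (false, 469, 6, 22), (false, 469, 6, 40), (false, 471, 1, 24), (false, 471, 1, 2), (false, 471, 1, 56), (false, 471, 1, 74), (false, 471, 1, 61), (false, 471, 1, 51), (false, 471, 10, 18), (false, 471, 10, 27), (false, 471, 10, 34), (false, 471, 10, 40), (false, 471, 10, 58), (false, 471, 10, 69), (false, 472, 0, 34), (false, 480, 5, 7), (false, 480, 5, 11), (false, 480, 5, 41), (false, 480, 7, 5), (false, 480, 7, 9), (false, 480, 7, 16), (false, 481, 5, 16), (false, 483, 14, 70), (false, 483, 14, 50), (false, 483, 16, 6), (false, 483, 16, 49), (false, 483, 16, 72), (false, 484, 0, 6), (false, 484, 0, 72), (false, 486, 3, 23), (false, 487, 0, 61)] 0 (ones 77) = true :=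
  by decide +kernel

theorem done_j21 : doneC.JustS Cfsg.Agent.CO2T.TM.π 21 (ones 77) :=
  TC.cover_step Cfsg.Agent.CO2T.TM.spec done_s (TC.justS_zero 21) done_c21_0

theorem done_c22_0 : doneC.coverC Cfsg.Agent.CO2T.TM.act 22 true [(348, 0)] [(false, 68, 0, 2)] 0 (ones 77) = true :=
  by decide +kernel

theorem done_j22 : doneC.JustS Cfsg.Agent.CO2T.TM.π 22 (ones 77) :=
  TC.cover_step Cfsg.Agent.CO2T.TM.spec done_s (TC.justS_zero 22) done_c22_0

theorem done : doneC.Done Cfsg.Agent.CO2T.TM.π :=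
  TC.done_of Cfsg.Agent.CO2T.TM.spec sat done_s ⟨done_j0, done_j1, done_j2, done_j3, done_j4, done_j5, done_j6, done_j7, done_j8, done_j9, done_j10, done_j11, done_j12, done_j13, done_j14, done_j15, done_j16, done_j17, done_j18, done_j19, done_j20, done_j21, done_j22, trivial⟩

end TM

def wsTM : List (List ℕ) := [[0], [1], [2], [3], [5], [6], [7], [8], [9], [10], [11], [12], [13], [14], [15], [16], [17], [18], [19], [20], [21], [22], [23]]

theorem TM_x : satC val II [MA, M1] (invW II [8, 11, 2, 22, 8, 11, 2, 22, 8, 11, 2, 22, 8, 11, 2, 22, 8, 11, 2, 22] :: [8, 11, 2, 22, 8, 11, 2, 22, 8, 11, 2, 22, 8, 11, 2, 22, 8, 11, 2, 22] :: [invW II [11, 1, 22, 11, 1, 22, 11, 1, 22, 11, 1, 22], [11, 1, 22, 11, 1, 22, 11, 1, 22, 11, 1, 22], [23, 22, 12, 0, 22]]) PTM wsTM (List.replicate 163 []) = true :=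
  by decide +kernel

def LTM : List (List ℕ) := [[21, 10, 21], [21, 13, 22], [12, 11, 21], [22, 0, 22], [1, 13, 21], [12, 21], [2, 21, 10, 21], [22, 13, 10, 21], [21, 12, 21], [21, 11, 22], [0, 12, 21], [21, 0, 22], [2, 10, 21], [13, 10, 21], [0, 10, 21], [], [15, 0, 22], [22, 0, 10, 21], [21, 13, 10, 21], [0, 22], [13, 2, 10, 21], [2, 0, 10, 21], [12, 21, 10, 21], [2, 11, 21], [11, 21], [11, 22], [22, 13, 21], [13, 21], [21], [10, 21], [13, 0, 10, 21], [21, 0, 10, 21], [12, 0, 22], [21, 13, 21], [2, 11, 22], [13, 22], [10, 0, 22], [22, 11, 21], [22]]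

theorem TM_c : band (band ([MA, M1].elem M1) (supOnC wsTM M2 25))
    (stepC val II M1 25 wsTM TM.doneC.loops [15] LTM TM.doneC.n) = true :=
  by decide +kernel

def PTT : Pres := ⟨[0, 1, 2, 3, 4, 5, 6, 7, 8, 9, 10, 11, 12, 13, 14, 15, 16, 17, 18],
  [[2, 3, 13],
   [0, 4, 0, 4],
   [0, 8, 0, 8],
   [0, 12, 0, 12],
   [0, 13, 0, 13],
   [0, 14, 0, 15],
   [0, 16, 0, 16],
   [0, 17, 2, 17],
   [0, 18, 3, 18],
   [1, 6, 1, 6],
   [1, 7, 1, 7],
   [1, 10, 1, 10],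
   [1, 12, 1, 12],
   [1, 13, 1, 14],
   [1, 15, 1, 15],
   [1, 16, 1, 16],
   [3, 5, 3, 5],
   [4, 17, 4, 17],
   [5, 11, 5, 11],
   [6, 11, 6, 11],
   [6, 17, 6, 17],
   [7, 11, 7, 11],
   [8, 11, 8, 11],
   [9, 11, 9, 11],
   [10, 11, 10, 11],
   [14, 17, 14, 17],
   [1, 4, 1, 4, 6],
   [13, 14, 17, 15, 17],
   [13, 17, 14, 15, 17],
   [0, 1, 0, 1, 0, 1],
   [0, 14, 15, 17, 3, 17],
   [4, 9, 10, 18, 9, 18],
   [4, 9, 17, 4, 17, 9],
   [6, 11, 18, 11, 18, 12],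
   [13, 15, 16, 17, 16, 17],
   [12, 15, 14, 13, 17, 12, 17],
   [0, 1, 3, 1, 0, 17, 1, 17],
   [0, 14, 15, 17, 9, 3, 9, 17],
   [1, 11, 10, 17, 11, 17, 11, 17],
   [4, 6, 7, 12, 15, 17, 7, 17],
   [16, 18, 15, 17, 18, 13, 16, 17],
   [4, 5, 6, 12, 15, 14, 17, 5, 17],
   [4, 5, 6, 12, 17, 9, 13, 9, 17],
   [4, 5, 7, 13, 17, 9, 15, 9, 17],
   [4, 6, 7, 13, 17, 9, 14, 9, 17],
   [9, 12, 9, 17, 12, 15, 14, 13, 17],
   [0, 1, 0, 3, 1, 0, 10, 17, 10, 17],
   [0, 2, 14, 15, 12, 8, 6, 17, 8, 17],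
   [3, 12, 9, 8, 5, 17, 9, 17, 9, 17],
   [4, 6, 7, 12, 15, 17, 9, 7, 9, 17],
   [6, 7, 12, 16, 13, 17, 9, 16, 9, 17],
   [6, 9, 17, 6, 12, 15, 14, 13, 17, 9],
   [0, 1, 3, 1, 0, 17, 9, 1, 11, 9, 17],
   [0, 9, 17, 0, 14, 15, 12, 8, 6, 17, 9],
   [4, 5, 6, 12, 15, 14, 17, 9, 5, 9, 17],
   [0, 1, 0, 3, 1, 0, 10, 17, 9, 10, 9, 17],
   [0, 2, 14, 15, 12, 8, 6, 17, 9, 8, 9, 17],
   [0, 14, 15, 12, 6, 5, 4, 17, 9, 2, 9, 17],
   [0, 1, 17, 11, 0, 11, 9, 17, 10, 12, 2, 1, 3]]⟩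

namespace TT
noncomputable def m0_0 : ℕ := nat_lit 0x8

noncomputable def net0 : Net := (.cons 1 m0_0 .nil)

theorem ok0 : Net.ok 5 net0 = true :=
  by decide +kernel

noncomputable def m1_0 : ℕ := nat_lit 0x4

noncomputable def net1 : Net := (.cons 1 m1_0 .nil)

theorem ok1 : Net.ok 5 net1 = true :=
  by decide +kernel

noncomputable def m2_0 : ℕ := nat_lit 0x8

noncomputable def net2 : Net := (.cons 1 m2_0 .nil)

theorem ok2 : Net.ok 5 net2 = true :=
  by decide +kernel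

noncomputable def m3_0 : ℕ := nat_lit 0x8

noncomputable def net3 : Net := (.cons 1 m3_0 .nil)

theorem ok3 : Net.ok 5 net3 = true :=
  by decide +kernel

noncomputable def net4 : Net := .nil

theorem ok4 : Net.ok 5 net4 = true :=
  by decide +kernel

noncomputable def net5 : Net := .nil

theorem ok5 : Net.ok 5 net5 = true :=
  by decide +kernel

noncomputable def net6 : Net := .nil

theorem ok6 : Net.ok 5 net6 = true :=
  by decide +kernel

noncomputable def net7 : Net := .nil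

theorem ok7 : Net.ok 5 net7 = true :=
  by decide +kernel

noncomputable def net8 : Net := .nil

theorem ok8 : Net.ok 5 net8 = true :=
  by decide +kernel

noncomputable def m9_0 : ℕ := nat_lit 0xa

noncomputable def net9 : Net := (.cons 1 m9_0 .nil)

theorem ok9 : Net.ok 5 net9 = true :=
  by decide +kernel

noncomputable def net10 : Net := .nil

theorem ok10 : Net.ok 5 net10 = true :=
  by decide +kernel

noncomputable def m11_0 : ℕ := nat_lit 0xa

noncomputable def m11_1 : ℕ := nat_lit 0x4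

noncomputable def m11_2 : ℕ := nat_lit 0xa

noncomputable def m11_3 : ℕ := nat_lit 0x4

noncomputable def net11 : Net := (.cons 1 m11_0 (.cons 1 m11_1 (.cons 1 m11_2 (.cons 1 m11_3 .nil))))

theorem ok11 : Net.ok 5 net11 = true :=
  by decide +kernel

noncomputable def net12 : Net := .nil

theorem ok12 : Net.ok 5 net12 = true :=
  by decide +kernel

noncomputable def net13 : Net := .nil

theorem ok13 : Net.ok 5 net13 = true :=
  by decide +kernel

noncomputable def net14 : Net := .nil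

theorem ok14 : Net.ok 5 net14 = true :=
  by decide +kernel

noncomputable def net15 : Net := .nil

theorem ok15 : Net.ok 5 net15 = true :=
  by decide +kernel

noncomputable def net16 : Net := .nil

theorem ok16 : Net.ok 5 net16 = true :=
  by decide +kernel

noncomputable def m17_0 : ℕ := nat_lit 0x1

noncomputable def net17 : Net := (.cons 1 m17_0 .nil)

theorem ok17 : Net.ok 5 net17 = true :=
  by decide +kernel

noncomputable def net18 : Net := .nil

theorem ok18 : Net.ok 5 net18 = true :=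
  by decide +kernel

noncomputable def nets : List Net := [net0, net1, net2, net3, net4, net5, net6, net7, net8, net9, net10, net11, net12, net13, net14, net15, net16, net17, net18]

noncomputable def act : Act := netAct' nets
noncomputable def π : ℕ → Equiv.Perm ℕ := netPerm nets

theorem spec : act.Spec 5 π :=
  spec_fast (netAct_spec (AllP.forall (p := fun t => Net.ok 5 t = true) ⟨ok0, ok1, ok2, ok3, ok4, ok5, ok6, ok7, ok8, ok9, ok10, ok11, ok12, ok13, ok14, ok15, ok16, ok17, ok18, trivial⟩))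

theorem out : ∀ k, 19 ≤ k → π k = 1 :=
  netPerm_out nets

theorem sat_inv_0 : invC Cfsg.Agent.CO2T.TT.act Cfsg.Agent.CO2T.PTT.I 5 3 Cfsg.Agent.CO2T.PTT.inv.length [0, 1, 2] = true :=
  by decide +kernel

theorem sat_inv : ∀ k, Cfsg.Agent.CO2T.TT.π (Cfsg.Agent.CO2T.PTT.I k) * Cfsg.Agent.CO2T.TT.π k = 1 :=
  inv_of_checks Cfsg.Agent.CO2T.TT.spec (K := 3) (by decide) Cfsg.Agent.CO2T.TT.out [[0, 1, 2]] (by decide) ⟨sat_inv_0, trivial⟩

theorem sat_rel_0_0 : relsC Cfsg.Agent.CO2T.TT.act Cfsg.Agent.CO2T.PTT.I 5 3 [[2, 3, 13], [0, 4, 0, 4], [0, 8, 0, 8], [0, 12, 0, 12], [0, 13, 0, 13], [0, 14, 0, 15], [0, 16, 0, 16], [0, 17, 2, 17], [0, 18, 3, 18], [1, 6, 1, 6], [1, 7, 1, 7], [1, 10, 1, 10], [1, 12, 1, 12], [1, 13, 1, 14], [1, 15, 1, 15], [1, 16, 1, 16], [3, 5, 3, 5], [4, 17, 4, 17], [5, 11, 5, 11], [6, 11, 6, 11], [6, 17, 6, 17], [7, 11, 7, 11], [8, 11, 8, 11], [9, 11, 9, 11], [10, 11, 10, 11], [14, 17, 14, 17],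 [1, 4, 1, 4, 6], [13, 14, 17, 15, 17], [13, 17, 14, 15, 17], [0, 1, 0, 1, 0, 1], [0, 14, 15, 17, 3, 17], [4, 9, 10, 18, 9, 18], [4, 9, 17, 4, 17, 9], [6, 11, 18, 11, 18, 12], [13, 15, 16, 17, 16, 17], [12, 15, 14, 13, 17, 12, 17], [0, 1, 3, 1, 0, 17, 1, 17], [0, 14, 15, 17, 9, 3, 9, 17], [1, 11, 10, 17, 11, 17, 11, 17], [4, 6, 7, 12, 15, 17, 7, 17], [16, 18, 15, 17, 18, 13, 16, 17], [4, 5, 6, 12, 15, 14, 17, 5, 17], [4, 5, 6, 12, 17, 9, 13, 9, 17], [4, 5, 7, 13, 17, 9, 15, 9, 17], [4, 6, 7, 13, 17, 9, 14, 9, 17], [9, 12, 9, 17, 12, 15, 14, 13, 17], [0, 1, 0, 3, 1, 0, 10, 17, 10, 17], [0, 2, 14, 15, 12, 8, 6, 17, 8, 17], [3, 12, 9, 8, 5, 17, 9, 17, 9, 17], [4, 6, 7, 12, 15, 17, 9, 7, 9, 17], [6, 7, 12, 16, 13, 17, 9, 16, 9, 17], [6, 9, 17, 6, 12, 15, 14, 13, 17, 9], [0, 1, 3, 1, 0, 17, 9, 1, 11, 9, 17], [0, 9, 17, 0, 14, 15, 12, 8, 6, 17, 9], [4, 5, 6, 12, 15, 14, 17, 9, 5, 9, 17], [0, 1, 0, 3, 1, 0, 10, 17,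 9, 10, 9, 17], [0, 2, 14, 15, 12, 8, 6, 17, 9, 8, 9, 17], [0, 14, 15, 12, 6, 5, 4, 17, 9, 2, 9, 17], [0, 1, 17, 11, 0, 11, 9, 17, 10, 12, 2, 1, 3]] [0, 1, 2] = true :=
  by decide +kernel

theorem sat_rel_0 : ∀ r ∈ ([[2, 3, 13], [0, 4, 0, 4], [0, 8, 0, 8], [0, 12, 0, 12], [0, 13, 0, 13], [0, 14, 0, 15], [0, 16, 0, 16], [0, 17, 2, 17], [0, 18, 3, 18], [1, 6, 1, 6], [1, 7, 1, 7], [1, 10, 1, 10], [1, 12, 1, 12], [1, 13, 1, 14], [1, 15, 1, 15], [1, 16, 1, 16], [3, 5, 3, 5], [4, 17, 4, 17], [5, 11, 5, 11], [6, 11, 6, 11], [6, 17, 6, 17], [7, 11, 7, 11], [8, 11, 8, 11], [9, 11, 9, 11], [10, 11, 10, 11], [14, 17, 14, 17], [1, 4, 1, 4, 6], [13, 14, 17, 15, 17], [13, 17, 14, 15, 17], [0, 1, 0, 1, 0, 1], [0, 14, 15, 17, 3, 17], [4, 9, 10, 18, 9, 18], [4, 9, 17, 4, 17, 9], [6, 11, 18, 11, 18, 12], [13, 15, 16, 17, 16, 17], [12, 15, 14, 13, 17, 12, 17], [0, 1, 3, 1, 0, 17, 1, 17], [0, 14, 15, 17, 9, 3, 9, 17], [1, 11, 10,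 17, 11, 17, 11, 17], [4, 6, 7, 12, 15, 17, 7, 17], [16, 18, 15, 17, 18, 13, 16, 17], [4, 5, 6, 12, 15, 14, 17, 5, 17], [4, 5, 6, 12, 17, 9, 13, 9, 17], [4, 5, 7, 13, 17, 9, 15, 9, 17], [4, 6, 7, 13, 17, 9, 14, 9, 17], [9, 12, 9, 17, 12, 15, 14, 13, 17], [0, 1, 0, 3, 1, 0, 10, 17, 10, 17], [0, 2, 14, 15, 12, 8, 6, 17, 8, 17], [3, 12, 9, 8, 5, 17, 9, 17, 9, 17], [4, 6, 7, 12, 15, 17, 9, 7, 9, 17], [6, 7, 12, 16, 13, 17, 9, 16, 9, 17], [6, 9, 17, 6, 12, 15, 14, 13, 17, 9], [0, 1, 3, 1, 0, 17, 9, 1, 11, 9, 17], [0, 9, 17, 0, 14, 15, 12, 8, 6, 17, 9], [4, 5, 6, 12, 15, 14, 17, 9, 5, 9, 17], [0, 1, 0, 3, 1, 0, 10, 17, 9, 10, 9, 17], [0, 2, 14, 15, 12, 8, 6, 17, 9, 8, 9, 17], [0, 14, 15, 12, 6, 5, 4, 17, 9, 2, 9, 17], [0, 1, 17, 11, 0, 11, 9, 17, 10, 12, 2, 1, 3]] : List (List ℕ)), ev Cfsg.Agent.CO2T.TT.π r = 1 :=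
  rels_of_checks Cfsg.Agent.CO2T.TT.spec (K := 3) (by decide) sat_inv _ [[0, 1, 2]] (by decide) ⟨sat_rel_0_0, trivial⟩

theorem sat_rel : ∀ r ∈ ([[2, 3, 13], [0, 4, 0, 4], [0, 8, 0, 8], [0, 12, 0, 12], [0, 13, 0, 13], [0, 14, 0, 15], [0, 16, 0, 16], [0, 17, 2, 17], [0, 18, 3, 18], [1, 6, 1, 6], [1, 7, 1, 7], [1, 10, 1, 10], [1, 12, 1, 12], [1, 13, 1, 14], [1, 15, 1, 15], [1, 16, 1, 16], [3, 5, 3, 5], [4, 17, 4, 17], [5, 11, 5, 11], [6, 11, 6, 11], [6, 17, 6, 17], [7, 11, 7, 11], [8, 11, 8, 11], [9, 11, 9, 11], [10, 11, 10, 11], [14, 17, 14, 17], [1, 4, 1, 4, 6], [13, 14, 17, 15, 17], [13, 17, 14, 15, 17], [0, 1, 0, 1, 0, 1], [0, 14, 15, 17, 3, 17], [4, 9, 10, 18, 9, 18], [4, 9, 17, 4, 17, 9], [6, 11, 18, 11, 18, 12], [13, 15, 16, 17, 16, 17], [12, 15, 14, 13, 17, 12, 17], [0, 1, 3, 1, 0, 17, 1, 17], [0, 14, 15, 17, 9, 3, 9, 17], [1, 11, 10, 17, 11, 17, 11, 17], [4, 6, 7, 12, 15, 17, 7, 17], [16, 18, 15, 17,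 18, 13, 16, 17], [4, 5, 6, 12, 15, 14, 17, 5, 17], [4, 5, 6, 12, 17, 9, 13, 9, 17], [4, 5, 7, 13, 17, 9, 15, 9, 17], [4, 6, 7, 13, 17, 9, 14, 9, 17], [9, 12, 9, 17, 12, 15, 14, 13, 17], [0, 1, 0, 3, 1, 0, 10, 17, 10, 17], [0, 2, 14, 15, 12, 8, 6, 17, 8, 17], [3, 12, 9, 8, 5, 17, 9, 17, 9, 17], [4, 6, 7, 12, 15, 17, 9, 7, 9, 17], [6, 7, 12, 16, 13, 17, 9, 16, 9, 17], [6, 9, 17, 6, 12, 15, 14, 13, 17, 9], [0, 1, 3, 1, 0, 17, 9, 1, 11, 9, 17], [0, 9, 17, 0, 14, 15, 12, 8, 6, 17, 9], [4, 5, 6, 12, 15, 14, 17, 9, 5, 9, 17], [0, 1, 0, 3, 1, 0, 10, 17, 9, 10, 9, 17], [0, 2, 14, 15, 12, 8, 6, 17, 9, 8, 9, 17], [0, 14, 15, 12, 6, 5, 4, 17, 9, 2, 9, 17], [0, 1, 17, 11, 0, 11, 9, 17, 10, 12, 2, 1, 3]] : List (List ℕ)), ev Cfsg.Agent.CO2T.TT.π r = 1 :=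
  rels_join [[[2, 3, 13], [0, 4, 0, 4], [0, 8, 0, 8], [0, 12, 0, 12], [0, 13, 0, 13], [0, 14, 0, 15], [0, 16, 0, 16], [0, 17, 2, 17], [0, 18, 3, 18], [1, 6, 1, 6], [1, 7, 1, 7], [1, 10, 1, 10], [1, 12, 1, 12], [1, 13, 1, 14], [1, 15, 1, 15], [1, 16, 1, 16], [3, 5, 3, 5], [4, 17, 4, 17], [5, 11, 5, 11], [6, 11, 6, 11], [6, 17, 6, 17], [7, 11, 7, 11], [8, 11, 8, 11], [9, 11, 9, 11], [10, 11, 10, 11], [14, 17, 14, 17], [1, 4, 1, 4, 6], [13, 14, 17, 15, 17], [13, 17, 14, 15, 17], [0, 1, 0, 1, 0, 1], [0, 14, 15, 17, 3, 17], [4, 9, 10, 18, 9, 18], [4, 9, 17, 4, 17, 9], [6, 11, 18, 11, 18, 12], [13, 15, 16, 17, 16, 17], [12, 15, 14, 13, 17, 12, 17], [0, 1, 3, 1, 0, 17, 1, 17], [0, 14, 15, 17, 9, 3, 9, 17], [1, 11, 10, 17, 11, 17, 11, 17], [4, 6, 7, 12, 15, 17, 7, 17], [16, 18, 15, 17, 18, 13, 16, 17], [4, 5, 6, 12, 15, 14, 17, 5, 17], [4, 5, 6, 12, 17, 9, 13, 9, 17], [4, 5, 7, 13, 17, 9, 15, 9, 17], [4, 6, 7, 13, 17,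 9, 14, 9, 17], [9, 12, 9, 17, 12, 15, 14, 13, 17], [0, 1, 0, 3, 1, 0, 10, 17, 10, 17], [0, 2, 14, 15, 12, 8, 6, 17, 8, 17], [3, 12, 9, 8, 5, 17, 9, 17, 9, 17], [4, 6, 7, 12, 15, 17, 9, 7, 9, 17], [6, 7, 12, 16, 13, 17, 9, 16, 9, 17], [6, 9, 17, 6, 12, 15, 14, 13, 17, 9], [0, 1, 3, 1, 0, 17, 9, 1, 11, 9, 17], [0, 9, 17, 0, 14, 15, 12, 8, 6, 17, 9], [4, 5, 6, 12, 15, 14, 17, 9, 5, 9, 17], [0, 1, 0, 3, 1, 0, 10, 17, 9, 10, 9, 17], [0, 2, 14, 15, 12, 8, 6, 17, 9, 8, 9, 17], [0, 14, 15, 12, 6, 5, 4, 17, 9, 2, 9, 17], [0, 1, 17, 11, 0, 11, 9, 17, 10, 12, 2, 1, 3]]] ⟨sat_rel_0, trivial⟩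

theorem sat : Sat Cfsg.Agent.CO2T.PTT Cfsg.Agent.CO2T.TT.π :=
  ⟨Cfsg.Agent.CO2T.TT.out, sat_inv, sat_rel⟩

noncomputable def done_tr0 : ℕ := nat_lit 0x10

noncomputable def done_tr1 : ℕ := nat_lit 0xe

noncomputable def done_tr2 : ℕ := nat_lit 0

noncomputable def done_tr3 : ℕ := nat_lit 0x4

noncomputable def done_tr4 : ℕ := nat_lit 0x2

noncomputable def done_t0_0 : ℕ := nat_lit 0x9

noncomputable def done_t0_1 : ℕ := nat_lit 0x6

noncomputable def done_t0_2 : ℕ := nat_lit 0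

noncomputable def done_t1_0 : ℕ := nat_lit 0x15

noncomputable def done_t1_1 : ℕ := nat_lit 0x12

noncomputable def done_t1_2 : ℕ := nat_lit 0

noncomputable def done_t2_0 : ℕ := nat_lit 0x1

noncomputable def done_t2_1 : ℕ := nat_lit 0x6

noncomputable def done_t2_2 : ℕ := nat_lit 0x18

noncomputable def done_t3_0 : ℕ := nat_lit 0x19

noncomputable def done_t3_1 : ℕ := nat_lit 0x1e

noncomputable def done_t3_2 : ℕ := nat_lit 0

noncomputable def done_t4_0 : ℕ := nat_lit 0x9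

noncomputable def done_t4_1 : ℕ := nat_lit 0xe

noncomputable def done_t4_2 : ℕ := nat_lit 0x10

noncomputable def done_t5_0 : ℕ := nat_lit 0x9

noncomputable def done_t5_1 : ℕ := nat_lit 0xe

noncomputable def done_t5_2 : ℕ := nat_lit 0x10

noncomputable def done_t6_0 : ℕ := nat_lit 0x9

noncomputable def done_t6_1 : ℕ := nat_lit 0xe

noncomputable def done_t6_2 : ℕ := nat_lit 0x10

noncomputable def done_t7_0 : ℕ := nat_lit 0x9

noncomputable def done_t7_1 : ℕ := nat_lit 0xe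

noncomputable def done_t7_2 : ℕ := nat_lit 0x10

noncomputable def done_t8_0 : ℕ := nat_lit 0x9

noncomputable def done_t8_1 : ℕ := nat_lit 0xe

noncomputable def done_t8_2 : ℕ := nat_lit 0x10

noncomputable def done_t9_0 : ℕ := nat_lit 0x3

noncomputable def done_t9_1 : ℕ := nat_lit 0

noncomputable def done_t9_2 : ℕ := nat_lit 0x18

noncomputable def done_t10_0 : ℕ := nat_lit 0x9

noncomputable def done_t10_1 : ℕ := nat_lit 0xe

noncomputable def done_t10_2 : ℕ := nat_lit 0x10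

noncomputable def done_t11_0 : ℕ := nat_lit 0x13

noncomputable def done_t11_1 : ℕ := nat_lit 0x1e

noncomputable def done_t11_2 : ℕ := nat_lit 0

noncomputable def done_t12_0 : ℕ := nat_lit 0x9

noncomputable def done_t12_1 : ℕ := nat_lit 0xe

noncomputable def done_t12_2 : ℕ := nat_lit 0x10

noncomputable def done_t13_0 : ℕ := nat_lit 0x9

noncomputable def done_t13_1 : ℕ := nat_lit 0xe

noncomputable def done_t13_2 : ℕ := nat_lit 0x10

noncomputable def done_t14_0 : ℕ := nat_lit 0x9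

noncomputable def done_t14_1 : ℕ := nat_lit 0xe

noncomputable def done_t14_2 : ℕ := nat_lit 0x10

noncomputable def done_t15_0 : ℕ := nat_lit 0x9

noncomputable def done_t15_1 : ℕ := nat_lit 0xe

noncomputable def done_t15_2 : ℕ := nat_lit 0x10

noncomputable def done_t16_0 : ℕ := nat_lit 0x9

noncomputable def done_t16_1 : ℕ := nat_lit 0xe

noncomputable def done_t16_2 : ℕ := nat_lit 0x10

noncomputable def done_t17_0 : ℕ := nat_lit 0x9

noncomputable def done_t17_1 : ℕ := nat_lit 0xc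

noncomputable def done_t17_2 : ℕ := nat_lit 0x10

noncomputable def done_t18_0 : ℕ := nat_lit 0xb

noncomputable def done_t18_1 : ℕ := nat_lit 0x2

noncomputable def done_t18_2 : ℕ := nat_lit 0x1c

noncomputable def doneC : TC := ⟨Cfsg.Agent.CO2T.PTT, [[0], [1], [2], [3], [4], [5], [6], [7], [8], [9], [10], [11], [12], [13], [14], [15], [16], [18]], 5, 5, 3, 3, [done_tr0, done_tr1, done_tr2, done_tr3, done_tr4],
  [[done_t0_0, done_t0_1, done_t0_2],
   [done_t1_0, done_t1_1, done_t1_2],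
   [done_t2_0, done_t2_1, done_t2_2],
   [done_t3_0, done_t3_1, done_t3_2],
   [done_t4_0, done_t4_1, done_t4_2],
   [done_t5_0, done_t5_1, done_t5_2],
   [done_t6_0, done_t6_1, done_t6_2],
   [done_t7_0, done_t7_1, done_t7_2],
   [done_t8_0, done_t8_1, done_t8_2],
   [done_t9_0, done_t9_1, done_t9_2],
   [done_t10_0, done_t10_1, done_t10_2],
   [done_t11_0, done_t11_1, done_t11_2],
   [done_t12_0, done_t12_1, done_t12_2],
   [done_t13_0, done_t13_1, done_t13_2],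
   [done_t14_0, done_t14_1, done_t14_2],
   [done_t15_0, done_t15_1, done_t15_2],
   [done_t16_0, done_t16_1, done_t16_2],
   [done_t17_0, done_t17_1, done_t17_2],
   [done_t18_0, done_t18_1, done_t18_2]]⟩

theorem done_s : doneC.structC Cfsg.Agent.CO2T.TT.act = true :=
  by decide +kernel

theorem done_c0_0 : doneC.coverC Cfsg.Agent.CO2T.TT.act 0 true [] [(true, 0, 0, 0), (false, 2, 0, 4), (false, 21, 0, 1), (false, 159, 0, 2)] 0 (ones 5) = true :=
  by decide +kernel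

theorem done_j0 : doneC.JustS Cfsg.Agent.CO2T.TT.π 0 (ones 5) :=
  TC.cover_step Cfsg.Agent.CO2T.TT.spec done_s (TC.justS_zero 0) done_c0_0

theorem done_c1_0 : doneC.coverC Cfsg.Agent.CO2T.TT.act 1 true [] [(true, 1, 0, 0), (false, 5, 0, 3), (false, 87, 1, 3), (false, 108, 6, 0)] 0 (ones 5) = true :=
  by decide +kernel

theorem done_j1 : doneC.JustS Cfsg.Agent.CO2T.TT.π 1 (ones 5) :=
  TC.cover_step Cfsg.Agent.CO2T.TT.spec done_s (TC.justS_zero 1) done_c1_0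

theorem done_c2_0 : doneC.coverC Cfsg.Agent.CO2T.TT.act 2 true [] [(true, 2, 0, 0), (false, 0, 0, 3), (false, 1, 2, 3), (false, 21, 2, 0), (false, 171, 9, 0)] 0 (ones 5) = true :=
  by decide +kernel

theorem done_j2 : doneC.JustS Cfsg.Agent.CO2T.TT.π 2 (ones 5) :=
  TC.cover_step Cfsg.Agent.CO2T.TT.spec done_s (TC.justS_zero 2) done_c2_0

theorem done_c3_0 : doneC.coverC Cfsg.Agent.CO2T.TT.act 3 true [] [(true, 3, 0, 0), (false, 90, 4, 0), (false, 111, 5, 0), (false, 138, 3, 2), (false, 139, 6, 2)] 0 (ones 5) = true :=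
  by decide +kernel

theorem done_j3 : doneC.JustS Cfsg.Agent.CO2T.TT.π 3 (ones 5) :=
  TC.cover_step Cfsg.Agent.CO2T.TT.spec done_s (TC.justS_zero 3) done_c3_0

theorem done_c4_0 : doneC.coverC Cfsg.Agent.CO2T.TT.act 4 true [] [(true, 4, 0, 0), (false, 3, 1, 3), (false, 51, 0, 1), (false, 78, 1, 2), (false, 96, 0, 2)] 0 (ones 5) = true :=
  by decide +kernel

theorem done_j4 : doneC.JustS Cfsg.Agent.CO2T.TT.π 4 (ones 5) :=
  TC.cover_step Cfsg.Agent.CO2T.TT.spec done_s (TC.justS_zero 4) done_c4_0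

theorem done_c5_0 : doneC.coverC Cfsg.Agent.CO2T.TT.act 5 true [] [(true, 5, 0, 0), (false, 48, 1, 3), (false, 54, 0, 3), (false, 123, 7, 0), (false, 162, 8, 0)] 0 (ones 5) = true :=
  by decide +kernel

theorem done_j5 : doneC.JustS Cfsg.Agent.CO2T.TT.π 5 (ones 5) :=
  TC.cover_step Cfsg.Agent.CO2T.TT.spec done_s (TC.justS_zero 5) done_c5_0

theorem done_c6_0 : doneC.coverC Cfsg.Agent.CO2T.TT.act 6 true [] [(true, 6, 0, 0), (false, 27, 1, 2), (false, 57, 0, 4), (false, 60, 0, 1), (false, 153, 0, 2)] 0 (ones 5) = true :=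
  by decide +kernel

theorem done_j6 : doneC.JustS Cfsg.Agent.CO2T.TT.π 6 (ones 5) :=
  TC.cover_step Cfsg.Agent.CO2T.TT.spec done_s (TC.justS_zero 6) done_c6_0

theorem done_c7_0 : doneC.coverC Cfsg.Agent.CO2T.TT.act 7 true [] [(true, 7, 0, 0), (false, 30, 1, 2), (false, 63, 0, 4), (false, 117, 6, 0), (false, 147, 7, 0)] 0 (ones 5) = true :=
  by decide +kernel

theorem done_j7 : doneC.JustS Cfsg.Agent.CO2T.TT.π 7 (ones 5) :=
  TC.cover_step Cfsg.Agent.CO2T.TT.spec done_s (TC.justS_zero 7) done_c7_0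

theorem done_c8_0 : doneC.coverC Cfsg.Agent.CO2T.TT.act 8 true [] [(true, 8, 0, 0), (false, 6, 1, 3), (false, 66, 0, 3), (false, 141, 8, 0), (false, 168, 9, 0)] 0 (ones 5) = true :=
  by decide +kernel

theorem done_j8 : doneC.JustS Cfsg.Agent.CO2T.TT.π 8 (ones 5) :=
  TC.cover_step Cfsg.Agent.CO2T.TT.spec done_s (TC.justS_zero 8) done_c8_0

theorem done_c9_0 : doneC.coverC Cfsg.Agent.CO2T.TT.act 9 true [] [(true, 9, 0, 0), (false, 29, 0, 2), (false, 69, 0, 4), (false, 69, 0, 3)] 0 (ones 5) = true :=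
  by decide +kernel

theorem done_j9 : doneC.JustS Cfsg.Agent.CO2T.TT.π 9 (ones 5) :=
  TC.cover_step Cfsg.Agent.CO2T.TT.spec done_s (TC.justS_zero 9) done_c9_0

theorem done_c10_0 : doneC.coverC Cfsg.Agent.CO2T.TT.act 10 true [] [(true, 10, 0, 0), (false, 33, 1, 2), (false, 72, 0, 4), (false, 138, 8, 0), (false, 165, 9, 0)] 0 (ones 5) = true :=
  by decide +kernel

theorem done_j10 : doneC.JustS Cfsg.Agent.CO2T.TT.π 10 (ones 5) :=
  TC.cover_step Cfsg.Agent.CO2T.TT.spec done_s (TC.justS_zero 10) done_c10_0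

theorem done_c11_0 : doneC.coverC Cfsg.Agent.CO2T.TT.act 11 true [] [(true, 11, 0, 0), (false, 156, 8, 0), (false, 157, 2, 0), (false, 174, 3, 0), (false, 175, 9, 0)] 0 (ones 5) = true :=
  by decide +kernel

theorem done_j11 : doneC.JustS Cfsg.Agent.CO2T.TT.π 11 (ones 5) :=
  TC.cover_step Cfsg.Agent.CO2T.TT.spec done_s (TC.justS_zero 11) done_c11_0

theorem done_c12_0 : doneC.coverC Cfsg.Agent.CO2T.TT.act 12 true [] [(true, 12, 0, 0), (false, 9, 1, 3), (false, 36, 1, 2), (false, 105, 5, 0), (false, 135, 1, 1)] 0 (ones 5) = true :=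
  by decide +kernel

theorem done_j12 : doneC.JustS Cfsg.Agent.CO2T.TT.π 12 (ones 5) :=
  TC.cover_step Cfsg.Agent.CO2T.TT.spec done_s (TC.justS_zero 12) done_c12_0

theorem done_c13_0 : doneC.coverC Cfsg.Agent.CO2T.TT.act 13 true [] [(true, 13, 0, 0), (false, 12, 1, 3), (false, 39, 1, 2), (false, 84, 0, 1), (false, 126, 6, 0)] 0 (ones 5) = true :=
  by decide +kernel

theorem done_j13 : doneC.JustS Cfsg.Agent.CO2T.TT.π 13 (ones 5) :=
  TC.cover_step Cfsg.Agent.CO2T.TT.spec done_s (TC.justS_zero 13) done_c13_0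

theorem done_c14_0 : doneC.coverC Cfsg.Agent.CO2T.TT.act 14 true [] [(true, 14, 0, 0), (false, 15, 1, 3), (false, 39, 3, 3), (false, 75, 0, 1), (false, 132, 6, 0)] 0 (ones 5) = true :=
  by decide +kernel

theorem done_j14 : doneC.JustS Cfsg.Agent.CO2T.TT.π 14 (ones 5) :=
  TC.cover_step Cfsg.Agent.CO2T.TT.spec done_s (TC.justS_zero 14) done_c14_0

theorem done_c15_0 : doneC.coverC Cfsg.Agent.CO2T.TT.act 15 true [] [(true, 15, 0, 0), (false, 15, 3, 4), (false, 42, 1, 2), (false, 81, 3, 0), (false, 129, 6, 0)] 0 (ones 5) = true :=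
  by decide +kernel

theorem done_j15 : doneC.JustS Cfsg.Agent.CO2T.TT.π 15 (ones 5) :=
  TC.cover_step Cfsg.Agent.CO2T.TT.spec done_s (TC.justS_zero 15) done_c15_0

theorem done_c16_0 : doneC.coverC Cfsg.Agent.CO2T.TT.act 16 true [] [(true, 16, 0, 0), (false, 18, 1, 3), (false, 45, 1, 2), (false, 102, 4, 0), (false, 150, 7, 0)] 0 (ones 5) = true :=
  by decide +kernel

theorem done_j16 : doneC.JustS Cfsg.Agent.CO2T.TT.π 16 (ones 5) :=
  TC.cover_step Cfsg.Agent.CO2T.TT.spec done_s (TC.justS_zero 16) done_c16_0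

theorem done_c17_0 : doneC.coverC Cfsg.Agent.CO2T.TT.act 17 true [] [(false, 53, 0, 1), (false, 90, 5, 4), (false, 114, 5, 2), (false, 144, 7, 0)] 0 (ones 5) = true :=
  by decide +kernel

theorem done_j17 : doneC.JustS Cfsg.Agent.CO2T.TT.π 17 (ones 5) :=
  TC.cover_step Cfsg.Agent.CO2T.TT.spec done_s (TC.justS_zero 17) done_c17_0

theorem done_c18_0 : doneC.coverC Cfsg.Agent.CO2T.TT.act 18 true [] [(true, 17, 0, 0), (false, 24, 1, 4), (false, 93, 3, 1), (false, 99, 2, 1), (false, 120, 1, 1)] 0 (ones 5) = true :=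
  by decide +kernel

theorem done_j18 : doneC.JustS Cfsg.Agent.CO2T.TT.π 18 (ones 5) :=
  TC.cover_step Cfsg.Agent.CO2T.TT.spec done_s (TC.justS_zero 18) done_c18_0

theorem done : doneC.Done Cfsg.Agent.CO2T.TT.π :=
  TC.done_of Cfsg.Agent.CO2T.TT.spec sat done_s ⟨done_j0, done_j1, done_j2, done_j3, done_j4, done_j5, done_j6, done_j7, done_j8, done_j9, done_j10, done_j11, done_j12, done_j13, done_j14, done_j15, done_j16, done_j17, done_j18, trivial⟩

end TT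

def wsTT : List (List ℕ) := [[1], [2], [3], [6], [7], [8], [9], [10], [11], [12], [13], [14], [15], [17], [18], [19], [20], [23], [24]]

theorem TT_x : satC val II [M2, MA, M1] [[20, 24, 19, 23, 24, 17, 20, 23]] PTT wsTT (List.replicate 59 []) = true :=
  by decide +kernel

def LTT : List (List ℕ) := [[], [9, 17], [17]]

theorem TT_c : band (band ([M2, MA, M1].elem M1) (supOnC wsTT 27197390 25))
    (stepC val II M1 25 wsTT TT.doneC.loops [15] LTT TT.doneC.n) = true :=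
  by decide +kernel

theorem Full.st3 {G : Type*} [Group G] [Finite G] {Q : Subgroup G} {t : G} {x : ℕ → G × MM}
    (h : Full Q t x) (hE : ∀ g : G, (∀ k ∈ [7, 8, 9, 10, 15], g * (x k).1 = (x k).1 * g) →
      ∃ b, g = (ev x (bw El b)).1) (hd : ∀ r ∈ relsD, ev x r = 1)
    (h23 : x 23 = ev x [22, 12, 0, 22]) : St x m val II [27197390, M2, M1] [] := by
  have o1 := stepS (Ss := [M1]) ⟨h.ov, ⟨h.gr, trivial⟩, allP_of hd⟩ h.out TA.done TA_x TA_c
  have e := exists_ee h o1 hE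
  have o2 := stepS (e.kill (e.kill (Ks := [[23, 22, 12, 0, 22]]) ⟨o1.toOv, o1.gr,
    (ev_cons x 23 _).trans (h23 ▸ h.ov.inv 23), trivial⟩ k4) k5) h.out TM.done TM_x TM_c
  have o3 := stepS (e.special (Ks := []) ⟨o2.toOv, o2.gr, trivial⟩) h.out TT.done TT_x TT_c
  exact ⟨o3.toOv, ⟨o3.gr.1, o3.gr.2.1, h.gr, trivial⟩, trivial⟩

end Cfsg.Agent.CO2T
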